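import Groth.Agent.Hensel.EtLike
import Mathlib.RingTheory.Polynomial.ScaleRoots
import Mathlib.RingTheory.IntegralClosure.IntegrallyClosed
import Mathlib.Algebra.Polynomial.Lifts

/-!
Normality ascends and descends along ind-etale local extensions.
-/

set_option autoImplicit false
universe u

open IsLocalRing TensorProduct Polynomial

namespace Groth.Agent.Hensel.IsEtLike

variable {R S : Type u} [CommRing R] [IsLocalRing R] [CommRing S] [IsLocalRing S] [Algebra R S]
variable (h : IsEtLike R S)
include h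

/-- If `z / r` is integral over `S` then `r` divides `z`, for `R` normal. -/
theorem exists_eq_mul_of_scaleRoots [IsDomain R] [IsIntegrallyClosed R] {r : R} (hr : r ≠ 0)
    {p : S[X]} (hp : p.Monic) {z : S} (hz : (p.scaleRoots (algebraMap R S r)).eval z = 0) :
    ∃ z', z = algebraMap R S r * z' := by
  classical
  obtain ⟨A, _, _, hA, θ, hθ⟩ := h.stage (insert z p.coeffs)
  obtain ⟨a, rfl⟩ := hθ z (Finset.mem_insert_self _ _)
  have hlift : p ∈ Polynomial.lifts θ.toRingHom := by
    rw [Polynomial.lifts_iff_coeff_lifts]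
    intro n
    by_cases hn : p.coeff n = 0
    · exact ⟨0, by rw [map_zero, hn]⟩
    · obtain ⟨b, hb⟩ := hθ _ (Finset.mem_insert_of_mem (Polynomial.coeff_mem_coeffs hn))
      exact ⟨b, hb⟩
  obtain ⟨q, hq, -, hqm⟩ := Polynomial.lifts_and_degree_eq_and_monic hlift hp
  set rA := algebraMap R A r
  have hθr : θ.toRingHom rA = algebraMap R S r := θ.commutes r
  have hE : θ ((q.scaleRoots rA).eval a) = 0 := by
    change θ.toRingHom _ = 0
    rw [← Polynomial.eval₂_at_apply, ← Polynomial.eval_map,
      Polynomial.map_scaleRoots _ _ _ (by rw [hqm.leadingCoeff, map_one]; exact one_ne_zero), hq, hθr]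
    exact hz
  obtain ⟨s, hs, hsE⟩ := h.exists_mul_eq_zero θ hE
  have hn : q.natDegree ≠ 0 := fun h0 => by
    rw [hqm.natDegree_eq_zero.1 h0] at hE
    simp at hE
  obtain ⟨m, hm⟩ := Nat.exists_eq_succ_of_ne_zero hn
  have hcomm : (q.scaleRoots s).scaleRoots rA = (q.scaleRoots rA).scaleRoots s := by
    ext i
    simp only [Polynomial.coeff_scaleRoots, Polynomial.natDegree_scaleRoots]
    ring
  have h0 : ((q.scaleRoots s).scaleRoots rA).eval (s * a) = 0 := by
    rw [hcomm, Polynomial.scaleRoots_eval_mul, Polynomial.natDegree_scaleRoots, hm, pow_succ,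
      mul_assoc, hsE, mul_zero]
  let K := FractionRing R
  let f : A →+* A ⊗[R] K := algebraMap A (A ⊗[R] K)
  have hrK : algebraMap R K r ≠ 0 := by
    simpa using hr
  have hf : ∀ b : A, f b = b ⊗ₜ[R] (1 : K) := fun b => rfl
  let x : A ⊗[R] K := (s * a) ⊗ₜ (algebraMap R K r)⁻¹
  have hfr : f rA = (1 : A) ⊗ₜ[R] algebraMap R K r := by
    show algebraMap R A r ⊗ₜ[R] (1 : K) = _
    rw [Algebra.algebraMap_eq_smul_one (A := A), Algebra.algebraMap_eq_smul_one (A := K), TensorProduct.smul_tmul]
  have hx : f rA * x = f (s * a) := by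
    rw [hfr, hf, Algebra.TensorProduct.tmul_mul_tmul, one_mul, mul_inv_cancel₀ hrK]
  have hu : IsUnit (f rA) := by
    rw [hfr]
    exact (IsUnit.mk0 _ hrK).map (Algebra.TensorProduct.includeRight : K →ₐ[R] A ⊗[R] K)
  have hint : IsIntegral A x := by
    refine ⟨q.scaleRoots s, (Polynomial.monic_scaleRoots_iff s).2 hqm, ?_⟩
    have h1 := Polynomial.scaleRoots_eval₂_mul (p := q.scaleRoots s) f x rA
    rw [hx, Polynomial.eval₂_at_apply, h0, map_zero] at h1
    exact (hu.pow _).mul_right_eq_zero.1 h1.symm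
  obtain ⟨y, hy⟩ := (TensorProduct.toIntegralClosure_bijective_of_smooth (R := R) (S := A) (B := K)).2
    ⟨x, hint⟩
  have hrange : ∀ y : A ⊗[R] integralClosure R K,
      (TensorProduct.toIntegralClosure R A K y).1 ∈ Set.range f := fun y => by
    induction y with
    | zero => exact ⟨0, by simp⟩
    | add v w hv hw =>
      obtain ⟨b, hb⟩ := hv
      obtain ⟨c, hc⟩ := hw
      exact ⟨b + c, by rw [map_add, map_add, hb, hc]; rfl⟩
    | tmul b c =>
      obtain ⟨t, ht⟩ := (IsIntegrallyClosed.isIntegral_iff (K := K)).1 c.2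
      refine ⟨t • b, ?_⟩
      rw [hf]
      show (t • b) ⊗ₜ[R] (1 : K) = b ⊗ₜ[R] c.1
      rw [← ht, TensorProduct.smul_tmul, ← Algebra.algebraMap_eq_smul_one]
  obtain ⟨b, hb⟩ := hrange y
  rw [hy] at hb
  have hab : s * a = rA * b := by
    have hinj : Function.Injective f :=
      Algebra.TensorProduct.includeLeft_injective (S := A) (IsFractionRing.injective R K)
    apply hinj
    rw [← hx, map_mul, hb]
  obtain ⟨v, hv⟩ := hs.exists_left_inv
  refine ⟨v * θ b, ?_⟩
  calc θ a = v * θ (s * a) := by rw [map_mul, ← mul_assoc, hv, one_mul]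
    _ = algebraMap R S r * (v * θ b) := by rw [hab, map_mul, θ.commutes]; ring

theorem isDomain_and_isIntegrallyClosed [IsDomain R] [IsIntegrallyClosed R] :
    IsDomain S ∧ IsIntegrallyClosed S := by
  haveI := h.flat
  let K := FractionRing R
  let ι : S →ₐ[R] K ⊗[R] S := Algebra.TensorProduct.includeRight
  have hι : Function.Injective ι :=
    Algebra.TensorProduct.includeRight_injective (IsFractionRing.injective R K)
  have hrep : ∀ x : K ⊗[R] S, ∃ (r : R) (z : S), r ≠ 0 ∧ x * ι (algebraMap R S r) = ι z := fun x => by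
    induction x using TensorProduct.induction_on with
    | zero => exact ⟨1, 0, one_ne_zero, by simp⟩
    | tmul k z =>
      obtain ⟨⟨n, d, hd⟩, hnd⟩ := IsLocalization.surj (nonZeroDivisors R) k
      refine ⟨d, algebraMap R S n * z, nonZeroDivisors.ne_zero hd, ?_⟩
      rw [AlgHom.commutes, Algebra.TensorProduct.algebraMap_apply, Algebra.TensorProduct.tmul_mul_tmul,
        mul_one, hnd, Algebra.algebraMap_eq_smul_one, TensorProduct.smul_tmul, ← Algebra.smul_def]
      rfl
    | add x y hx hy =>
      obtain ⟨r, z, hr, hx⟩ := hx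
      obtain ⟨r', z', hr', hy⟩ := hy
      refine ⟨r * r', algebraMap R S r' * z + algebraMap R S r * z', mul_ne_zero hr hr', ?_⟩
      simp only [map_add, map_mul]
      linear_combination ι (algebraMap R S r') * hx + ι (algebraMap R S r) * hy
  have key : ∀ (x : K ⊗[R] S) (p : S[X]), p.Monic → p.eval₂ ι.toRingHom x = 0 → ∃ z, x = ι z := by
    intro x p hp hx
    obtain ⟨r, z, hr, hrz⟩ := hrep x
    have h1 := Polynomial.scaleRoots_eval₂_eq_zero ι.toRingHom (s := algebraMap R S r) hx
    rw [show ι.toRingHom (algebraMap R S r) * x = ι.toRingHom z from (mul_comm _ _).trans hrz,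
      Polynomial.eval₂_at_apply] at h1
    obtain ⟨z', rfl⟩ := h.exists_eq_mul_of_scaleRoots hr hp ((map_eq_zero_iff _ hι).1 h1)
    refine ⟨z', ?_⟩
    have hu : IsUnit (ι (algebraMap R S r)) := by
      rw [AlgHom.commutes, IsScalarTower.algebraMap_apply R K]
      exact (IsUnit.mk0 _ (by simpa using hr)).map _
    apply hu.mul_left_injective
    change x * ι _ = ι z' * ι _
    rw [hrz, map_mul, mul_comm]
  have hunit : ∀ x : K ⊗[R] S, x ≠ 0 → IsUnit x := fun x hx => by
    obtain ⟨y, hy⟩ := h.exists_mul_mul_eq K x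
    have he : x * y * (x * y) = x * y := by linear_combination y * hy
    obtain ⟨e, he'⟩ := key (x * y) (X ^ 2 - X) (Polynomial.monic_X_pow_sub (by simp)) (by
      simp only [eval₂_sub, eval₂_X_pow, eval₂_X]
      linear_combination he)
    have hee : e * (1 - e) = 0 := hι (by
      rw [map_mul, map_sub, map_one, map_zero, ← he']
      linear_combination -he)
    rcases IsLocalRing.isUnit_or_isUnit_one_sub_self e with h1 | h1
    · have : e = 1 := (sub_eq_zero.1 (h1.mul_right_eq_zero.1 hee)).symm
      exact IsUnit.of_mul_eq_one y (by rw [he', this, map_one])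
    · exact absurd (by rw [← hy, mul_assoc, he', h1.mul_left_eq_zero.1 hee, map_zero, mul_zero]) hx
  haveI : Nontrivial (K ⊗[R] S) := hι.nontrivial
  haveI hdom : IsDomain S := by
    haveI : NoZeroDivisors S := ⟨fun {a b} hab => by
      by_contra hne
      push Not at hne
      have h1 := congrArg ι hab
      rw [map_mul, map_zero] at h1
      exact ((hunit _ ((map_ne_zero_iff _ hι).2 hne.1)).mul
        (hunit _ ((map_ne_zero_iff _ hι).2 hne.2))).ne_zero h1⟩
    exact NoZeroDivisors.to_isDomain S
  refine ⟨hdom, (isIntegrallyClosed_iff (FractionRing S)).2 fun {x} hx => ?_⟩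
  have hu : ∀ w : nonZeroDivisors S, IsUnit (ι.toRingHom w) := fun w =>
    hunit _ ((map_ne_zero_iff _ hι).2 (nonZeroDivisors.coe_ne_zero w))
  let ψ : FractionRing S →+* K ⊗[R] S := IsLocalization.lift hu
  obtain ⟨p, hp, hpx⟩ := hx
  obtain ⟨z, hz⟩ := key (ψ x) p hp (by
    rw [show ι.toRingHom = ψ.comp (algebraMap S (FractionRing S)) from (IsLocalization.lift_comp hu).symm,
      ← Polynomial.hom_eval₂, hpx, map_zero])
  refine ⟨z, ψ.injective ?_⟩
  rw [hz]
  exact IsLocalization.lift_eq hu z

theorem isIntegrallyClosed_base [IsDomain S] [IsIntegrallyClosed S] :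
    IsDomain R ∧ IsIntegrallyClosed R := by
  have hinj := h.algebraMap_injective
  haveI : IsDomain R := hinj.isDomain
  refine ⟨inferInstance, (isIntegrallyClosed_iff (FractionRing R)).2 fun {x} hx => ?_⟩
  obtain ⟨a, ⟨b, hb⟩, rfl⟩ := IsLocalization.exists_mk'_eq (nonZeroDivisors R) x
  have hb0 : algebraMap R S b ≠ 0 := (map_ne_zero_iff _ hinj).2 (nonZeroDivisors.ne_zero hb)
  let g : R →+* FractionRing S := (algebraMap S _).comp (algebraMap R S)
  have hg : ∀ w : nonZeroDivisors R, IsUnit (g w) := fun w => IsUnit.mk0 _ <| by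
    simpa [g] using (map_ne_zero_iff _ hinj).2 (nonZeroDivisors.coe_ne_zero w)
  let φ : FractionRing R →+* FractionRing S := IsLocalization.lift hg
  obtain ⟨p, hp, hpx⟩ := hx
  obtain ⟨z, hz⟩ := (isIntegrallyClosed_iff (FractionRing S)).1 inferInstance
    (x := φ (IsLocalization.mk' (FractionRing R) a ⟨b, hb⟩))
    ⟨p.map (algebraMap R S), hp.map _, by
      rw [Polynomial.eval₂_map, show (algebraMap S (FractionRing S)).comp (algebraMap R S) =
        φ.comp (algebraMap R (FractionRing R)) from (IsLocalization.lift_comp hg).symm,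
        ← Polynomial.hom_eval₂, hpx, map_zero]⟩
  have h1 : algebraMap R S a = algebraMap R S b * z := by
    apply IsFractionRing.injective S (FractionRing S)
    rw [map_mul, hz]
    have h2 := congrArg φ (IsLocalization.mk'_spec' (FractionRing R) a ⟨b, hb⟩)
    rw [map_mul, IsLocalization.lift_eq, IsLocalization.lift_eq] at h2
    exact h2.symm
  have h3 : a ∈ Ideal.span {b} := by
    rw [← h.comap_map_eq (Ideal.span {b}), Ideal.mem_comap, Ideal.map_span, Set.image_singleton, h1]
    exact Ideal.mul_mem_right _ _ (Ideal.mem_span_singleton_self _)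
  obtain ⟨c, rfl⟩ := Ideal.mem_span_singleton.1 h3
  exact ⟨c, IsLocalization.eq_mk'_iff_mul_eq.2 (by rw [← map_mul, mul_comm])⟩

theorem normal_iff : (IsDomain R ∧ IsIntegrallyClosed R) ↔ (IsDomain S ∧ IsIntegrallyClosed S) := by
  constructor
  · rintro ⟨_, _⟩; exact h.isDomain_and_isIntegrallyClosed
  · rintro ⟨_, _⟩; exact h.isIntegrallyClosed_base

end Groth.Agent.Hensel.IsEtLike
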