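import Groth.Agent.Hensel.EtaleLift
import Mathlib.RingTheory.Smooth.StandardSmoothOfFree
import Mathlib.RingTheory.Extension.Presentation.Submersive
import Mathlib.RingTheory.MvPolynomial.Basic

/-!
Lifting of (finite) etale algebras along henselian pairs.
-/

namespace Groth.Agent.Hensel

open MvPolynomial

universe u

/-- Etale algebras lift along any surjection. -/
theorem exists_etale_alg_lift (A : Type u) [CommRing A] (I : Ideal A)
    (C : Type u) [CommRing C] [Algebra (A ⧸ I) C] [Algebra A C] [IsScalarTower A (A ⧸ I) C]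
    [Algebra.Etale (A ⧸ I) C] :
    ∃ (S : Type u) (_ : CommRing S) (_ : Algebra A S), Algebra.Etale A S ∧
      ∃ φ : S →ₐ[A] C, Function.Surjective φ ∧ ∀ z, φ z = 0 → z ∈ I.map (algebraMap A S) := by
  have hC : Algebra.IsStandardSmoothOfRelativeDimension 0 (A ⧸ I) C :=
    Algebra.Etale.iff_isStandardSmoothOfRelativeDimension_zero.1 ‹_›
  obtain ⟨ι, σ, _, _, P, hP⟩ := hC.out
  let m : MvPolynomial ι A →+* MvPolynomial ι (A ⧸ I) := MvPolynomial.map (Ideal.Quotient.mk I)
  have hm : Function.Surjective m := MvPolynomial.map_surjective _ Ideal.Quotient.mk_surjective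
  choose v hv using fun j : σ ↦ hm (P.relation j)
  let S₀ := MvPolynomial ι A ⧸ Ideal.span (Set.range v)
  let P₀ : Algebra.PreSubmersivePresentation A S₀ ι σ :=
    Algebra.PreSubmersivePresentation.naive P.map P.map_inj
  have haeval : ∀ p : MvPolynomial ι A, aeval P.val p = algebraMap P.Ring C (m p) := fun p ↦ by
    rw [Algebra.Generators.algebraMap_apply]
    change _ = aeval P.val (MvPolynomial.map (algebraMap A (A ⧸ I)) p)
    rw [aeval_map_algebraMap]
  let φ₀ : S₀ →ₐ[A] C := Ideal.Quotient.liftₐ _ (aeval P.val) fun x hx ↦ by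
    have h1 : Ideal.span (Set.range v) ≤ RingHom.ker (aeval P.val : MvPolynomial ι A →ₐ[A] C).toRingHom := by
      refine Ideal.span_le.2 (Set.range_subset_iff.2 fun j ↦ ?_)
      change aeval P.val (v j) = 0
      rw [haeval, hv, Algebra.Generators.algebraMap_apply]
      exact P.aeval_val_relation j
    exact h1 hx
  have hφ₀ : ∀ p : MvPolynomial ι A, φ₀ (Ideal.Quotient.mk _ p) = algebraMap P.Ring C (m p) := haeval
  have hjac : φ₀ P₀.jacobian = P.jacobian := by
    classical
    cases nonempty_fintype σ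
    rw [P₀.jacobian_eq_jacobiMatrix_det, P.jacobian_eq_jacobiMatrix_det]
    change φ₀ (Ideal.Quotient.mk _ P₀.jacobiMatrix.det) = _
    rw [hφ₀, RingHom.map_det]
    congr 2
    refine Matrix.ext fun i j ↦ ?_
    rw [RingHom.mapMatrix_apply, Matrix.map_apply, P.jacobiMatrix_apply,
      Algebra.PreSubmersivePresentation.jacobiMatrix_naive, ← hv j]
    exact (MvPolynomial.pderiv_map (R := A) (φ := Ideal.Quotient.mk I)).symm
  let S := Localization.Away P₀.jacobian
  haveI hS : Algebra.Etale A S := by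
    have hΔ : IsUnit (algebraMap S₀ S P₀.jacobian) := IsLocalization.Away.algebraMap_isUnit _
    let Q : Algebra.SubmersivePresentation A S _ _ :=
      { toPreSubmersivePresentation := .comp (.localizationAway S P₀.jacobian) P₀,
        jacobian_isUnit := by simpa [Algebra.smul_def, -isUnit_map_iff, hΔ] }
    have : Algebra.IsStandardSmoothOfRelativeDimension 0 A S := by
      refine ⟨_, _, inferInstance, inferInstance, Q, ?_⟩
      simp only [Q, Algebra.PreSubmersivePresentation.dimension_comp_eq_dimension_add_dimension]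
      have h0 : P₀.dimension = 0 := hP
      rw [h0]
      simp [Algebra.Presentation.dimension]
    infer_instance
  let φ : S →ₐ[A] C := IsLocalization.Away.liftAlgHom (f := φ₀) P₀.jacobian
    (by rw [hjac]; exact P.jacobian_isUnit)
  have hφ : ∀ x, φ (algebraMap S₀ S x) = φ₀ x := fun x ↦ IsLocalization.lift_eq _ x
  refine ⟨S, inferInstance, inferInstance, hS, φ, fun c ↦ ?_, fun z hz ↦ ?_⟩
  · obtain ⟨p, hp⟩ := hm (P.σ c)
    refine ⟨algebraMap S₀ S (Ideal.Quotient.mk _ p), ?_⟩
    rw [hφ, hφ₀, hp, Algebra.Generators.algebraMap_apply, Algebra.Generators.aeval_val_σ]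
  · obtain ⟨⟨x, s⟩, hx⟩ := IsLocalization.surj (Submonoid.powers P₀.jacobian) z
    have hx0 : φ₀ x = 0 := by
      rw [← hφ, ← hx, map_mul, hz, zero_mul]
    obtain ⟨p, rfl⟩ := Ideal.Quotient.mk_surjective x
    rw [hφ₀] at hx0
    have h1 : m p ∈ Ideal.span (Set.range P.relation) := by
      rw [P.span_range_relation_eq_ker]; exact hx0
    have h2 : p ∈ Ideal.span (Set.range v) ⊔ I.map (MvPolynomial.C : A →+* MvPolynomial ι A) := by
      have h3 : Ideal.span (Set.range P.relation) = (Ideal.span (Set.range v)).map m := by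
        rw [Ideal.map_span, ← Set.range_comp]
        exact congrArg Ideal.span (congrArg Set.range (funext fun j ↦ (hv j).symm))
      rw [h3, ← Ideal.mem_comap, Ideal.comap_map_of_surjective _ hm, ← RingHom.ker_eq_comap_bot,
        MvPolynomial.ker_map, Ideal.mk_ker] at h1
      exact h1
    have h4 : algebraMap S₀ S (Ideal.Quotient.mk _ p) ∈ I.map (algebraMap A S) := by
      have h5 := Ideal.mem_map_of_mem ((algebraMap S₀ S).comp (Ideal.Quotient.mk _)) h2
      rw [Ideal.map_sup, Ideal.map_map, ← Ideal.map_map (Ideal.Quotient.mk _) (algebraMap S₀ S),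
        Ideal.map_quotient_self, Ideal.map_bot, bot_sup_eq] at h5
      exact h5
    rw [← hx] at h4
    exact (Ideal.unit_mul_mem_iff_mem _ (IsLocalization.map_units S s)).1 (by rwa [mul_comm] at h4)

/-- Finite etale algebras lift along henselian pairs. -/
theorem exists_finite_etale_lift (A : Type u) [CommRing A] (I : Ideal A) [HenselianRing A I]
    (C : Type u) [CommRing C] [Algebra (A ⧸ I) C] [Module.Finite (A ⧸ I) C]
    [Algebra.Etale (A ⧸ I) C] :
    ∃ (B : Type u) (_ : CommRing B) (_ : Algebra A B), Module.Finite A B ∧ Algebra.Etale A B ∧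
      Nonempty (TensorProduct A (A ⧸ I) B ≃ₐ[A ⧸ I] C) := by
  let : Algebra A C := ((algebraMap (A ⧸ I) C).comp (Ideal.Quotient.mk I)).toAlgebra
  have : IsScalarTower A (A ⧸ I) C := .of_algebraMap_eq' rfl
  have : Module.Finite A C := Module.Finite.trans (A ⧸ I) C
  obtain ⟨S, _, _, hS, φ, hφs, hφk⟩ := exists_etale_alg_lift A I C
  have hφI : ∀ z ∈ I.map (algebraMap A S), φ z = 0 := fun z hz ↦ by
    have h1 : I.map (algebraMap A S) ≤ RingHom.ker φ.toRingHom := Ideal.map_le_iff_le_comap.2 fun a ha ↦ by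
      simp [IsScalarTower.algebraMap_apply A (A ⧸ I) C, Ideal.Quotient.eq_zero_iff_mem.2 ha]
    exact h1 hz
  let ψ : (S ⧸ I.map (algebraMap A S)) →ₐ[A] C := Ideal.Quotient.liftₐ _ φ hφI
  have hψ : Function.Injective ψ := (injective_iff_map_eq_zero ψ).2 fun z hz ↦ by
    obtain ⟨z, rfl⟩ := Ideal.Quotient.mk_surjective z
    exact Ideal.Quotient.eq_zero_iff_mem.2 (hφk z hz)
  have hψs : Function.Surjective ψ := fun c ↦ by
    obtain ⟨s, hs⟩ := hφs c; exact ⟨Ideal.Quotient.mk _ s, hs⟩
  haveI : Module.Finite A (S ⧸ I.map (algebraMap A S)) :=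
    Module.Finite.equiv (AlgEquiv.ofBijective ψ ⟨hψ, hψs⟩).symm.toLinearEquiv
  obtain ⟨E, hE, hE1, hfin⟩ := exists_isIdempotentElem_finite (I := I) S fun Q _ _ ↦ inferInstance
  let B := S ⧸ Ideal.span {1 - E}
  have hEφ : φ (1 - E) = 0 := by
    rw [← neg_sub, map_neg, hφI _ hE1, neg_zero]
  let φB : B →ₐ[A] C := Ideal.Quotient.liftₐ _ φ fun z hz ↦ by
    obtain ⟨t, rfl⟩ := Ideal.mem_span_singleton.1 hz
    rw [map_mul, hEφ, zero_mul]
  let Φ : TensorProduct A (A ⧸ I) B →ₐ[A ⧸ I] C :=
    Algebra.TensorProduct.lift (Algebra.ofId (A ⧸ I) C) φB fun _ _ ↦ .all _ _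
  refine ⟨B, inferInstance, inferInstance, hfin, etale_quotient_of_isIdempotentElem hE,
    ⟨AlgEquiv.ofBijective Φ ⟨(injective_iff_map_eq_zero Φ).2 fun z hz ↦ ?_, fun c ↦ ?_⟩⟩⟩
  · obtain ⟨b, rfl⟩ := TensorProduct.mk_surjective A B (A ⧸ I) Ideal.Quotient.mk_surjective z
    obtain ⟨s, rfl⟩ := Ideal.Quotient.mk_surjective b
    have h1 : φ s = 0 := by
      simpa [Φ, φB] using! hz
    have h2 := Ideal.mem_map_of_mem (Ideal.Quotient.mk (Ideal.span {1 - E})) (hφk s h1)
    rw [Ideal.map_map, ← Ideal.Quotient.algebraMap_eq, ← IsScalarTower.algebraMap_eq,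
      ← Submodule.restrictScalars_mem A, ← Ideal.smul_top_eq_map] at h2
    refine Submodule.smul_induction_on h2 (fun a ha x _ ↦ ?_) (fun x y hx hy ↦ ?_)
    · rw [TensorProduct.mk_apply, TensorProduct.tmul_smul, TensorProduct.smul_tmul', Algebra.smul_def,
        Ideal.Quotient.algebraMap_eq, Ideal.Quotient.eq_zero_iff_mem.2 ha, zero_mul,
        TensorProduct.zero_tmul]
    · rw [map_add, hx, hy, add_zero]
  · obtain ⟨s, hs⟩ := hφs c
    exact ⟨1 ⊗ₜ Ideal.Quotient.mk _ s, by simpa [Φ, φB] using! hs⟩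

end Groth.Agent.Hensel
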