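import Groth.Agent.Hensel.EtaleLift
import Mathlib.RingTheory.Artinian.Module
import Mathlib.RingTheory.LocalRing.ResidueField.Basic

/-!
Henselian local rings: finite algebras decompose, etale lifting through residue fields.
-/

namespace Groth.Agent.Hensel

open IsLocalRing Polynomial

universe u v

lemma henselianRing_maximalIdeal (R : Type*) [CommRing R] [HenselianLocalRing R] :
    HenselianRing R (maximalIdeal R) := inferInstance

/-- Finite algebras over a henselian local ring are products of local rings. -/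
theorem exists_pi_local {R : Type*} [CommRing R] [HenselianLocalRing R] (S : Type v) [CommRing S]
    [Algebra R S] [Module.Finite R S] :
    ∃ (n : ℕ) (e : Fin n → S), CompleteOrthogonalIdempotents e ∧
      ∀ i, IsLocalRing (S ⧸ Ideal.span {1 - e i}) := by
  classical
  set J := (maximalIdeal R).map (algebraMap R S) with hJ
  have hjac : J ≤ Ideal.jacobson ⊥ :=
    map_le_jacobson_bot_of_isIntegral (maximalIdeal_le_jacobson ⊥)
  letI : Algebra (R ⧸ maximalIdeal R) (S ⧸ J) :=
    (Ideal.quotientMap J (algebraMap R S) Ideal.le_comap_map).toAlgebra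
  haveI : IsScalarTower R (R ⧸ maximalIdeal R) (S ⧸ J) := .of_algebraMap_eq' rfl
  haveI : Module.Finite (R ⧸ maximalIdeal R) (S ⧸ J) := Module.Finite.of_restrictScalars_finite R _ _
  haveI : IsArtinianRing (S ⧸ J) := by
    letI : Field (R ⧸ maximalIdeal R) := Ideal.Quotient.field _
    exact isArtinian_of_tower (R ⧸ maximalIdeal R) inferInstance
  -- the maximal ideals of the Artinian ring `S / J`
  obtain ⟨n, ⟨φ⟩⟩ : ∃ n, Nonempty (Fin n ≃ MaximalSpectrum (S ⧸ J)) :=
    ⟨_, ⟨(Finite.equivFin (MaximalSpectrum (S ⧸ J))).symm⟩⟩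
  let π : (S ⧸ J) →+* ∀ i : Fin n, (S ⧸ J) ⧸ (φ i).asIdeal :=
    RingHom.pi fun i ↦ Ideal.Quotient.mk _
  have hπ : Function.Surjective π := by
    intro x
    choose y hy using fun i ↦ Ideal.Quotient.mk_surjective (x i)
    obtain ⟨z, hz⟩ := Ideal.exists_forall_sub_mem_ideal (I := fun i ↦ (φ i).asIdeal)
      (fun i j hij ↦ Ideal.isCoprime_iff_sup_eq.2 ((φ i).isMaximal.coprime_of_ne (φ j).isMaximal
        (fun h ↦ hij (φ.injective (MaximalSpectrum.ext h))))) y
    exact ⟨z, funext fun i ↦ (Ideal.Quotient.eq.2 (hz i)).trans (hy i)⟩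
  have hker : ∀ x ∈ RingHom.ker (π.comp (Ideal.Quotient.mk J)), x ∈ Ideal.jacobson (⊥ : Ideal S) := by
    intro x hx
    refine Ideal.mem_sInf.2 ?_
    rintro M ⟨-, hM⟩
    have hJM : J ≤ M := hjac.trans (sInf_le ⟨bot_le, hM⟩)
    have hm : (M.map (Ideal.Quotient.mk J)).IsMaximal := by
      refine Ideal.IsMaximal.map_of_surjective_of_ker_le Ideal.Quotient.mk_surjective ?_
      rwa [Ideal.mk_ker]
    have h1 := congrFun hx (φ.symm ⟨_, hm⟩)
    simp only [π, RingHom.comp_apply, RingHom.pi_apply, Pi.zero_apply] at h1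
    rw [Ideal.Quotient.eq_zero_iff_mem, φ.apply_symm_apply, Ideal.mem_quotient_iff_mem hJM] at h1
    exact h1
  have hnil : ∀ x ∈ RingHom.ker π, IsNilpotent x := by
    intro x hx
    rw [← mem_nilradical, nilradical_eq_sInf, Ideal.mem_sInf]
    intro p hp
    haveI : p.IsPrime := hp
    have hmax : p.IsMaximal := Ideal.IsPrime.isMaximal' ‹_›
    have h1 := congrFun hx (φ.symm ⟨p, hmax⟩)
    simp only [π, RingHom.pi_apply, Pi.zero_apply, Ideal.Quotient.eq_zero_iff_mem,
      φ.apply_symm_apply] at h1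
    exact h1
  have hex : ∀ i, ∃ e : S, IsIdempotentElem e ∧ π (Ideal.Quotient.mk J e) = Pi.single i 1 := by
    intro i
    obtain ⟨f, ⟨hf, hf'⟩, -⟩ := existsUnique_isIdempotentElem_eq_of_ker_isNilpotent π hnil (Pi.single i 1)
      (RingHom.mem_range.2 (hπ _)) (by rw [IsIdempotentElem, ← Pi.single_mul, one_mul])
    obtain ⟨e, he, hef⟩ := (idempotents_bijOn (I := maximalIdeal R) S).surjOn hf
    exact ⟨e, he, (congrArg π hef).trans hf'⟩
  choose e he heπ using hex
  have hmul : ∀ i j, i ≠ j → e i * e j = 0 := fun i j hij ↦ by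
    refine eq_zero_of_mem_jacobson_of_isIdempotentElem ((he i).mul (he j)) (hker _ ?_)
    rw [RingHom.mem_ker, map_mul, RingHom.comp_apply, RingHom.comp_apply, heπ, heπ]
    funext k
    rcases eq_or_ne k i with rfl | hk
    · simp [hij]
    · simp [hk]
  have hortho : OrthogonalIdempotents e := ⟨he, fun i j hij ↦ hmul i j hij⟩
  have hsum : ∑ i, e i = 1 := by
    have h1 : 1 - ∑ i, e i = 0 := by
      refine eq_zero_of_mem_jacobson_of_isIdempotentElem (hortho.isIdempotentElem_sum).one_sub (hker _ ?_)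
      rw [RingHom.mem_ker, map_sub, map_one, map_sum]
      funext k
      simp [heπ]
    exact (sub_eq_zero.1 h1).symm
  refine ⟨n, e, ⟨hortho, hsum⟩, fun i ↦ ?_⟩
  have hMi : ((φ i).asIdeal.comap (Ideal.Quotient.mk J)).IsMaximal :=
    Ideal.comap_isMaximal_of_surjective _ Ideal.Quotient.mk_surjective (H := (φ i).isMaximal)
  have hei : (1 - e i) ∈ (φ i).asIdeal.comap (Ideal.Quotient.mk J) := by
    have h1 := congrFun (heπ i) i
    simp only [π, RingHom.pi_apply, Pi.single_eq_same] at h1
    rw [Ideal.mem_comap, ← Ideal.Quotient.eq_zero_iff_mem, map_sub, map_one, map_sub, map_one,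
      h1, sub_self]
  refine IsLocalRing.of_unique_max_ideal ⟨((φ i).asIdeal.comap (Ideal.Quotient.mk J)).map
    (Ideal.Quotient.mk _), Ideal.IsMaximal.map_of_surjective_of_ker_le Ideal.Quotient.mk_surjective
      (by rwa [Ideal.mk_ker, Ideal.span_le, Set.singleton_subset_iff]), fun M hM ↦ ?_⟩
  haveI := hM
  have hM' : (M.comap (Ideal.Quotient.mk (Ideal.span {1 - e i}))).IsMaximal :=
    Ideal.comap_isMaximal_of_surjective _ Ideal.Quotient.mk_surjective
  set N := M.comap (Ideal.Quotient.mk (Ideal.span {1 - e i})) with hN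
  have hJN : J ≤ N := hjac.trans (sInf_le ⟨bot_le, hM'⟩)
  have hm : (N.map (Ideal.Quotient.mk J)).IsMaximal := by
    refine Ideal.IsMaximal.map_of_surjective_of_ker_le Ideal.Quotient.mk_surjective ?_
    rwa [Ideal.mk_ker]
  obtain ⟨j, hj⟩ := φ.surjective ⟨_, hm⟩
  have hj' : (φ j).asIdeal.comap (Ideal.Quotient.mk J) = N := by
    rw [hj]
    exact (Ideal.comap_map_of_surjective _ Ideal.Quotient.mk_surjective N).trans
      (sup_eq_left.2 (by rwa [← RingHom.ker_eq_comap_bot, Ideal.mk_ker]))
  have hij : j = i := by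
    by_contra hne
    have h1 : e i ∈ N := by
      rw [← hj', Ideal.mem_comap, ← Ideal.Quotient.eq_zero_iff_mem]
      have := congrFun (heπ i) j
      simpa [π, hne] using this
    have h2 : 1 - e i ∈ N := by
      rw [hN, Ideal.mem_comap, Ideal.Quotient.eq_zero_iff_mem.2 (Ideal.subset_span (Set.mem_singleton _))]
      exact zero_mem _
    exact hM'.ne_top ((Ideal.eq_top_iff_one _).2 (by simpa using add_mem h1 h2))
  subst hij
  rw [hj', hN, Ideal.map_comap_of_surjective _ Ideal.Quotient.mk_surjective]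

/-- If finite algebras are products of local rings then idempotents lift; only the residual
decomposition is used. -/
lemma idempotents_bijOn_of_ringEquiv_pi {S : Type*} [CommRing S] {J : Ideal S}
    (hJ : J ≤ Ideal.jacobson ⊥) {ι : Type*} (A : ι → Type*) [∀ i, CommRing (A i)]
    (hA : ∀ i, IsLocalRing (A i)) (φ : S ≃+* ∀ i, A i) :
    Set.BijOn (Ideal.Quotient.mk J) {e : S | IsIdempotentElem e} {e | IsIdempotentElem e} := by
  classical
  refine ⟨fun e he ↦ he.map _, fun e he f hf h ↦ isIdempotentElem_eq_of_sub_mem hJ he hf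
    (Ideal.Quotient.eq.1 h), fun e he ↦ ?_⟩
  obtain ⟨b, rfl⟩ := Ideal.Quotient.mk_surjective e
  have hb : b * b - b ∈ J := Ideal.Quotient.eq.1 (by rw [map_mul]; exact he.eq)
  let c : ∀ i, A i := fun i ↦ if IsUnit (φ b i) then 1 else 0
  refine ⟨φ.symm c, ?_, ?_⟩
  · change φ.symm c * φ.symm c = φ.symm c
    rw [← map_mul]; congr 1; funext i; by_cases h : IsUnit (φ b i) <;> simp [c, h]
  · -- `c - b` is a multiple of `b * b - b`
    have hc : ∀ i, ∃ t : A i, c i - φ b i = t * (φ b i * φ b i - φ b i) := by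
      intro i
      haveI := hA i
      by_cases h : IsUnit (φ b i)
      · obtain ⟨u, hu⟩ := h
        refine ⟨-(↑u⁻¹ : A i), ?_⟩
        simp only [c, ← hu, Units.isUnit, if_true]
        linear_combination (u : A i) * u.inv_mul - u.inv_mul
      · obtain ⟨v, hv⟩ := (IsLocalRing.isUnit_or_isUnit_one_sub_self (φ b i)).resolve_left h
        refine ⟨(↑v⁻¹ : A i), ?_⟩
        simp only [c, h, if_false]
        linear_combination φ b i * v.inv_mul - (↑v⁻¹ : A i) * φ b i * hv
    choose t ht using hc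
    rw [Ideal.Quotient.eq]
    have h1 : φ.symm c - b = φ.symm t * (b * b - b) := φ.injective (by
      funext i; simpa [sub_eq_add_neg] using ht i)
    rw [h1]
    exact J.mul_mem_left _ hb

/-- Over a henselian local ring, a point of an etale algebra in the residue field lifts uniquely. -/
theorem existsUnique_algHom_residue {R : Type u} [CommRing R] {T : Type u} [CommRing T]
    [HenselianLocalRing T] [Algebra R T] (A : Type u) [CommRing A] [Algebra R A] [Algebra.Etale R A]
    (σ : A →ₐ[R] ResidueField T) :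
    ∃! f : A →ₐ[R] T, ∀ a, residue T (f a) = σ a := by
  let σ' : A →ₐ[R] T ⧸ maximalIdeal T := { toRingHom := σ.toRingHom, commutes' := σ.commutes }
  let σT : TensorProduct R T A →ₐ[T] T ⧸ maximalIdeal T :=
    Algebra.TensorProduct.lift (Algebra.ofId T _) σ' fun _ _ ↦ .all _ _
  obtain ⟨τ, hτ⟩ := exists_algHom_lift (I := maximalIdeal T) (TensorProduct R T A) σT
  refine ⟨(τ.restrictScalars R).comp Algebra.TensorProduct.includeRight, fun a ↦ ?_, fun g hg ↦ ?_⟩
  · have := DFunLike.congr_fun hτ (1 ⊗ₜ a)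
    simpa [σT, σ'] using! this
  · refine algHom_eq_of_sub_mem (J := maximalIdeal T) (maximalIdeal_le_jacobson ⊥) fun a ↦ ?_
    rw [← residue_eq_zero_iff, map_sub, hg, sub_eq_zero]
    have := DFunLike.congr_fun hτ (1 ⊗ₜ a)
    simpa [σT, σ'] using! this.symm

end Groth.Agent.Hensel
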