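import Groth.Agent.Hensel.Idempotent
import Mathlib.RingTheory.Ideal.Over
import Mathlib.RingTheory.Nilpotent.Basic

/-!
API for henselian pairs: idempotents, integral algebras, radical invariance, transitivity.
-/

namespace Groth.Agent.Hensel

open Polynomial

universe u v

section

variable {A : Type u} [CommRing A] {I : Ideal A}

/-- Idempotents lift uniquely along integral algebras over a henselian pair. -/
theorem idempotents_bijOn [HenselianRing A I] (B : Type v) [CommRing B] [Algebra A B]
    [Algebra.IsIntegral A B] :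
    Set.BijOn (Ideal.Quotient.mk (I.map (algebraMap A B)))
      {e : B | IsIdempotentElem e} {e | IsIdempotentElem e} := by
  refine ⟨fun e he ↦ he.map _, fun e he f hf h ↦ ?_, fun e he ↦ ?_⟩
  · exact isIdempotentElem_eq_of_sub_mem (map_le_jacobson_bot_of_isIntegral HenselianRing.jac)
      he hf (Ideal.Quotient.eq.1 h)
  · exact exists_isIdempotentElem_lift (gabberRoots_of_henselianRing (I := I)) HenselianRing.jac he

/-- Over a henselian pair idempotents lift along any surjection with kernel inside `IB`. -/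
theorem exists_isIdempotentElem_lift' [HenselianRing A I] {B : Type v} [CommRing B] [Algebra A B]
    [Algebra.IsIntegral A B] {e : B} (he : e * e - e ∈ I.map (algebraMap A B)) :
    ∃ e' : B, IsIdempotentElem e' ∧ e' - e ∈ I.map (algebraMap A B) := by
  obtain ⟨e', he', h⟩ := exists_isIdempotentElem_lift (gabberRoots_of_henselianRing (I := I))
    HenselianRing.jac (e₀ := Ideal.Quotient.mk (I.map (algebraMap A B)) e)
    (by rw [IsIdempotentElem, ← map_mul]; exact Ideal.Quotient.eq.2 he)
  exact ⟨e', he', Ideal.Quotient.eq.1 h⟩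

/-- The idempotent criterion for henselian pairs. -/
theorem henselianRing_of_idempotents_bijOn
    (h : ∀ (B : Type u) [CommRing B] [Algebra A B], Module.Finite A B →
      Set.BijOn (Ideal.Quotient.mk (I.map (algebraMap A B)))
        {e : B | IsIdempotentElem e} {e | IsIdempotentElem e}) :
    HenselianRing A I := by
  have hjac : I ≤ Ideal.jacobson ⊥ := by
    intro x hx
    rw [Ideal.mem_jacobson_bot]
    intro y
    let a := x * y + 1
    let J := Ideal.span {a}
    have hq : (0 : (A ⧸ J) ⧸ I.map (algebraMap A (A ⧸ J))) = 1 := by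
      have : (1 : A ⧸ J) ∈ I.map (algebraMap A (A ⧸ J)) := by
        have h0 : algebraMap A (A ⧸ J) a = 0 :=
          Ideal.Quotient.eq_zero_iff_mem.2 (Ideal.subset_span rfl)
        have h1 : algebraMap A (A ⧸ J) (-(x * y)) = 1 := by
          simp only [a, map_add, map_one] at h0
          rw [map_neg]; linear_combination -h0
        rw [← h1]
        exact Ideal.mem_map_of_mem _ (I.neg_mem (I.mul_mem_right _ hx))
      rw [← map_one (Ideal.Quotient.mk _), eq_comm, Ideal.Quotient.eq_zero_iff_mem]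
      exact this
    have h01 := (h (A ⧸ J) inferInstance).injOn IsIdempotentElem.zero IsIdempotentElem.one
      (by rw [map_zero, map_one]; exact hq)
    refine Ideal.span_singleton_eq_top.1 ?_
    exact (Ideal.Quotient.subsingleton_iff (I := J)).1 (subsingleton_of_zero_eq_one h01)
  refine henselianRing_of_gabberRoots hjac fun n hn p hdeg hp ↦ ?_
  obtain hsub | hnt := subsingleton_or_nontrivial A
  · exact ⟨1, by simp, Subsingleton.elim _ _⟩
  set F := X ^ n * (X - 1) + p with hF
  have hm : F.Monic := by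
    refine Monic.add_of_left ((monic_X_pow n).mul (monic_X_sub_C (1 : A))) ?_
    calc p.degree ≤ p.natDegree := degree_le_natDegree
      _ ≤ (n : WithBot ℕ) := by exact_mod_cast hdeg
      _ < _ := by
        rw [← map_one C, degree_eq_natDegree ((monic_X_pow n).mul (monic_X_sub_C (1 : A))).ne_zero,
          (monic_X_pow n).natDegree_mul' (monic_X_sub_C (1 : A)).ne_zero, natDegree_X_pow,
          natDegree_X_sub_C]
        exact_mod_cast Nat.lt_succ_self n
  haveI := hm.finite_adjoinRoot
  haveI := hm.free_adjoinRoot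
  let B := AdjoinRoot F
  set J := I.map (algebraMap A B) with hJ
  have hpJ : ∀ q : A[X], (∀ i, q.coeff i ∈ I) → AdjoinRoot.mk F q ∈ J := fun q hq ↦ by
    have := Ideal.mem_map_of_mem (AdjoinRoot.mk F) (Ideal.mem_map_C_iff.2 hq)
    rwa [Ideal.map_map] at this
  set x := AdjoinRoot.root F with hx
  have hxrel : x ^ n * (x - 1) ∈ J := by
    have h1 : x ^ n * (x - 1) = AdjoinRoot.mk F (-p) := by
      have h0 : AdjoinRoot.mk F (X ^ n * (X - 1) + p) = 0 := AdjoinRoot.mk_self
      rw [map_neg, eq_neg_iff_add_eq_zero, ← h0]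
      simp [x]
    rw [h1]
    exact hpJ _ fun i ↦ by simpa using hp i
  have hsucc : ∀ k, Ideal.Quotient.mk J (x ^ (n + k)) = Ideal.Quotient.mk J (x ^ n) := fun k ↦ by
    induction k with
    | zero => rfl
    | succ k ih =>
      rw [← ih, Ideal.Quotient.eq]
      have := J.mul_mem_left (x ^ k) hxrel
      convert this using 1; ring
  obtain ⟨E, hE, hEe⟩ := (h B inferInstance).surjOn
    (show IsIdempotentElem (Ideal.Quotient.mk J (x ^ n)) by
      rw [IsIdempotentElem, ← map_mul, ← pow_add, hsucc])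
  have hone : aeval (1 : A ⧸ I) F = 0 := by
    have hp' : p.map (Ideal.Quotient.mk I) = 0 := by
      ext i; simp [Ideal.Quotient.eq_zero_iff_mem, hp i]
    rw [aeval_def, Ideal.Quotient.algebraMap_eq, ← eval_map, hF, Polynomial.map_add, hp']
    simp
  let σ : B →ₐ[A] A ⧸ I := AdjoinRoot.liftAlgHom F (Algebra.ofId A _) 1 hone
  have hσx : σ x = 1 := AdjoinRoot.liftAlgHom_root _ _ _ _
  have hσJ : ∀ z ∈ J, σ z = 0 := fun z hz ↦ by
    have : J ≤ RingHom.ker σ.toRingHom := Ideal.map_le_iff_le_comap.2 fun a ha ↦ by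
      simp [Ideal.Quotient.eq_zero_iff_mem, ha]
    exact this hz
  have hEσ : σ E = 1 := by
    have := hσJ _ (Ideal.Quotient.eq.1 hEe)
    rwa [map_sub, map_pow, hσx, one_pow, sub_eq_zero] at this
  have hker : ∀ z, σ z = 0 → E * z ∈ J := by
    intro z hz
    obtain ⟨P, rfl⟩ := AdjoinRoot.mk_surjective z
    have h1 : (P.map (Ideal.Quotient.mk I)).IsRoot 1 := by
      rw [IsRoot.def, eval_map]
      exact hz
    obtain ⟨Q, hQ⟩ := dvd_iff_isRoot.2 h1
    obtain ⟨Q, rfl⟩ := Polynomial.map_surjective _ Ideal.Quotient.mk_surjective Q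
    have h2 : AdjoinRoot.mk F (P - (X - 1) * Q) ∈ J := hpJ _ fun i ↦ by
      rw [← Ideal.Quotient.eq_zero_iff_mem, ← coeff_map]
      simp [hQ]
    have h3 : (E - x ^ n) * AdjoinRoot.mk F P ∈ J :=
      J.mul_mem_right _ (Ideal.Quotient.eq.1 hEe)
    have h4 := J.add_mem h3 (J.add_mem (J.mul_mem_left (x ^ n) h2)
      (J.mul_mem_right (AdjoinRoot.mk F Q) hxrel))
    convert! h4 using 1
    simp [x]; ring
  obtain ⟨τ, hτ⟩ := exists_algHom_of_idempotent hjac (AlgHom.id A B) σ hE σ rfl hEσ hker
  refine ⟨τ x, ?_, ?_⟩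
  · rw [← Ideal.Quotient.eq, map_one, ← hσx, ← hτ]; rfl
  · rw [IsRoot.def, ← coe_aeval_eq_eval, aeval_algHom_apply]
    exact (congrArg τ ((AdjoinRoot.aeval_eq F).trans AdjoinRoot.mk_self)).trans (map_zero τ)

/-- Henselian pairs are stable under integral algebras. -/
theorem henselianRing_of_isIntegral [HenselianRing A I] (B : Type u) [CommRing B] [Algebra A B]
    [Algebra.IsIntegral A B] : HenselianRing B (I.map (algebraMap A B)) := by
  refine henselianRing_of_idempotents_bijOn fun C _ _ _ ↦ ?_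
  let := ((algebraMap B C).comp (algebraMap A B)).toAlgebra
  have : IsScalarTower A B C := .of_algebraMap_eq' rfl
  have : Algebra.IsIntegral A C := Algebra.IsIntegral.trans B
  rw [Ideal.map_map, ← IsScalarTower.algebraMap_eq]
  exact idempotents_bijOn C

theorem henselianRing_quotient [HenselianRing A I] (K : Ideal A) :
    HenselianRing (A ⧸ K) (I.map (Ideal.Quotient.mk K)) :=
  henselianRing_of_isIntegral (A ⧸ K)

/-- A nil ideal gives a henselian pair. -/
theorem henselianRing_of_isNilpotent (hI : ∀ x ∈ I, IsNilpotent x) : HenselianRing A I := by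
  refine henselianRing_of_idempotents_bijOn fun B _ _ _ ↦ ?_
  have hnil : ∀ x ∈ RingHom.ker (Ideal.Quotient.mk (I.map (algebraMap A B))), IsNilpotent x := by
    rw [Ideal.mk_ker]
    intro x hx
    have : I.map (algebraMap A B) ≤ nilradical B :=
      Ideal.map_le_iff_le_comap.2 fun a ha ↦ (hI a ha).map _
    exact this hx
  refine ⟨fun e he ↦ he.map _, fun e he f hf h ↦ ?_, fun e he ↦ ?_⟩
  · refine isIdempotentElem_eq_of_sub_mem ?_ he hf (Ideal.Quotient.eq.1 h)
    intro x hx
    obtain ⟨n, hn⟩ := hnil x (by rwa [Ideal.mk_ker])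
    exact Ideal.radical_le_jacobson (I := ⊥) ⟨n, by simp [hn]⟩
  · obtain ⟨e', he', -⟩ := existsUnique_isIdempotentElem_eq_of_ker_isNilpotent _ hnil e
      (RingHom.mem_range.2 (Ideal.Quotient.mk_surjective e)) he
    exact ⟨e', he'.1, he'.2⟩

/-- If `I ≤ J`, then `(A, J)` is henselian iff `(A, I)` and `(A/I, J/I)` are. -/
theorem henselianRing_of_le {J : Ideal A} (hIJ : I ≤ J) [HenselianRing A J] :
    HenselianRing A I := by
  refine henselianRing_of_idempotents_bijOn fun B _ _ _ ↦ ⟨fun e he ↦ he.map _, ?_, ?_⟩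
  · intro e he f hf h
    exact isIdempotentElem_eq_of_sub_mem
      (map_le_jacobson_bot_of_isIntegral (hIJ.trans HenselianRing.jac)) he hf (Ideal.Quotient.eq.1 h)
  · intro e he
    obtain ⟨b, rfl⟩ := Ideal.Quotient.mk_surjective e
    obtain ⟨E, hE, hEb⟩ := exists_isIdempotentElem_lift' (I := J) (e := b)
      (Ideal.map_mono hIJ (by
        rw [← Ideal.Quotient.eq, map_mul]; exact he.eq))
    refine ⟨E, hE, isIdempotentElem_eq_of_sub_mem (J := J.map (algebraMap A (B ⧸ I.map (algebraMap A B))))
      (map_le_jacobson_bot_of_isIntegral HenselianRing.jac) (hE.map _) he ?_⟩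
    have h3 := Ideal.mem_map_of_mem (Ideal.Quotient.mk (I.map (algebraMap A B))) hEb
    rwa [Ideal.map_map, ← Ideal.Quotient.algebraMap_eq, ← IsScalarTower.algebraMap_eq,
      Ideal.Quotient.algebraMap_eq, map_sub] at h3

theorem henselianRing_trans {J : Ideal A} (hIJ : I ≤ J) [HenselianRing A I]
    [HenselianRing (A ⧸ I) (J.map (Ideal.Quotient.mk I))] : HenselianRing A J := by
  refine henselianRing_of_idempotents_bijOn fun B _ _ _ ↦ ?_
  let K := I.map (algebraMap A B)
  let : Algebra (A ⧸ I) (B ⧸ K) :=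
    (Ideal.quotientMap K (algebraMap A B) Ideal.le_comap_map).toAlgebra
  have : IsScalarTower A (A ⧸ I) (B ⧸ K) := .of_algebraMap_eq' rfl
  have : Algebra.IsIntegral (A ⧸ I) (B ⧸ K) := Algebra.IsIntegral.tower_top (R := A)
  have h2 := idempotents_bijOn (I := J.map (Ideal.Quotient.mk I)) (B ⧸ K)
  have hJ : (J.map (Ideal.Quotient.mk I)).map (algebraMap (A ⧸ I) (B ⧸ K)) =
      (J.map (algebraMap A B)).map (Ideal.Quotient.mk K) := by
    rw [← Ideal.Quotient.algebraMap_eq, Ideal.map_map, ← IsScalarTower.algebraMap_eq,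
      ← Ideal.Quotient.algebraMap_eq, Ideal.map_map, ← IsScalarTower.algebraMap_eq]
  have hKJ : K ≤ J.map (algebraMap A B) := Ideal.map_mono hIJ
  refine ⟨fun e he ↦ he.map _, ?_, ?_⟩
  · intro e he f hf h
    refine (idempotents_bijOn (I := I) B).injOn he hf (h2.injOn (he.map _) (hf.map _) ?_)
    rw [Ideal.Quotient.eq, ← map_sub, hJ]
    exact Ideal.mem_map_of_mem _ (Ideal.Quotient.eq.1 h)
  · intro e he
    obtain ⟨b, rfl⟩ := Ideal.Quotient.mk_surjective e
    obtain ⟨e₁, he₁, he₁b⟩ := h2.surjOn (show IsIdempotentElem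
        (Ideal.Quotient.mk _ (Ideal.Quotient.mk K b)) by
      rw [IsIdempotentElem, ← map_mul, ← map_mul, Ideal.Quotient.eq, ← map_sub, hJ]
      exact Ideal.mem_map_of_mem _ (Ideal.Quotient.eq.1 (by rw [map_mul]; exact he.eq)))
    obtain ⟨E, hE, rfl⟩ := (idempotents_bijOn (I := I) B).surjOn he₁
    refine ⟨E, hE, ?_⟩
    rw [Ideal.Quotient.eq, hJ, ← map_sub, Ideal.mem_quotient_iff_mem hKJ] at he₁b
    exact Ideal.Quotient.eq.2 he₁b

theorem henselianRing_iff_of_le {J : Ideal A} (hIJ : I ≤ J) :
    HenselianRing A J ↔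
      HenselianRing A I ∧ HenselianRing (A ⧸ I) (J.map (Ideal.Quotient.mk I)) :=
  ⟨fun _ ↦ ⟨henselianRing_of_le hIJ, henselianRing_quotient I⟩,
    fun ⟨_, _⟩ ↦ henselianRing_trans hIJ⟩

theorem henselianRing_radical [HenselianRing A I] : HenselianRing A I.radical := by
  refine (henselianRing_iff_of_le Ideal.le_radical).2 ⟨‹_›, henselianRing_of_isNilpotent ?_⟩
  intro x hx
  obtain ⟨y, hy, rfl⟩ := (Ideal.mem_map_iff_of_surjective _ Ideal.Quotient.mk_surjective).1 hx
  obtain ⟨n, hn⟩ := hy
  exact ⟨n, by rw [← map_pow, Ideal.Quotient.eq_zero_iff_mem]; exact hn⟩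

theorem henselianRing_of_radical_eq {J : Ideal A} (h : J ≤ I.radical) [HenselianRing A I] :
    HenselianRing A J :=
  have := henselianRing_radical (A := A) (I := I)
  henselianRing_of_le h

end

/-- A henselian pair whose ideal is maximal is a henselian local ring. -/
theorem henselianLocalRing_of_henselianRing {R : Type u} [CommRing R] [IsLocalRing R]
    (h : HenselianRing R (IsLocalRing.maximalIdeal R)) : HenselianLocalRing R where
  is_henselian f hf a₀ h₁ h₂ := h.is_henselian f hf a₀ h₁ (h₂.map _)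

end Groth.Agent.Hensel
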