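import Groth.Agent.EGA4Lib.DepthFlat
import Groth.Agent.Dim.LocalHom
import Groth.Agent.Depth.CM
import Mathlib.RingTheory.RegularLocalRing.Defs
import Mathlib.RingTheory.Ideal.GoingDown
import Mathlib.RingTheory.Flat.FaithfullyFlat.Algebra

/-!
A flat local homomorphism of Noetherian local rings with `m_A B = m_B` preserves dimension, depth,
regularity, the Cohen-Macaulay property.
-/

set_option autoImplicit false
universe u

open IsLocalRing TensorProduct

namespace Groth.Agent.Hensel.UnramifiedFlat

variable (A B : Type u) [CommRing A] [CommRing B] [IsLocalRing A] [IsLocalRing B]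
  [IsNoetherianRing A] [IsNoetherianRing B] [Algebra A B] [IsLocalHom (algebraMap A B)]
  [Module.Flat A B] (hm : (maximalIdeal A).map (algebraMap A B) = maximalIdeal B)

include hm

theorem ringKrullDim_eq : ringKrullDim B = ringKrullDim A := by
  have h0 : ringKrullDim (B ⧸ (maximalIdeal A).map (algebraMap A B)) = 0 := by
    refine ringKrullDim_eq_zero_of_isField ?_
    rw [hm]
    exact (Ideal.Quotient.maximal_ideal_iff_isField_quotient _).1 inferInstance
  rw [Dim.ringKrullDim_eq_add_fibre A B, h0, add_zero]

theorem depth_eq : LocCoh.depth B B = LocCoh.depth A A := by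
  have h := EGA4Lib.depth_tensor_of_flat (R := A) (S := B) (N := B) (M := A)
  have h0 : LocCoh.depth B (B ⧸ (maximalIdeal A).map (algebraMap A B) • (⊤ : Submodule B B)) = 0 := by
    set J := (maximalIdeal A).map (algebraMap A B) • (⊤ : Submodule B B) with hJdef
    have hJ : J = maximalIdeal B := by
      rw [hJdef, hm, smul_eq_mul, Ideal.mul_top]
    haveI : Nontrivial (B ⧸ J) := Submodule.Quotient.nontrivial_iff.2 (by
      rw [hJ]; exact (maximalIdeal.isMaximal B).ne_top)
    obtain ⟨p, hp⟩ := associatedPrimes.nonempty B (B ⧸ J)
    rw [Depth.depth_eq_idealDepth, Depth.idealDepth_eq_zero_iff]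
    refine ⟨p, hp, fun b hb => Depth.annihilator_le_associatedPrime hp (Module.mem_annihilator.2 fun z => ?_)⟩
    obtain ⟨w, rfl⟩ := Submodule.Quotient.mk_surjective _ z
    rw [← Submodule.Quotient.mk_smul, Submodule.Quotient.mk_eq_zero, hJ]
    exact Ideal.mul_mem_right w _ hb
  rw [h0, add_zero] at h
  rw [← h, Depth.depth_eq_idealDepth, Depth.depth_eq_idealDepth,
    Depth.idealDepth_congr (AlgebraTensorModule.rid A B B)]

theorem isCohenMacaulay_iff :
    LocCoh.IsCohenMacaulayLocalRing B ↔ LocCoh.IsCohenMacaulayLocalRing A := by
  rw [Depth.isCohenMacaulayLocalRing_iff, Depth.isCohenMacaulayLocalRing_iff,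
    LocCoh.IsCohenMacaulayModule, LocCoh.IsCohenMacaulayModule,
    Module.supportDim_self_eq_ringKrullDim, Module.supportDim_self_eq_ringKrullDim,
    ringKrullDim_eq A B hm, depth_eq A B hm]

theorem spanFinrank_maximalIdeal_eq :
    (maximalIdeal B).spanFinrank = (maximalIdeal A).spanFinrank := by
  classical
  haveI : Module.FaithfullyFlat A B := Module.FaithfullyFlat.of_flat_of_isLocalHom
  refine le_antisymm ?_ ?_
  · obtain ⟨s, hcard, hspan⟩ := (IsNoetherian.noetherian (maximalIdeal A)).exists_span_finset_card_eq_spanFinrank
    refine le_of_le_of_eq ?_ hcard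
    rw [← hm, ← hspan]
    change (Ideal.map (algebraMap A B) (Ideal.span (s : Set A))).spanFinrank ≤ _
    rw [Ideal.map_span]
    refine (Submodule.spanFinrank_span_le_ncard_of_finite (s.finite_toSet.image _)).trans ?_
    exact (Set.ncard_image_le s.finite_toSet).trans (Set.ncard_coe_finset s).le
  · let v : maximalIdeal A → CotangentSpace B := fun a => (maximalIdeal B).toCotangent
      ⟨algebraMap A B a, hm.le (Ideal.mem_map_of_mem _ a.2)⟩
    have hv : Submodule.span (ResidueField B) (Set.range v) = ⊤ := by
      rw [show Set.range v = (maximalIdeal B).toCotangent '' Set.range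
        (fun a : maximalIdeal A => (⟨algebraMap A B a, hm.le (Ideal.mem_map_of_mem _ a.2)⟩ : maximalIdeal B))
          from Set.range_comp _ _, CotangentSpace.span_image_eq_top_iff,
        ← (Submodule.map_injective_of_injective (Submodule.injective_subtype _)).eq_iff,
        Submodule.map_span, Submodule.map_top, Submodule.range_subtype]
      have himg : (maximalIdeal B).subtype '' Set.range
          (fun a : maximalIdeal A => (⟨algebraMap A B a, hm.le (Ideal.mem_map_of_mem _ a.2)⟩ : maximalIdeal B)) =
          algebraMap A B '' (maximalIdeal A : Set A) := by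
        rw [← Set.range_comp, Set.image_eq_range]
        rfl
      rw [himg]
      exact hm
    obtain ⟨b, hb, hbspan, hli⟩ := exists_linearIndependent (ResidueField B) (Set.range v)
    rw [hv] at hbspan
    have hfin : b.Finite := hli.setFinite
    haveI := hfin.fintype
    choose g hg using fun z : b => hb z.2
    let t : Finset A := Finset.univ.image fun z : b => (g z : A)
    have hle : t.card ≤ (maximalIdeal B).spanFinrank := by
      refine Finset.card_image_le.trans ?_
      rw [spanFinrank_maximalIdeal_eq_finrank_cotangentSpace, Finset.card_univ]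
      exact hli.fintype_card_le_finrank
    refine le_trans ?_ hle
    have hJ : Ideal.span (t : Set A) = maximalIdeal A := by
      rw [← Ideal.comap_map_eq_self_of_faithfullyFlat (B := B) (Ideal.span (t : Set A)),
        ← Ideal.comap_map_eq_self_of_faithfullyFlat (B := B) (maximalIdeal A), hm]
      congr 1
      rw [Ideal.map_span]
      let w : b → maximalIdeal B := fun z => ⟨algebraMap A B (g z), hm.le (Ideal.mem_map_of_mem _ (g z).2)⟩
      have hw : Submodule.span B (Set.range w) = ⊤ := by
        rw [← CotangentSpace.span_image_eq_top_iff, ← hbspan]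
        congr 1
        rw [← Set.range_comp]
        ext y
        exact ⟨fun ⟨z, hz⟩ => hz ▸ (show v (g z) ∈ b by rw [hg z]; exact z.2), fun hy => ⟨⟨y, hy⟩, hg ⟨y, hy⟩⟩⟩
      have h2 := congrArg (Submodule.map (maximalIdeal B).subtype) hw
      rw [Submodule.map_span, Submodule.map_top, Submodule.range_subtype, ← Set.range_comp] at h2
      refine Eq.trans ?_ h2
      change Submodule.span B _ = _
      congr 1
      ext y
      simp [t, w]
    rw [← hJ]
    exact (Submodule.spanFinrank_span_le_ncard_of_finite t.finite_toSet).trans (Set.ncard_coe_finset t).le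

theorem isRegularLocalRing_iff : IsRegularLocalRing A ↔ IsRegularLocalRing B := by
  rw [_root_.isRegularLocalRing_iff, _root_.isRegularLocalRing_iff, ringKrullDim_eq A B hm,
    spanFinrank_maximalIdeal_eq A B hm]

end Groth.Agent.Hensel.UnramifiedFlat
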