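import Groth.Agent.Hensel.EtLike
import Groth.Agent.Hensel.UnramifiedFlat
import Groth.Agent.RegLoc.SupportDim
import Groth.Agent.RegLoc.Basic
import Mathlib.RingTheory.DiscreteValuationRing.TFAE

/-!
Local rings of an ind-etale local extension: dimension, depth, regularity, associated primes,
`(R_k)` and `(S_k)`.
-/

set_option autoImplicit false
universe u

open IsLocalRing TensorProduct

namespace Groth.Agent.Hensel.IsEtLike

variable {R S : Type u} [CommRing R] [IsLocalRing R] [CommRing S] [IsLocalRing S] [Algebra R S]
variable (h : IsEtLike R S)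
include h

theorem localization_prime [IsNoetherianRing R] (P : Ideal S) [P.IsPrime] :
    ringKrullDim (Localization.AtPrime P) = ringKrullDim (Localization.AtPrime (P.under R)) ∧
    LocCoh.depth (Localization.AtPrime P) (Localization.AtPrime P) =
      LocCoh.depth (Localization.AtPrime (P.under R)) (Localization.AtPrime (P.under R)) ∧
    (IsRegularLocalRing (Localization.AtPrime (P.under R)) ↔
      IsRegularLocalRing (Localization.AtPrime P)) := by
  haveI := h.flat
  haveI := h.isNoetherianRing_of_base
  let p := P.under R
  haveI : IsNoetherianRing (Localization.AtPrime p) :=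
    IsLocalization.isNoetherianRing p.primeCompl _ inferInstance
  haveI : IsNoetherianRing (Localization.AtPrime P) :=
    IsLocalization.isNoetherianRing P.primeCompl _ inferInstance
  letI : Algebra (Localization.AtPrime p) (Localization.AtPrime P) :=
    Localization.AtPrime.algebraOfLiesOver p P
  haveI : IsScalarTower R (Localization.AtPrime p) (Localization.AtPrime P) := inferInstance
  haveI : IsLocalHom (algebraMap (Localization.AtPrime p) (Localization.AtPrime P)) := by
    rw [RingHom.algebraMap_toAlgebra]
    exact Localization.isLocalHom_localRingHom p P _ _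
  haveI : Module.Flat S (Localization.AtPrime P) := IsLocalization.flat _ P.primeCompl
  haveI : Module.Flat R (Localization.AtPrime P) := Module.Flat.trans R S _
  haveI : Module.Flat (Localization.AtPrime p) (Localization.AtPrime P) :=
    (Module.flat_iff_of_isLocalization (Localization.AtPrime p) p.primeCompl _).2 inferInstance
  have hm : (maximalIdeal (Localization.AtPrime p)).map
      (algebraMap (Localization.AtPrime p) (Localization.AtPrime P)) =
      maximalIdeal (Localization.AtPrime P) := by
    rw [← Localization.AtPrime.map_eq_maximalIdeal, ← Localization.AtPrime.map_eq_maximalIdeal,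
      Ideal.map_map, ← IsScalarTower.algebraMap_eq R (Localization.AtPrime p),
      IsScalarTower.algebraMap_eq R S (Localization.AtPrime P), ← Ideal.map_map]
    refine le_antisymm (Ideal.map_mono Ideal.map_comap_le) (Ideal.map_le_iff_le_comap.2 fun z hz => ?_)
    obtain ⟨t, ht, htz⟩ := h.exists_mul_mem_map P hz
    rw [Ideal.mem_comap, IsLocalization.algebraMap_mem_map_algebraMap_iff P.primeCompl]
    exact ⟨t, ht, htz⟩
  exact ⟨UnramifiedFlat.ringKrullDim_eq _ _ hm, UnramifiedFlat.depth_eq _ _ hm,
    UnramifiedFlat.isRegularLocalRing_iff _ _ hm⟩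

theorem depth_eq [IsNoetherianRing R] : LocCoh.depth S S = LocCoh.depth R R :=
  haveI := h.flat
  haveI := h.isLocalHom
  haveI := h.isNoetherianRing_of_base
  UnramifiedFlat.depth_eq R S h.map_max

theorem isRegularLocalRing_iff [IsNoetherianRing R] : IsRegularLocalRing R ↔ IsRegularLocalRing S :=
  haveI := h.flat
  haveI := h.isLocalHom
  haveI := h.isNoetherianRing_of_base
  UnramifiedFlat.isRegularLocalRing_iff R S h.map_max

theorem isCohenMacaulay_iff [IsNoetherianRing R] :
    LocCoh.IsCohenMacaulayLocalRing S ↔ LocCoh.IsCohenMacaulayLocalRing R :=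
  haveI := h.flat
  haveI := h.isLocalHom
  haveI := h.isNoetherianRing_of_base
  UnramifiedFlat.isCohenMacaulay_iff R S h.map_max

omit h in
theorem dvr_iff (A : Type u) [CommRing A] [IsLocalRing A] [IsNoetherianRing A] :
    (∃ _ : IsDomain A, IsDiscreteValuationRing A) ↔ IsRegularLocalRing A ∧ ringKrullDim A = 1 := by
  constructor
  · rintro ⟨_, _⟩
    exact ⟨inferInstance,
      IsPrincipalIdealRing.ringKrullDim_eq_one A (IsDiscreteValuationRing.not_isField A)⟩
  · rintro ⟨_, hd⟩
    haveI := RegLoc.isDomain A
    have hnf : ¬ IsField A := fun hf => by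
      rw [ringKrullDim_eq_zero_of_isField hf] at hd
      exact zero_ne_one hd
    refine ⟨inferInstance, ((IsDiscreteValuationRing.TFAE A hnf).out 4 0).mp ?_⟩
    have h1 : (maximalIdeal A).spanFinrank = 1 := by
      have := (_root_.isRegularLocalRing_iff A).1 inferInstance
      rw [hd] at this
      exact_mod_cast this
    obtain ⟨s, hs, hspan⟩ :=
      (IsNoetherian.noetherian (maximalIdeal A)).exists_span_finset_card_eq_spanFinrank
    rw [h1] at hs
    obtain ⟨a, rfl⟩ := Finset.card_eq_one.1 hs
    exact ⟨a, by rw [← hspan, Finset.coe_singleton]⟩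

theorem height_eq [IsNoetherianRing R] (P : Ideal S) [P.IsPrime] :
    P.height = (P.under R).height := by
  have := (h.localization_prime P).1
  rw [IsLocalization.AtPrime.ringKrullDim_eq_height P,
    IsLocalization.AtPrime.ringKrullDim_eq_height (P.under R)] at this
  exact_mod_cast this

theorem exists_prime_over (p : Ideal R) [p.IsPrime] : ∃ P : Ideal S, P.IsPrime ∧ P.under R = p := by
  obtain ⟨P, hP⟩ := h.comap_surjective ⟨p, inferInstance⟩
  exact ⟨P.asIdeal, P.isPrime, congrArg PrimeSpectrum.asIdeal hP⟩

theorem hasRk_iff [IsNoetherianRing R] (k : ℕ) : LocCoh.HasRk k S ↔ LocCoh.HasRk k R := by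
  constructor
  · intro hS p _ hp
    obtain ⟨P, _, rfl⟩ := h.exists_prime_over p
    exact (h.localization_prime P).2.2.2 (hS P (by rw [h.height_eq P]; exact hp))
  · intro hR P _ hP
    exact (h.localization_prime P).2.2.1 (hR (P.under R) (by rw [← h.height_eq P]; exact hP))

omit h in
theorem supportDim_localized_self {A : Type u} [CommRing A] (p : Ideal A) [p.IsPrime] :
    Module.supportDim (Localization.AtPrime p) (LocalizedModule p.primeCompl A) =
      ringKrullDim (Localization.AtPrime p) := by
  rw [Module.supportDim_eq_of_equiv (Depth.localizedModuleSelfEquiv p.primeCompl),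
    Module.supportDim_self_eq_ringKrullDim]

omit h in
theorem depth_localized_self {A : Type u} [CommRing A] (p : Ideal A) [p.IsPrime] :
    LocCoh.depth (Localization.AtPrime p) (LocalizedModule p.primeCompl A) =
      LocCoh.depth (Localization.AtPrime p) (Localization.AtPrime p) := by
  exact Depth.idealDepth_congr (Depth.localizedModuleSelfEquiv p.primeCompl)

theorem hasSk_iff [IsNoetherianRing R] (k : ℕ) : LocCoh.HasSk k S S ↔ LocCoh.HasSk k R R := by
  constructor
  · intro hS p _
    obtain ⟨P, _, rfl⟩ := h.exists_prime_over p
    have h1 := hS P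
    rw [supportDim_localized_self, depth_localized_self, (h.localization_prime P).1,
      (h.localization_prime P).2.1] at h1
    rw [supportDim_localized_self, depth_localized_self]
    exact h1
  · intro hR P _
    have h1 := hR (P.under R)
    rw [supportDim_localized_self, depth_localized_self] at h1
    rw [supportDim_localized_self, depth_localized_self, (h.localization_prime P).1,
      (h.localization_prime P).2.1]
    exact h1

theorem mem_associatedPrimes_iff [IsNoetherianRing R] (P : Ideal S) [P.IsPrime] :
    P ∈ associatedPrimes S S ↔ P.under R ∈ associatedPrimes R R := by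
  haveI := h.isNoetherianRing_of_base
  rw [← RegLoc.SupportDim.depth_localized_eq_zero_iff, ← RegLoc.SupportDim.depth_localized_eq_zero_iff,
    depth_localized_self, depth_localized_self, (h.localization_prime P).2.1]

end Groth.Agent.Hensel.IsEtLike
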