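import Groth.Agent.Hens.Unique
import Groth.Agent.S7179
import Groth.Agent.CAlgLib.LocalLimit
import Mathlib.RingTheory.Etale.Field
import Mathlib.RingTheory.Flat.FaithfullyFlat.Algebra
import Mathlib.RingTheory.Ideal.GoingDown
import Mathlib.RingTheory.Smooth.IntegralClosure
import Mathlib.RingTheory.Unramified.LocalRing
import Mathlib.RingTheory.Filtration
import Mathlib.RingTheory.KrullDimension.Basic

/-!
Local algebras that look like (strict) henselizations: flat, the maximal ideal generated by that of
the base, every finite set of elements coming from an etale algebra.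
-/

set_option autoImplicit false
universe u

open IsLocalRing TensorProduct

namespace Groth.Agent.Hensel

/-- A flat local extension which is a filtered union of images of etale algebras. -/
structure IsEtLike (R S : Type u) [CommRing R] [IsLocalRing R] [CommRing S] [IsLocalRing S]
    [Algebra R S] : Prop where
  flat : Module.Flat R S
  map_max : (maximalIdeal R).map (algebraMap R S) = maximalIdeal S
  stage : ∀ s : Finset S, ∃ (A : Type u) (_ : CommRing A) (_ : Algebra R A),
    Algebra.Etale R A ∧ ∃ θ : A →ₐ[R] S, ∀ z ∈ s, z ∈ θ.range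

variable {R S : Type u} [CommRing R] [IsLocalRing R] [CommRing S] [IsLocalRing S] [Algebra R S]

theorem IsEtLike.of_algEquiv_etLoc {K : Type u} [Field K] [Algebra R K]
    [Algebra (ResidueField R) K] [IsScalarTower R (ResidueField R) K]
    (E : Hens.EtLoc R K ≃ₐ[R] S) : IsEtLike R S := by
  classical
  refine ⟨Module.Flat.of_linearEquiv E.symm.toLinearEquiv, Hens.map_maximalIdeal_of_algEquiv_etLoc S E,
    fun s => ?_⟩
  obtain ⟨A, _, _, hA, θ, hθ⟩ := Hens.exists_stage_finset (s.image E.symm)
  refine ⟨A, _, _, hA, E.toAlgHom.comp θ, fun z hz => ?_⟩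
  obtain ⟨a, ha⟩ := hθ _ (Finset.mem_image_of_mem _ hz)
  exact ⟨a, by change E (θ a) = z; rw [show θ a = E.symm z from ha, E.apply_symm_apply]⟩

theorem isEtLike_of_isHenselization (R S : Type u) [CommRing R] [IsLocalRing R] [CommRing S]
    [IsLocalRing S] [Algebra R S] [IsLocalHom (algebraMap R S)] [_root_.Hensel.IsHenselization R S] :
    IsEtLike R S :=
  IsEtLike.of_algEquiv_etLoc (Hens.henselizationEquiv (R := R) S)

theorem isEtLike_of_isStrictHenselization (R S : Type u) [CommRing R] [IsLocalRing R] [CommRing S]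
    [IsLocalRing S] [Algebra R S] [IsLocalHom (algebraMap R S)]
    [_root_.Hensel.IsStrictHenselization R S] : IsEtLike R S :=
  IsEtLike.of_algEquiv_etLoc (Hens.strictHenselizationEquiv (R := R) S)

namespace IsEtLike

variable (h : IsEtLike R S)
include h

theorem isLocalHom : IsLocalHom (algebraMap R S) :=
  ((IsLocalRing.local_hom_TFAE (algebraMap R S)).out 2 0).mp h.map_max.le

theorem faithfullyFlat : Module.FaithfullyFlat R S :=
  haveI := h.flat
  haveI := h.isLocalHom
  Module.FaithfullyFlat.of_flat_of_isLocalHom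

theorem algebraMap_injective : Function.Injective (algebraMap R S) :=
  haveI := h.faithfullyFlat
  FaithfulSMul.algebraMap_injective R S

theorem comap_map_eq (I : Ideal R) : (I.map (algebraMap R S)).comap (algebraMap R S) = I :=
  haveI := h.faithfullyFlat
  Ideal.comap_map_eq_self_of_faithfullyFlat I

theorem exists_stage₁ (z : S) : ∃ (A : Type u) (_ : CommRing A) (_ : Algebra R A),
    Algebra.Etale R A ∧ ∃ (θ : A →ₐ[R] S) (a : A), θ a = z := by
  obtain ⟨A, _, _, hA, θ, hθ⟩ := h.stage {z}
  obtain ⟨a, ha⟩ := hθ z (Finset.mem_singleton_self z)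
  exact ⟨A, _, _, hA, θ, a, ha⟩

theorem exists_mul_eq_zero {A : Type u} [CommRing A] [Algebra R A] [Algebra.Etale R A]
    (θ : A →ₐ[R] S) {a : A} (ha : θ a = 0) : ∃ s : A, IsUnit (θ s) ∧ s * a = 0 := by
  haveI := h.flat
  let q : Ideal A := (maximalIdeal S).comap θ.toRingHom
  letI := θ.toRingHom.toAlgebra
  haveI : IsScalarTower R A S := .of_algebraMap_eq' θ.comp_algebraMap.symm
  haveI : Module.Flat A S := Algebra.FormallyUnramified.flat_of_restrictScalars R A S
  have hu : ∀ y : q.primeCompl, IsUnit (algebraMap A S y) := fun y =>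
    not_not.1 fun hne => y.2 hne
  letI : Algebra (Localization.AtPrime q) S :=
    (IsLocalization.lift (S := Localization.AtPrime q) hu).toAlgebra
  haveI : IsScalarTower A (Localization.AtPrime q) S :=
    .of_algebraMap_eq fun x => (IsLocalization.lift_eq hu x).symm
  haveI : Module.Flat (Localization.AtPrime q) S :=
    (Module.flat_iff_of_isLocalization (Localization.AtPrime q) q.primeCompl _).2 inferInstance
  haveI : IsLocalHom (algebraMap (Localization.AtPrime q) S) := by
    constructor
    intro z hz
    obtain ⟨x, s, rfl⟩ := IsLocalization.exists_mk'_eq q.primeCompl z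
    rw [IsLocalization.AtPrime.isUnit_mk'_iff]
    intro hx
    have h1 := hz.mul (hu s)
    rw [IsScalarTower.algebraMap_apply A (Localization.AtPrime q) S, ← map_mul,
      IsLocalization.mk'_spec, ← IsScalarTower.algebraMap_apply] at h1
    exact (IsLocalRing.mem_maximalIdeal _).1 hx h1
  haveI : Module.FaithfullyFlat (Localization.AtPrime q) S :=
    Module.FaithfullyFlat.of_flat_of_isLocalHom
  have h0 : algebraMap A (Localization.AtPrime q) a = 0 := by
    apply FaithfulSMul.algebraMap_injective (Localization.AtPrime q) S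
    rw [← IsScalarTower.algebraMap_apply, map_zero]
    exact ha
  obtain ⟨⟨s, hs⟩, hsa⟩ := (IsLocalization.map_eq_zero_iff q.primeCompl _ a).1 h0
  exact ⟨s, hu ⟨s, hs⟩, hsa⟩

/-- At each prime, the maximal ideal of the local ring is extended from the base. -/
theorem exists_mul_mem_map (P : Ideal S) [P.IsPrime] {z : S} (hz : z ∈ P) :
    ∃ t ∉ P, t * z ∈ (P.comap (algebraMap R S)).map (algebraMap R S) := by
  obtain ⟨A, _, _, hA, θ, a, rfl⟩ := h.exists_stage₁ z
  let q : Ideal A := P.comap θ.toRingHom
  have hp : (P.comap (algebraMap R S)) = q.under R := by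
    rw [Ideal.under_def, Ideal.comap_comap, show θ.toRingHom.comp (algebraMap R A) = algebraMap R S from
      θ.comp_algebraMap]
  let p : Ideal R := q.under R
  letI : Algebra (Localization.AtPrime p) (Localization.AtPrime q) :=
    Localization.AtPrime.algebraOfLiesOver p q
  haveI : IsScalarTower R (Localization.AtPrime p) (Localization.AtPrime q) := inferInstance
  haveI := Algebra.EssFiniteType.of_comp R (Localization.AtPrime p) (Localization.AtPrime q)
  have hmax : (p.map (algebraMap R A)).map (algebraMap A (Localization.AtPrime q)) =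
      maximalIdeal (Localization.AtPrime q) := by
    rw [Ideal.map_map, ← IsScalarTower.algebraMap_eq,
      IsScalarTower.algebraMap_eq R (Localization.AtPrime p), ← Ideal.map_map,
      Localization.AtPrime.map_eq_maximalIdeal]
    exact Algebra.FormallyUnramified.map_maximalIdeal
  have ha : algebraMap A (Localization.AtPrime q) a ∈
      (p.map (algebraMap R A)).map (algebraMap A (Localization.AtPrime q)) := by
    rw [hmax]
    exact (IsLocalization.AtPrime.to_map_mem_maximal_iff _ q a).2 hz
  obtain ⟨s, hs, hsa⟩ := (IsLocalization.algebraMap_mem_map_algebraMap_iff q.primeCompl _ _ _).1 ha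
  refine ⟨θ s, hs, ?_⟩
  rw [← map_mul, hp]
  have := Ideal.mem_map_of_mem θ.toRingHom hsa
  rwa [Ideal.map_map, show θ.toRingHom.comp (algebraMap R A) = algebraMap R S from
    θ.comp_algebraMap] at this

theorem eq_of_le_of_comap_eq {P Q : Ideal S} [P.IsPrime] [Q.IsPrime] (hle : P ≤ Q)
    (hc : P.comap (algebraMap R S) = Q.comap (algebraMap R S)) : P = Q := by
  refine le_antisymm hle fun z hz => ?_
  obtain ⟨t, ht, htz⟩ := h.exists_mul_mem_map Q hz
  rw [← hc] at htz
  exact ((Ideal.IsPrime.mem_or_mem inferInstance (Ideal.map_comap_le htz)).resolve_left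
    fun h' => ht (hle h'))

theorem comap_surjective : Function.Surjective (PrimeSpectrum.comap (algebraMap R S)) :=
  haveI := h.faithfullyFlat
  PrimeSpectrum.comap_surjective_of_faithfullyFlat

theorem ringKrullDim_eq : ringKrullDim S = ringKrullDim R := by
  refine le_antisymm ?_ ?_
  · refine Order.krullDim_le_of_strictMono (PrimeSpectrum.comap (algebraMap R S)) fun P Q hlt => ?_
    refine lt_of_le_of_ne (Ideal.comap_mono hlt.le) fun he => hlt.ne ?_
    exact PrimeSpectrum.ext (h.eq_of_le_of_comap_eq hlt.le (congrArg PrimeSpectrum.asIdeal he))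
  · refine iSup_le fun l => ?_
    haveI := h.flat
    obtain ⟨P, hP⟩ := h.comap_surjective l.last
    haveI : P.asIdeal.LiesOver l.last.asIdeal := ⟨by rw [← hP]; rfl⟩
    obtain ⟨L, hL, -, -⟩ := Ideal.exists_ltSeries_of_hasGoingDown (S := S) l P.asIdeal
    rw [← hL]
    exact Order.LTSeries.length_le_krullDim L

theorem isNoetherianRing_of_base [IsNoetherianRing R] : IsNoetherianRing S := by
  classical
  haveI := h.flat
  refine CAlgLib.LocalLimit.isNoetherianRing_of_closed ?_ ?_
  · rw [← h.map_max]; exact Ideal.FG.map (IsNoetherian.noetherian (maximalIdeal R)) _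
  rintro J ⟨s, rfl⟩ x hx
  obtain ⟨A, _, _, hA, θ, hθ⟩ := h.stage (insert x s)
  obtain ⟨a, rfl⟩ := hθ x (Finset.mem_insert_self _ _)
  haveI : IsNoetherianRing A := Algebra.FiniteType.isNoetherianRing R A
  let q : Ideal A := (maximalIdeal S).comap θ.toRingHom
  letI := θ.toRingHom.toAlgebra
  haveI : IsScalarTower R A S := .of_algebraMap_eq' θ.comp_algebraMap.symm
  haveI : Module.Flat A S := Algebra.FormallyUnramified.flat_of_restrictScalars R A S
  have hu : ∀ y : q.primeCompl, IsUnit (algebraMap A S y) := fun y =>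
    not_not.1 fun hne => y.2 hne
  let B := Localization.AtPrime q
  letI : Algebra B S := (IsLocalization.lift (S := B) hu).toAlgebra
  haveI : IsScalarTower A B S := .of_algebraMap_eq fun x => (IsLocalization.lift_eq hu x).symm
  haveI : IsScalarTower R B S := .to₁₃₄ R A B S
  haveI : Module.Flat B S := (Module.flat_iff_of_isLocalization B q.primeCompl _).2 inferInstance
  have hsub : (maximalIdeal B).map (algebraMap B S) ≤ maximalIdeal S := by
    rw [← Localization.AtPrime.map_eq_maximalIdeal, Ideal.map_map, ← IsScalarTower.algebraMap_eq,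
      Ideal.map_le_iff_le_comap]
    exact le_rfl
  haveI : IsLocalHom (algebraMap B S) := ((IsLocalRing.local_hom_TFAE (algebraMap B S)).out 2 0).mp hsub
  haveI : Module.FaithfullyFlat B S := Module.FaithfullyFlat.of_flat_of_isLocalHom
  have hm : (maximalIdeal B).map (algebraMap B S) = maximalIdeal S := by
    refine le_antisymm hsub ?_
    refine h.map_max.ge.trans ?_
    rw [IsScalarTower.algebraMap_eq R B S, ← Ideal.map_map]
    refine Ideal.map_mono ?_
    haveI : IsLocalHom (algebraMap R B) := by
      constructor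
      intro r hr
      haveI := h.isLocalHom
      refine isUnit_of_map_unit (algebraMap R S) r ?_
      rw [IsScalarTower.algebraMap_apply R B S]
      exact hr.map _
    exact ((IsLocalRing.local_hom_TFAE (algebraMap R B)).out 0 2).mp ‹IsLocalHom (algebraMap R B)›
  let J' : Ideal B := (Ideal.span (s : Set S)).comap (algebraMap B S)
  have hJ' : J'.map (algebraMap B S) = Ideal.span (s : Set S) := by
    refine le_antisymm Ideal.map_comap_le (Ideal.span_le.2 fun y hy => ?_)
    obtain ⟨b, hb⟩ := hθ y (Finset.mem_insert_of_mem hy)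
    have hby : algebraMap B S (algebraMap A B b) = y := by
      rw [← IsScalarTower.algebraMap_apply]; exact hb
    rw [← hby]
    exact Ideal.mem_map_of_mem _ (show algebraMap B S (algebraMap A B b) ∈ _ by
      rw [hby]; exact Ideal.subset_span hy)
  have ha : algebraMap A B a ∈ J' := by
    by_cases hJtop : J' = ⊤
    · rw [hJtop]; trivial
    have h2 : ∀ n : ℕ, algebraMap A B a ∈ J' ⊔ maximalIdeal B ^ n := fun n => by
      rw [← Ideal.comap_map_eq_self_of_faithfullyFlat (B := S) (J' ⊔ maximalIdeal B ^ n),
        Ideal.mem_comap, Ideal.map_sup, Ideal.map_pow, hJ', hm, ← IsScalarTower.algebraMap_apply]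
      exact hx n
    rw [← Ideal.Quotient.eq_zero_iff_mem]
    have h3 : Ideal.Quotient.mk J' (algebraMap A B a) ∈
        ⨅ n : ℕ, maximalIdeal B ^ n • (⊤ : Submodule B (B ⧸ J')) := by
      rw [Submodule.mem_iInf]
      intro n
      obtain ⟨c, hc, d, hd, hcd⟩ := Submodule.mem_sup.mp (h2 n)
      rw [← hcd, map_add, Ideal.Quotient.eq_zero_iff_mem.mpr hc, zero_add,
        show Ideal.Quotient.mk J' d = d • (1 : B ⧸ J') by simp [Algebra.smul_def]]
      exact Submodule.smul_mem_smul hd Submodule.mem_top
    rwa [Ideal.iInf_pow_smul_eq_bot_of_isLocalRing _ (maximalIdeal.isMaximal _).ne_top,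
      Submodule.mem_bot] at h3
  have := Ideal.mem_map_of_mem (algebraMap B S) ha
  rwa [hJ', ← IsScalarTower.algebraMap_apply] at this

theorem isNoetherianRing_iff : IsNoetherianRing R ↔ IsNoetherianRing S := by
  refine ⟨fun _ => h.isNoetherianRing_of_base, fun hS => ?_⟩
  haveI := hS
  have hmono : StrictMono (fun I : Ideal R => I.map (algebraMap R S)) :=
    Monotone.strictMono_of_injective (fun _ _ => Ideal.map_mono)
      (Function.LeftInverse.injective h.comap_map_eq)
  have : WellFoundedGT (Ideal R) := hmono.wellFoundedGT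
  exact _root_.isNoetherianRing_iff.mpr (isNoetherian_iff'.mpr this)

theorem isReduced_iff : IsReduced R ↔ IsReduced S := by
  refine ⟨fun hR => ?_, fun hS => isReduced_of_injective _ h.algebraMap_injective⟩
  refine ⟨fun z hz => ?_⟩
  obtain ⟨n, hn⟩ := hz
  obtain ⟨A, _, _, hA, θ, a, rfl⟩ := h.exists_stage₁ z
  haveI : IsReduced A := S7179.isReduced_of_weaklyEtale R A
  obtain ⟨s, hs, hsa⟩ := h.exists_mul_eq_zero θ (a := a ^ n) (by rw [map_pow, hn])
  have h1 : (s * a) ^ (n + 1) = 0 := by
    rw [mul_pow, pow_succ a, ← mul_assoc, pow_succ s, mul_assoc (s ^ n), hsa, mul_zero, zero_mul]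
  have h2 := congrArg θ (IsNilpotent.eq_zero ⟨_, h1⟩)
  rw [map_mul, map_zero] at h2
  exact hs.mul_right_eq_zero.1 h2

/-- Every element of a fibre comes from an etale algebra over the field. -/
theorem exists_stage_tensor (K : Type u) [Field K] [Algebra R K] (x : K ⊗[R] S) :
    ∃ (A : Type u) (_ : CommRing A) (_ : Algebra R A),
      Algebra.Etale R A ∧ ∃ (θ : A →ₐ[R] S) (w : K ⊗[R] A),
        Algebra.TensorProduct.map (AlgHom.id K K) θ w = x := by
  induction x using TensorProduct.induction_on with
  | zero => exact ⟨R, _, _, inferInstance, Algebra.ofId R S, 0, map_zero _⟩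
  | tmul k z =>
    obtain ⟨A, _, _, hA, θ, a, rfl⟩ := h.exists_stage₁ z
    exact ⟨A, _, _, hA, θ, k ⊗ₜ a, rfl⟩
  | add x y hx hy =>
    obtain ⟨A, _, _, hA, θ, v, rfl⟩ := hx
    obtain ⟨B, _, _, hB, η, w, rfl⟩ := hy
    haveI : Algebra.Etale R (A ⊗[R] B) := Algebra.Etale.comp R A _
    let ζ := Algebra.TensorProduct.lift θ η (fun _ _ => Commute.all _ _)
    let i : A →ₐ[R] A ⊗[R] B := Algebra.TensorProduct.includeLeft
    let j : B →ₐ[R] A ⊗[R] B := Algebra.TensorProduct.includeRight
    refine ⟨A ⊗[R] B, _, _, inferInstance, ζ,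
      Algebra.TensorProduct.map (AlgHom.id K K) i v + Algebra.TensorProduct.map (AlgHom.id K K) j w, ?_⟩
    rw [map_add, ← AlgHom.comp_apply, ← AlgHom.comp_apply, ← Algebra.TensorProduct.map_comp,
      ← Algebra.TensorProduct.map_comp, AlgHom.id_comp,
      show ζ.comp i = θ from Algebra.TensorProduct.lift_comp_includeLeft θ η (fun _ _ => Commute.all _ _),
      show ζ.comp j = η from Algebra.TensorProduct.lift_comp_includeRight θ η (fun _ _ => Commute.all _ _)]

/-- The fibre over a field point is absolutely flat. -/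
theorem exists_mul_mul_eq (K : Type u) [Field K] [Algebra R K] (x : K ⊗[R] S) :
    ∃ y, x * x * y = x := by
  obtain ⟨A, _, _, hA, θ, w, rfl⟩ := h.exists_stage_tensor K x
  obtain ⟨ι, _, L, _, _, e, hsep⟩ :=
    (Algebra.Etale.iff_exists_algEquiv_prod K (K ⊗[R] A)).1 inferInstance
  refine ⟨Algebra.TensorProduct.map (AlgHom.id K K) θ (e.symm fun i => (e w i)⁻¹), ?_⟩
  rw [← map_mul, ← map_mul]
  congr 1
  apply e.injective
  rw [map_mul, map_mul, e.apply_symm_apply]
  ext i
  simp only [Pi.mul_apply]
  by_cases hi : e w i = 0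
  · simp [hi]
  · rw [mul_assoc, mul_inv_cancel₀ hi, mul_one]

end IsEtLike

end Groth.Agent.Hensel
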