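import Groth.Agent.Hensel.Local
import Groth.Prelude.Def_EssEt
import Mathlib.RingTheory.Unramified.LocalRing
import Mathlib.RingTheory.EssentialFiniteness

/-!
Basic properties of essentially etale local algebras and their maps.
-/

namespace Groth.Agent.Hensel

open IsLocalRing

universe u

variable {A : Type u} [CommRing A] [IsLocalRing A] {B : Type u} [CommRing B] [Algebra A B]

lemma formallyEtale_of_isEssentiallyEtale (h : EGA4loc.IsEssentiallyEtale A B) :
    Algebra.FormallyEtale A B := by
  obtain ⟨C, _, _, q, _, hC, -, ⟨e⟩⟩ := h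
  exact Algebra.FormallyEtale.of_equiv e.symm

lemma essFiniteType_of_isEssentiallyEtale (h : EGA4loc.IsEssentiallyEtale A B) :
    Algebra.EssFiniteType A B := by
  obtain ⟨C, _, _, q, _, hC, -, ⟨e⟩⟩ := h
  exact (Algebra.EssFiniteType.iff_of_algEquiv e).2 inferInstance

lemma isLocalHom_of_isEssentiallyEtale [IsLocalRing B] (h : EGA4loc.IsEssentiallyEtale A B) :
    IsLocalHom (algebraMap A B) := by
  obtain ⟨C, _, _, q, _, hC, hq, ⟨e⟩⟩ := h
  refine ⟨fun a ha ↦ ?_⟩
  by_contra hna
  have h1 : algebraMap A C a ∈ q := (show a ∈ q.comap (algebraMap A C) from hq ▸ hna)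
  have h2 : IsUnit (algebraMap A (Localization.AtPrime q) a) := e.commutes a ▸ ha.map e
  rw [IsScalarTower.algebraMap_apply A C] at h2
  exact (IsLocalization.AtPrime.isUnit_to_map_iff (Localization.AtPrime q) q _).1 h2 h1

lemma map_maximalIdeal_of_isEssentiallyEtale [IsLocalRing B]
    (h : EGA4loc.IsEssentiallyEtale A B) :
    (maximalIdeal A).map (algebraMap A B) = maximalIdeal B := by
  have := isLocalHom_of_isEssentiallyEtale h
  have := formallyEtale_of_isEssentiallyEtale h
  have := essFiniteType_of_isEssentiallyEtale h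
  exact Algebra.FormallyUnramified.map_maximalIdeal

/-- Maps out of an essentially etale algebra are determined modulo an ideal in the radical. -/
lemma algHom_eq_of_isEssentiallyEtale (h : EGA4loc.IsEssentiallyEtale A B) {T : Type*} [CommRing T]
    [IsLocalRing T] [Algebra A T] {f g : B →ₐ[A] T} (hfg : ∀ b, residue T (f b) = residue T (g b)) :
    f = g := by
  have := formallyEtale_of_isEssentiallyEtale h
  have := essFiniteType_of_isEssentiallyEtale h
  exact algHom_eq_of_sub_mem (J := maximalIdeal T) (maximalIdeal_le_jacobson ⊥)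
    fun b ↦ by rw [← residue_eq_zero_iff, map_sub, hfg, sub_self]

lemma isLocalHom_algHom_of_isEssentiallyEtale [IsLocalRing B]
    (h : EGA4loc.IsEssentiallyEtale A B) {T : Type*} [CommRing T] [IsLocalRing T] [Algebra A T]
    [IsLocalHom (algebraMap A T)] (f : B →ₐ[A] T) : IsLocalHom f.toRingHom := by
  refine ((local_hom_TFAE f.toRingHom).out 0 2).2 ?_
  rw [← map_maximalIdeal_of_isEssentiallyEtale h, Ideal.map_map]
  have : f.toRingHom.comp (algebraMap A B) = algebraMap A T := RingHom.ext f.commutes
  rw [this]
  exact ((local_hom_TFAE (algebraMap A T)).out 0 2).1 ‹_›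

/-- Universal property of essentially etale algebras against henselian local rings. -/
theorem existsUnique_of_isEssentiallyEtale [IsLocalRing B] [IsLocalHom (algebraMap A B)]
    (h : EGA4loc.IsEssentiallyEtale A B) (T : Type u) [CommRing T] [HenselianLocalRing T]
    (ψ : A →+* T) [IsLocalHom ψ] (α : ResidueField B →+* ResidueField T)
    (hα : α.comp (ResidueField.map (algebraMap A B)) = ResidueField.map ψ) :
    ∃! ψ' : B →+* T, IsLocalHom ψ' ∧ ψ'.comp (algebraMap A B) = ψ ∧
      ∀ x : B, residue T (ψ' x) = α (residue B x) := by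
  let := ψ.toAlgebra
  have : IsLocalHom (algebraMap A T) := ‹IsLocalHom ψ›
  have hB := h
  obtain ⟨C, _, _, q, _, hC, hq, ⟨e⟩⟩ := h
  let ι : C →ₐ[A] B := e.symm.toAlgHom.comp (IsScalarTower.toAlgHom A C _)
  let σ : C →ₐ[A] ResidueField T :=
    { toRingHom := α.comp ((residue B).comp ι.toRingHom)
      commutes' := fun a ↦ by
        have := RingHom.congr_fun hα (residue A a)
        rw [RingHom.comp_apply, ResidueField.map_residue, ResidueField.map_residue] at this
        change α (residue B (ι (algebraMap A C a))) = _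
        rw [AlgHom.commutes, this]
        rfl }
  obtain ⟨f, hf, -⟩ := existsUnique_algHom_residue C σ
  have hunit : ∀ y : q.primeCompl, IsUnit (f y) := fun y ↦ by
    refine isUnit_of_mk (maximalIdeal_le_jacobson ⊥) ?_
    change IsUnit (residue T (f y))
    rw [hf]
    exact (((IsLocalization.map_units (Localization.AtPrime q) y).map e.symm.toAlgHom).map
      (residue B)).map α
  let f' : Localization.AtPrime q →ₐ[A] T := IsLocalization.liftAlgHom (M := q.primeCompl) hunit
  let g : B →ₐ[A] T := f'.comp e.toAlgHom
  have hg : ∀ x, residue T (g x) = α (residue B x) := by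
    intro x
    obtain ⟨z, rfl⟩ := e.symm.surjective x
    obtain ⟨⟨c, s⟩, hz⟩ := IsLocalization.surj q.primeCompl z
    have h2 : ∀ c : C, residue T (g (ι c)) = α (residue B (ι c)) := fun c ↦ by
      change residue T (f' (e (e.symm _))) = _
      rw [e.apply_symm_apply]
      change residue T (f' (algebraMap C _ c)) = _
      rw [show f' (algebraMap C _ c) = f c from IsLocalization.lift_eq _ c, hf]
      rfl
    have h3 := congr(e.symm $hz)
    rw [map_mul] at h3
    have h4 := h2 c
    change residue T (g (e.symm (algebraMap C _ c))) = α (residue B (e.symm (algebraMap C _ c))) at h4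
    rw [← h3, map_mul, map_mul, map_mul, map_mul] at h4
    change _ * residue T (g (ι s)) = _ * α (residue B (ι s)) at h4
    rw [h2 s] at h4
    exact (((IsLocalization.map_units (Localization.AtPrime q) s).map e.symm.toAlgHom).map
      (residue B)).map α |>.mul_left_injective h4
  refine ⟨g.toRingHom, ⟨isLocalHom_algHom_of_isEssentiallyEtale hB g, RingHom.ext g.commutes, hg⟩, ?_⟩
  rintro ψ' ⟨-, hψ', hα'⟩
  let g' : B →ₐ[A] T := { toRingHom := ψ', commutes' := RingHom.congr_fun hψ' }
  exact congrArg AlgHom.toRingHom (algHom_eq_of_isEssentiallyEtale hB (f := g') (g := g)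
    fun x ↦ (hα' x).trans (hg x).symm)

end Groth.Agent.Hensel
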