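import Groth.Agent.Hens.BranchCore
import Groth.Agent.Hens.Unique
import Groth.Agent.FBase.TensorAlgClosed
import Groth.Agent.S2691
import Groth.Agent.S9628
import Mathlib.RingTheory.Localization.Integral
import Mathlib.RingTheory.LocalProperties.IntegrallyClosed

/-!
Primes of tensor products of henselian local algebras over an algebraically closed field, and
primes of an ind-étale local algebra over the kernel of a map to a normal local domain.
-/

set_option autoImplicit false
set_option linter.style.haveILetI false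

universe u

open IsLocalRing TensorProduct

namespace Groth.Agent.Hensel.TensorMinimal

/-- If `R → N` is integral, `N` a normal local domain and `C` ind-étale local over `R` with the same
residue field, then the kernel of `R → N` generates a prime of `C`. -/
theorem isPrime_map_ker {R C N : Type u} [CommRing R] [IsLocalRing R] [CommRing C] [IsLocalRing C]
    [Algebra R C] [IsLocalHom (algebraMap R C)] (h : Hensel.IsEtLike R C)
    (hres : Function.Bijective (ResidueField.map (algebraMap R C)))
    [CommRing N] [IsLocalRing N] [IsDomain N] [IsIntegrallyClosed N] [Algebra R N]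
    [Algebra.IsIntegral R N] :
    ((RingHom.ker (algebraMap R N)).map (algebraMap R C)).IsPrime := by
  haveI := h.flat
  obtain ⟨e, -⟩ := Hens.exists_maximalSpectrum_tensor_equiv (A := R) (S := C) (N := N) hres
  obtain ⟨M₀, hM₀⟩ : ∃ M : MaximalSpectrum (N ⊗[R] C), True :=
    ⟨e.symm ⟨maximalIdeal N, inferInstance⟩, trivial⟩
  haveI := M₀.isMaximal
  have hsub : Subsingleton (MaximalSpectrum N) := ⟨fun a b => MaximalSpectrum.ext
    ((eq_maximalIdeal a.isMaximal).trans (eq_maximalIdeal b.isMaximal).symm)⟩
  have hunique : ∀ M : Ideal (N ⊗[R] C), M.IsMaximal → M = M₀.asIdeal := fun M hM => by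
    have : (⟨M, hM⟩ : MaximalSpectrum (N ⊗[R] C)) = M₀ := e.injective (hsub.elim _ _)
    exact congrArg MaximalSpectrum.asIdeal this
  haveI : (M₀.asIdeal.comap (algebraMap N (N ⊗[R] C))).IsPrime := inferInstance
  obtain ⟨hdom, -⟩ := Hens.isDomain_localization_tensor (B := N) h M₀.asIdeal
    ⟨IsLocalization.isDomain_localization
        (Ideal.primeCompl_le_nonZeroDivisors (M₀.asIdeal.comap (algebraMap N (N ⊗[R] C)))),
      isIntegrallyClosed_of_isLocalization _ _
        (Ideal.primeCompl_le_nonZeroDivisors (M₀.asIdeal.comap (algebraMap N (N ⊗[R] C))))⟩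
  have hinj : Function.Injective (algebraMap (N ⊗[R] C) (Localization.AtPrime M₀.asIdeal)) := by
    rw [injective_iff_map_eq_zero]
    intro z hz
    obtain ⟨⟨s, hs⟩, hsz⟩ := (IsLocalization.map_eq_zero_iff M₀.asIdeal.primeCompl _ z).1 hz
    have hu : IsUnit s := by
      by_contra hns
      obtain ⟨M, hM, hsM⟩ := exists_max_ideal_of_mem_nonunits hns
      exact hs (hunique M hM ▸ hsM)
    exact hu.mul_right_eq_zero.1 hsz
  haveI : IsDomain (N ⊗[R] C) := hinj.isDomain
  let P := RingHom.ker (algebraMap R N)
  let j : R ⧸ P →ₐ[R] N := Ideal.Quotient.liftₐ P (Algebra.ofId R N) fun a ha => ha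
  have hj : Function.Injective j := by
    rw [injective_iff_map_eq_zero]
    intro x hx
    obtain ⟨a, rfl⟩ := Ideal.Quotient.mk_surjective x
    exact Ideal.Quotient.eq_zero_iff_mem.2 hx
  have hj' : Function.Injective (Algebra.TensorProduct.map j (AlgHom.id R C)) :=
    Module.Flat.rTensor_preserves_injective_linearMap (M := C) j.toLinearMap hj
  haveI : IsDomain ((R ⧸ P) ⊗[R] C) := hj'.isDomain
  haveI : IsDomain (C ⊗[R] (R ⧸ P)) :=
    (Algebra.TensorProduct.comm R C (R ⧸ P)).injective.isDomain
  haveI : IsDomain (C ⧸ P.map (algebraMap R C)) :=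
    (Algebra.TensorProduct.quotIdealMapEquivTensorQuot C P).injective.isDomain
  exact (Ideal.Quotient.isDomain_iff_prime _).1 inferInstance

/-- Variant for a non-local base: `C` ind-étale local over `T` localized at `m`. -/
theorem isPrime_map_ker_atPrime {T C N : Type u} [CommRing T] (m : Ideal T) [m.IsPrime]
    [CommRing C] [IsLocalRing C] [Algebra (Localization.AtPrime m) C]
    [IsLocalHom (algebraMap (Localization.AtPrime m) C)]
    (h : Hensel.IsEtLike (Localization.AtPrime m) C)
    (hres : Function.Bijective (ResidueField.map (algebraMap (Localization.AtPrime m) C)))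
    [CommRing N] [IsDomain N] [IsIntegrallyClosed N] [Algebra T N] [Algebra.IsIntegral T N]
    (hker : RingHom.ker (algebraMap T N) ≤ m) (m' : Ideal N)
    (huniq : ∀ Q : Ideal N, Q.IsPrime → Q.comap (algebraMap T N) = m → Q = m') :
    (((RingHom.ker (algebraMap T N)).map (algebraMap T (Localization.AtPrime m))).map
      (algebraMap (Localization.AtPrime m) C)).IsPrime := by
  have h0 : Algebra.algebraMapSubmonoid N m.primeCompl ≤ nonZeroDivisors N := le_nonZeroDivisors_of_noZeroDivisors (by
    rintro ⟨s, hs, hs0⟩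
    exact hs (hker hs0))
  let N' := Localization (Algebra.algebraMapSubmonoid N m.primeCompl)
  haveI : IsDomain N' := IsLocalization.isDomain_of_le_nonZeroDivisors N' h0
  haveI : IsIntegrallyClosed N' := isIntegrallyClosed_of_isLocalization N' _ h0
  letI : Algebra (Localization.AtPrime m) N' := localizationAlgebra m.primeCompl N
  haveI : IsScalarTower T (Localization.AtPrime m) N' := IsScalarTower.of_algebraMap_eq fun x =>
    (RingHom.congr_fun (IsLocalization.map_comp
      (show m.primeCompl ≤ (Algebra.algebraMapSubmonoid N m.primeCompl).comap (algebraMap T N)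
        from m.primeCompl.le_comap_map)) x).symm
  haveI : Algebra.IsIntegral (Localization.AtPrime m) N' :=
    ⟨isIntegral_localization (R := T) (S := N) (M := m.primeCompl) (Rₘ := Localization.AtPrime m)
      (Sₘ := N')⟩
  haveI : IsLocalRing N' := by
    obtain ⟨M₀, hM₀⟩ := Ideal.exists_maximal N'
    refine IsLocalRing.of_unique_max_ideal ⟨M₀, hM₀, fun M₁ hM₁ => ?_⟩
    have key : ∀ Q : Ideal N', Q.IsMaximal → Q.comap (algebraMap N N') = m' := by
      intro Q hQ
      refine huniq _ inferInstance ?_
      have hc := eq_maximalIdeal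
        (Ideal.isMaximal_comap_of_isIntegral_of_isMaximal (R := Localization.AtPrime m) Q)
      rw [Ideal.comap_comap, ← IsScalarTower.algebraMap_eq T N N',
        IsScalarTower.algebraMap_eq T (Localization.AtPrime m) N', ← Ideal.comap_comap, hc]
      exact IsLocalization.AtPrime.under_maximalIdeal (Localization.AtPrime m) m
    exact (IsLocalization.map_comap (Algebra.algebraMapSubmonoid N m.primeCompl) N' M₁).symm.trans
      ((congrArg (Ideal.map (algebraMap N N')) ((key M₁ hM₁).trans (key M₀ hM₀).symm)).trans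
        (IsLocalization.map_comap (Algebra.algebraMapSubmonoid N m.primeCompl) N' M₀))
  have hP : (RingHom.ker (algebraMap T N)).map (algebraMap T (Localization.AtPrime m)) =
      RingHom.ker (algebraMap (Localization.AtPrime m) N') := by
    have hcomp : ∀ x : T, algebraMap (Localization.AtPrime m) N' (algebraMap T _ x) =
        algebraMap N N' (algebraMap T N x) := fun x => by
      rw [← IsScalarTower.algebraMap_apply, IsScalarTower.algebraMap_apply T N N']
    refine le_antisymm (Ideal.map_le_iff_le_comap.2 fun x hx => ?_) fun z hz => ?_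
    · show algebraMap (Localization.AtPrime m) N' (algebraMap T _ x) = 0
      rw [hcomp, (show algebraMap T N x = 0 from hx), map_zero]
    · obtain ⟨x, s, rfl⟩ := IsLocalization.exists_mk'_eq m.primeCompl z
      have h1 : algebraMap N N' (algebraMap T N x) = 0 := by
        rw [← hcomp, ← IsLocalization.mk'_spec (Localization.AtPrime m) x s, map_mul,
          (show algebraMap (Localization.AtPrime m) N' (IsLocalization.mk' _ x s) = 0 from hz),
          zero_mul]
      have hx : algebraMap T N x = 0 := IsLocalization.injective N' h0 (h1.trans (map_zero _).symm)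
      rw [IsLocalization.mk'_eq_mul_mk'_one]
      exact Ideal.mul_mem_right _ _ (Ideal.mem_map_of_mem _ hx)
  rw [hP]
  exact isPrime_map_ker h hres

section AlgClosed

variable (k : Type u) [Field k] [IsAlgClosed k]

/-- The tensor product of two domains over an algebraically closed field is a domain. -/
theorem isDomain_tensor (A B : Type u) [CommRing A] [CommRing B] [IsDomain A] [IsDomain B]
    [Algebra k A] [Algebra k B] : IsDomain (A ⊗[k] B) :=
  Groth.Agent.S9628.result fun k' _ _ =>
    haveI := FBase.TensorAlgClosed.isDomain_tensor_field (k := k) (A := B) (K := k')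
    (Algebra.TensorProduct.comm k k' B).injective.isDomain

/-- The tensor product of two normal domains over an algebraically closed field is integrally closed. -/
theorem isIntegrallyClosed_tensor (A B : Type u) [CommRing A] [CommRing B] [IsDomain A] [IsDomain B]
    [IsIntegrallyClosed A] [IsIntegrallyClosed B] [Algebra k A] [Algebra k B] :
    IsIntegrallyClosed (A ⊗[k] B) := by
  haveI := isDomain_tensor k A B
  haveI : Algebra.IsGeometricallyReduced k (FractionRing A) :=
    FBase.TensorAlgClosed.isGeometricallyReduced_of_perfectField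
  haveI : Algebra.IsGeometricallyReduced k (FractionRing B) :=
    FBase.TensorAlgClosed.isGeometricallyReduced_of_perfectField
  exact IsIntegrallyClosed.of_localization_maximal fun p _ hp =>
    haveI := hp
    ((Groth.Agent.S2691.result k A B) p).2

variable (A : Type u) [CommRing A] [HenselianLocalRing A] [Algebra k A]
  (hA : Function.Bijective ((residue A).comp (algebraMap k A)))

include hA in
/-- The normalization of a prime quotient of `A` is a normal local domain, integral over `A`,
with residue field `k`. -/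
theorem exists_normalization (p : Ideal A) [p.IsPrime] :
    ∃ (A' : Type u) (_ : CommRing A') (_ : IsDomain A') (_ : IsIntegrallyClosed A')
      (_ : Algebra k A') (f : A →ₐ[k] A'), RingHom.ker f = p ∧ f.toRingHom.IsIntegral ∧
      ∃ M : Ideal A', M.IsMaximal ∧ M.comap f = maximalIdeal A ∧
        (∀ Q : Ideal A', Q.IsPrime → Q.comap f = maximalIdeal A → Q = M) ∧
        ∀ x : A', ∃ c : k, x - algebraMap k A' c ∈ M := by
  let D := A ⧸ p
  let K := FractionRing D
  let A' := integralClosure D K
  haveI : Algebra.IsAlgebraic D K := IsLocalization.isAlgebraic _ (nonZeroDivisors D)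
  haveI : IsFractionRing A' K := integralClosure.isFractionRing_of_algebraic
    (fun x hx => IsFractionRing.injective D K (hx.trans (map_zero _).symm))
  haveI : IsIntegrallyClosed A' := (isIntegrallyClosed_iff_isIntegrallyClosedIn K).2 inferInstance
  haveI : Algebra.IsIntegral D A' := IsIntegralClosure.isIntegral_algebra D K
  haveI : Algebra.IsIntegral A A' := Algebra.IsIntegral.trans D
  haveI hloc : IsLocalRing A' := Hens.isLocalRing_of_integral_domain A A'
  have hinjD : Function.Injective (algebraMap D A') := fun a b hab =>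
    IsFractionRing.injective D K (congrArg Subtype.val hab)
  have hcomap : (maximalIdeal A').comap (algebraMap A A') = maximalIdeal A :=
    eq_maximalIdeal (Ideal.isMaximal_comap_of_isIntegral_of_isMaximal _)
  refine ⟨A', inferInstance, inferInstance, inferInstance, inferInstance,
    IsScalarTower.toAlgHom k A A', ?_, algebraMap_isIntegral_iff.2 inferInstance, maximalIdeal A',
    inferInstance, hcomap, fun Q hQ hQm => ?_, ?_⟩
  · ext x
    show algebraMap A A' x = 0 ↔ x ∈ p
    rw [IsScalarTower.algebraMap_apply A D A', map_eq_zero_iff _ hinjD]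
    exact Ideal.Quotient.eq_zero_iff_mem
  · haveI : (Q.comap (algebraMap A A')).IsMaximal := by
      rw [show Q.comap (algebraMap A A') = maximalIdeal A from hQm]; infer_instance
    exact eq_maximalIdeal
      (Ideal.isMaximal_of_isIntegral_of_isMaximal_comap (R := A) Q inferInstance)
  · intro x
    let κ := A' ⧸ maximalIdeal A'
    have hint : IsIntegral k (Ideal.Quotient.mk (maximalIdeal A') x) := by
      obtain ⟨q, hq, hqx⟩ := Algebra.IsIntegral.isIntegral (R := A) x
      refine ⟨q.map ((RingEquiv.ofBijective _ hA).symm.toRingHom.comp (residue A)), hq.map _, ?_⟩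
      have hc : (algebraMap k κ).comp ((RingEquiv.ofBijective _ hA).symm.toRingHom.comp (residue A)) =
          (Ideal.Quotient.mk (maximalIdeal A')).comp (algebraMap A A') := by
        ext a
        obtain ⟨c, hc⟩ := hA.2 (residue A a)
        show algebraMap k κ ((RingEquiv.ofBijective _ hA).symm (residue A a)) =
          Ideal.Quotient.mk _ (algebraMap A A' a)
        have he : (RingEquiv.ofBijective _ hA).symm (residue A a) = c := by
          rw [← hc]; exact (RingEquiv.ofBijective _ hA).symm_apply_apply c
        rw [he]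
        have hd : algebraMap k A c - a ∈ maximalIdeal A := by
          rw [← residue_eq_zero_iff, map_sub, sub_eq_zero]
          exact hc
        rw [← hcomap, Ideal.mem_comap, map_sub, ← IsScalarTower.algebraMap_apply] at hd
        exact Ideal.Quotient.eq.2 hd
      rw [Polynomial.eval₂_map, hc, ← Polynomial.hom_eval₂, hqx, map_zero]
    letI := Ideal.Quotient.field (maximalIdeal A')
    obtain ⟨c, hc⟩ := (IsAlgClosed.algebraMap_bijective_of_isIntegral (k := k)
      (K := integralClosure k κ)).2 ⟨_, hint⟩
    exact ⟨c, Ideal.Quotient.eq.1 (congrArg Subtype.val hc).symm⟩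

variable (B : Type u) [CommRing B] [HenselianLocalRing B] [Algebra k B]
  (hB : Function.Bijective ((residue B).comp (algebraMap k B)))

include hA hB in
/-- Over `(p, q)` the tensor product has a prime contained in `𝔪` which generates a prime in the
strict henselization. -/
theorem exists_prime_pair (𝔪 : Ideal (A ⊗[k] B)) [𝔪.IsPrime]
    (h𝔪 : 𝔪 = (maximalIdeal A).map (Algebra.TensorProduct.includeLeft : A →ₐ[k] A ⊗[k] B) ⊔
      (maximalIdeal B).map (Algebra.TensorProduct.includeRight : B →ₐ[k] A ⊗[k] B))
    (C : Type u) [CommRing C] [IsLocalRing C] [Algebra (Localization.AtPrime 𝔪) C]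
    [IsLocalHom (algebraMap (Localization.AtPrime 𝔪) C)]
    (hC : Hensel.IsEtLike (Localization.AtPrime 𝔪) C)
    (hres : Function.Bijective (ResidueField.map (algebraMap (Localization.AtPrime 𝔪) C)))
    (p : Ideal A) [p.IsPrime] (q : Ideal B) [q.IsPrime] :
    ∃ P : Ideal (A ⊗[k] B), P.IsPrime ∧ P ≤ 𝔪 ∧
      P = p.map (Algebra.TensorProduct.includeLeft : A →ₐ[k] A ⊗[k] B) ⊔
        q.map (Algebra.TensorProduct.includeRight : B →ₐ[k] A ⊗[k] B) ∧
      P.comap (Algebra.TensorProduct.includeLeft : A →ₐ[k] A ⊗[k] B) = p ∧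
      P.comap (Algebra.TensorProduct.includeRight : B →ₐ[k] A ⊗[k] B) = q ∧
      ((P.map (algebraMap _ (Localization.AtPrime 𝔪))).map
        (algebraMap (Localization.AtPrime 𝔪) C)).IsPrime := by
  obtain ⟨A', _, _, _, _, f, hfp, hfint, MA, hMA, hMAc, hMAu, hMAr⟩ := exists_normalization k A hA p
  obtain ⟨B', _, _, _, _, g, hgq, hgint, MB, hMB, hMBc, hMBu, hMBr⟩ := exists_normalization k B hB q
  haveI := isDomain_tensor k A' B'
  haveI := isIntegrallyClosed_tensor k A' B'
  let φ := Algebra.TensorProduct.map f g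
  letI : Algebra (A ⊗[k] B) (A' ⊗[k] B') := φ.toRingHom.toAlgebra
  haveI : Algebra.IsIntegral (A ⊗[k] B) (A' ⊗[k] B') := by
    refine ⟨fun z => ?_⟩
    induction z using TensorProduct.induction_on with
    | zero => exact isIntegral_zero
    | add x y hx hy => exact hx.add hy
    | tmul a b =>
      rw [show a ⊗ₜ[k] b = (a ⊗ₜ[k] (1 : B')) * ((1 : A') ⊗ₜ[k] b) by
        rw [Algebra.TensorProduct.tmul_mul_tmul, mul_one, one_mul]]
      refine IsIntegral.mul ?_ ?_
      · obtain ⟨r, hr, hra⟩ := hfint a
        refine ⟨r.map (Algebra.TensorProduct.includeLeft : A →ₐ[k] A ⊗[k] B).toRingHom, hr.map _, ?_⟩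
        rw [Polynomial.eval₂_map, show (algebraMap (A ⊗[k] B) (A' ⊗[k] B')).comp
          (Algebra.TensorProduct.includeLeft : A →ₐ[k] A ⊗[k] B).toRingHom =
          (Algebra.TensorProduct.includeLeft : A' →ₐ[k] A' ⊗[k] B').toRingHom.comp f.toRingHom from
          RingHom.ext fun x => by
            show φ (x ⊗ₜ 1) = f x ⊗ₜ 1
            rw [Algebra.TensorProduct.map_tmul, map_one],
          show a ⊗ₜ[k] (1 : B') = (Algebra.TensorProduct.includeLeft : A' →ₐ[k] A' ⊗[k] B').toRingHom a
            from rfl, ← Polynomial.hom_eval₂, hra, map_zero]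
      · obtain ⟨r, hr, hrb⟩ := hgint b
        refine ⟨r.map (Algebra.TensorProduct.includeRight : B →ₐ[k] A ⊗[k] B).toRingHom, hr.map _, ?_⟩
        rw [Polynomial.eval₂_map, show (algebraMap (A ⊗[k] B) (A' ⊗[k] B')).comp
          (Algebra.TensorProduct.includeRight : B →ₐ[k] A ⊗[k] B).toRingHom =
          (Algebra.TensorProduct.includeRight : B' →ₐ[k] A' ⊗[k] B').toRingHom.comp g.toRingHom from
          RingHom.ext fun x => by
            show φ (1 ⊗ₜ x) = 1 ⊗ₜ g x
            rw [Algebra.TensorProduct.map_tmul, map_one],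
          show (1 : A') ⊗ₜ[k] b = (Algebra.TensorProduct.includeRight : B' →ₐ[k] A' ⊗[k] B').toRingHom b
            from rfl, ← Polynomial.hom_eval₂, hrb, map_zero]
  -- the kernel
  let P₀ := p.map (Algebra.TensorProduct.includeLeft : A →ₐ[k] A ⊗[k] B) ⊔
    q.map (Algebra.TensorProduct.includeRight : B →ₐ[k] A ⊗[k] B)
  have hker : RingHom.ker (algebraMap (A ⊗[k] B) (A' ⊗[k] B')) = P₀ := by
    let f₁ : A →ₐ[k] A ⧸ p := Ideal.Quotient.mkₐ k p
    let g₁ : B →ₐ[k] B ⧸ q := Ideal.Quotient.mkₐ k q
    let f₂ : A ⧸ p →ₐ[k] A' := Ideal.Quotient.liftₐ p f fun x hx => hfp.symm.le hx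
    let g₂ : B ⧸ q →ₐ[k] B' := Ideal.Quotient.liftₐ q g fun x hx => hgq.symm.le hx
    have hf₂ : Function.Injective f₂ := (injective_iff_map_eq_zero f₂).2 fun x hx => by
      obtain ⟨a, rfl⟩ := Ideal.Quotient.mk_surjective x
      exact Ideal.Quotient.eq_zero_iff_mem.2 (hfp.le hx)
    have hg₂ : Function.Injective g₂ := (injective_iff_map_eq_zero g₂).2 fun x hx => by
      obtain ⟨a, rfl⟩ := Ideal.Quotient.mk_surjective x
      exact Ideal.Quotient.eq_zero_iff_mem.2 (hgq.le hx)
    have hinj : Function.Injective (Algebra.TensorProduct.map f₂ g₂) := by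
      have h1 : Function.Injective (Algebra.TensorProduct.map (AlgHom.id k A') g₂) :=
        Module.Flat.lTensor_preserves_injective_linearMap (M := A') g₂.toLinearMap hg₂
      have h2 : Function.Injective (Algebra.TensorProduct.map f₂ (AlgHom.id k (B ⧸ q))) :=
        Module.Flat.rTensor_preserves_injective_linearMap (M := B ⧸ q) f₂.toLinearMap hf₂
      rw [show Algebra.TensorProduct.map f₂ g₂ = (Algebra.TensorProduct.map (AlgHom.id k A') g₂).comp
        (Algebra.TensorProduct.map f₂ (AlgHom.id k (B ⧸ q))) by
          rw [← Algebra.TensorProduct.map_comp, AlgHom.id_comp, AlgHom.comp_id]]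
      exact h1.comp h2
    ext x
    show φ x = 0 ↔ x ∈ P₀
    rw [show φ = (Algebra.TensorProduct.map f₂ g₂).comp (Algebra.TensorProduct.map f₁ g₁) by
      rw [← Algebra.TensorProduct.map_comp]; rfl, AlgHom.comp_apply, map_eq_zero_iff _ hinj]
    have hk := Algebra.TensorProduct.map_ker (R := k) (S := k) f₁ g₁
      Ideal.Quotient.mk_surjective Ideal.Quotient.mk_surjective
    have hf₁ : RingHom.ker f₁ = p := Ideal.Quotient.mkₐ_ker k p
    have hg₁ : RingHom.ker g₁ = q := Ideal.Quotient.mkₐ_ker k q
    rw [hf₁, hg₁] at hk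
    exact SetLike.ext_iff.1 hk x
  have hP₀m : P₀ ≤ 𝔪 := by
    rw [h𝔪]
    exact sup_le_sup (Ideal.map_mono (le_maximalIdeal (Ideal.IsPrime.ne_top')))
      (Ideal.map_mono (le_maximalIdeal (Ideal.IsPrime.ne_top')))
  haveI hP₀ : P₀.IsPrime := hker ▸ RingHom.ker_isPrime _
  let M₀ : Ideal (A' ⊗[k] B') :=
    MA.map (Algebra.TensorProduct.includeLeft : A' →ₐ[k] A' ⊗[k] B') ⊔
      MB.map (Algebra.TensorProduct.includeRight : B' →ₐ[k] A' ⊗[k] B')
  have huniq : ∀ Q : Ideal (A' ⊗[k] B'), Q.IsPrime →
      Q.comap (algebraMap (A ⊗[k] B) (A' ⊗[k] B')) = 𝔪 → Q = M₀ := by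
    intro Q hQ hQm
    have hA1 : Q.comap (Algebra.TensorProduct.includeLeft : A' →ₐ[k] A' ⊗[k] B') = MA := by
      refine hMAu _ inferInstance (le_antisymm (le_maximalIdeal (Ideal.IsPrime.ne_top')) fun a ha => ?_)
      have h1 : (a ⊗ₜ[k] (1 : B)) ∈ 𝔪 := h𝔪 ▸ Ideal.mem_sup_left (Ideal.mem_map_of_mem _ ha)
      rw [← hQm] at h1
      have h2 : φ (a ⊗ₜ[k] (1 : B)) ∈ Q := h1
      rw [Algebra.TensorProduct.map_tmul, map_one] at h2
      exact h2
    have hB1 : Q.comap (Algebra.TensorProduct.includeRight : B' →ₐ[k] A' ⊗[k] B') = MB := by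
      refine hMBu _ inferInstance (le_antisymm (le_maximalIdeal (Ideal.IsPrime.ne_top')) fun b hb => ?_)
      have h1 : ((1 : A) ⊗ₜ[k] b) ∈ 𝔪 := h𝔪 ▸ Ideal.mem_sup_right (Ideal.mem_map_of_mem _ hb)
      rw [← hQm] at h1
      have h2 : φ ((1 : A) ⊗ₜ[k] b) ∈ Q := h1
      rw [Algebra.TensorProduct.map_tmul, map_one] at h2
      exact h2
    have hle : M₀ ≤ Q := sup_le (Ideal.map_le_iff_le_comap.2 hA1.ge)
      (Ideal.map_le_iff_le_comap.2 hB1.ge)
    have happ : ∀ z : A' ⊗[k] B', ∃ c : k, z - algebraMap k _ c ∈ M₀ := by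
      intro z
      induction z using TensorProduct.induction_on with
      | zero => exact ⟨0, by simp⟩
      | add x y hx hy =>
        obtain ⟨c, hc⟩ := hx
        obtain ⟨d, hd⟩ := hy
        exact ⟨c + d, by rw [map_add, add_sub_add_comm]; exact add_mem hc hd⟩
      | tmul a b =>
        obtain ⟨c, hc⟩ := hMAr a
        obtain ⟨d, hd⟩ := hMBr b
        refine ⟨c * d, ?_⟩
        have e : a ⊗ₜ[k] b - algebraMap k (A' ⊗[k] B') (c * d) =
            (Algebra.TensorProduct.includeLeft : A' →ₐ[k] A' ⊗[k] B') (a - algebraMap k A' c) *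
              (Algebra.TensorProduct.includeRight : B' →ₐ[k] A' ⊗[k] B') b +
            algebraMap k (A' ⊗[k] B') c *
              (Algebra.TensorProduct.includeRight : B' →ₐ[k] A' ⊗[k] B') (b - algebraMap k B' d) := by
          rw [map_sub, map_sub, AlgHom.commutes, AlgHom.commutes, map_mul]
          rw [show a ⊗ₜ[k] b = (Algebra.TensorProduct.includeLeft : A' →ₐ[k] A' ⊗[k] B') a *
            (Algebra.TensorProduct.includeRight : B' →ₐ[k] A' ⊗[k] B') b by
              rw [Algebra.TensorProduct.includeLeft_apply, Algebra.TensorProduct.includeRight_apply,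
                Algebra.TensorProduct.tmul_mul_tmul, mul_one, one_mul]]
          ring
        rw [e]
        exact add_mem (Ideal.mul_mem_right _ _ (Ideal.mem_sup_left (Ideal.mem_map_of_mem _ hc)))
          (Ideal.mul_mem_left _ _ (Ideal.mem_sup_right (Ideal.mem_map_of_mem _ hd)))
    refine le_antisymm (fun z hz => ?_) hle
    obtain ⟨c, hc⟩ := happ z
    have hcQ : algebraMap k (A' ⊗[k] B') c ∈ Q := by
      have := Q.sub_mem hz (hle hc)
      rwa [sub_sub_cancel] at this
    have hc0 : c = 0 := by
      by_contra h0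
      exact hQ.ne_top (Ideal.eq_top_of_isUnit_mem _ hcQ ((IsUnit.mk0 c h0).map _))
    rwa [hc0, map_zero, sub_zero] at hc
  have hprime := isPrime_map_ker_atPrime 𝔪 hC hres (hker ▸ hP₀m) M₀ huniq
  rw [hker] at hprime
  refine ⟨P₀, hP₀, hP₀m, rfl, ?_, ?_, hprime⟩
  · haveI : Nontrivial B' := inferInstance
    rw [← hker]
    ext a
    show φ (a ⊗ₜ[k] (1 : B)) = 0 ↔ a ∈ p
    rw [Algebra.TensorProduct.map_tmul, map_one, ← hfp, RingHom.mem_ker]
    exact map_eq_zero_iff _ (Algebra.TensorProduct.includeLeft_injective (R := k) (S := k) (A := A')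
      (B := B') (algebraMap k B').injective)
  · rw [← hker]
    ext b
    show φ ((1 : A) ⊗ₜ[k] b) = 0 ↔ b ∈ q
    rw [Algebra.TensorProduct.map_tmul, map_one, ← hgq, RingHom.mem_ker]
    exact map_eq_zero_iff _ (Algebra.TensorProduct.includeRight_injective (R := k) (A := A')
      (B := B') (algebraMap k A').injective)

end AlgClosed

end Groth.Agent.Hensel.TensorMinimal
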