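import Groth.Agent.Hensel.Factor

/-!
Idempotents lift along henselian pairs; characterisations of henselian pairs.
-/

namespace Groth.Agent.Hensel

open Polynomial

variable {A : Type*} [CommRing A] {I : Ideal A}

/-- An element idempotent modulo `I`, killed by a suitable polynomial, can be corrected to an
idempotent. `B` need not be commutative. -/
lemma exists_isIdempotentElem_aeval (hG : GabberRoots A I) (hI : I ≤ Ideal.jacobson ⊥)
    {B C : Type*} [Ring B] [Algebra A B] [Ring C] [Algebra A C] (ρ : B →ₐ[A] C)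
    (hρ : ∀ a ∈ I, algebraMap A C a = 0) {b : B} (hb : IsIdempotentElem (ρ b))
    {f : A[X]} (hf : f.Monic) (hfb : aeval b f = 0) {m : ℕ} (hm : 0 < m)
    (hfI : f.map (Ideal.Quotient.mk I) = (X ^ 2 - X) ^ m) :
    ∃ r : A[X], IsIdempotentElem (aeval b r) ∧ ρ (aeval b r) = ρ b := by
  have hfac : f.map (Ideal.Quotient.mk I) = X ^ m * (X - 1) ^ m := by
    rw [hfI, ← mul_pow]; ring_nf
  obtain ⟨g, h, hg, hh, rfl, ⟨c, d, hcd⟩, hgI, hhI⟩ := exists_factorization_lift hG hI hf
    (monic_X_pow m) (by simpa using (monic_X_sub_C (1 : A ⧸ I)).pow m)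
    (by
      have hXC : IsCoprime (X : (A ⧸ I)[X]) (X - 1) := ⟨1, -1, by ring⟩
      exact hXC.pow) hfac
  refine ⟨c * g, ?_, ?_⟩
  · unfold IsIdempotentElem
    have h0 : c * g * (d * h) = c * d * (g * h) := by ring
    have h1 : aeval b (c * g * (d * h)) = 0 := by rw [h0, map_mul, hfb, mul_zero]
    rw [eq_sub_of_add_eq' hcd, mul_sub, mul_one, map_sub, sub_eq_zero] at h1
    rw [← map_mul]
    exact h1.symm
  · let β : A ⧸ I →+* C := Ideal.Quotient.lift I (algebraMap A C) hρ
    letI : Algebra (A ⧸ I) C := β.toAlgebra' fun x y ↦ by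
      obtain ⟨x, rfl⟩ := Ideal.Quotient.mk_surjective x
      exact Algebra.commutes x y
    haveI : IsScalarTower A (A ⧸ I) C := .of_algebraMap_eq fun x ↦ rfl
    have hev : ∀ p : A[X], ρ (aeval b p) = aeval (ρ b) (p.map (Ideal.Quotient.mk I)) := fun p ↦ by
      rw [← aeval_algHom_apply, ← Ideal.Quotient.algebraMap_eq, aeval_map_algebraMap]
    rw [hev, Polynomial.map_mul, hgI, map_mul, map_pow, aeval_X, hb.pow_eq hm.ne']
    obtain ⟨c', hc'⟩ : (X - 1) ∣ (c.map (Ideal.Quotient.mk I) - 1) := by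
      rw [← Polynomial.C_1, dvd_iff_isRoot, IsRoot.def, eval_sub, eval_C, sub_eq_zero]
      have := congr(eval (1 : A ⧸ I) (Polynomial.map (Ideal.Quotient.mk I) $hcd))
      simpa [hgI, hhI, hm.ne'] using this
    rw [sub_eq_iff_eq_add.1 hc', map_add, map_one, add_mul, one_mul,
      show (X - 1) * c' = c' * (X - 1) from mul_comm _ _, map_mul, mul_assoc]
    simp [sub_mul, hb.eq]

lemma exists_monic_sq_sub_self_of_isIntegral {B : Type*} [CommRing B] [Algebra A B]
    [Algebra.IsIntegral A B] {b : B} (hb : b ^ 2 - b ∈ I.map (algebraMap A B)) :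
    ∃ f : A[X], f.Monic ∧ aeval b f = 0 ∧
      ∃ m, 0 < m ∧ f.map (Ideal.Quotient.mk I) = (X ^ 2 - X) ^ m := by
  classical
  obtain ⟨n, a, c, hc⟩ : ∃ (n : ℕ) (a : Fin n → B) (c : Fin n → I),
      b ^ 2 - b = ∑ i, a i * algebraMap A B (c i) := by
    have hb' : b ^ 2 - b ∈ Submodule.span B (algebraMap A B '' (I : Set A)) := hb
    rw [Submodule.mem_span_set'] at hb'
    obtain ⟨n, a, g, hg⟩ := hb'
    choose c hc hcg using fun i ↦ (g i).2
    exact ⟨n, a, fun i ↦ ⟨c i, hc i⟩, by simp [← hg, hcg]⟩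
  let S : Subalgebra A B := Algebra.adjoin A (insert b (Set.range a))
  have hfin : Module.Finite A S := by
    refine Module.Finite.iff_fg.2 (fg_adjoin_of_finite ((Set.finite_range a).insert b) ?_)
    exact fun x _ ↦ Algebra.IsIntegral.isIntegral x
  let b' : S := ⟨b, Algebra.subset_adjoin (Set.mem_insert _ _)⟩
  let φ := LinearMap.mulLeft A (b' ^ 2 - b')
  have hφ : LinearMap.range φ ≤ I • (⊤ : Submodule A S) := by
    rintro _ ⟨x, rfl⟩
    have h1 : b' ^ 2 - b' = ∑ i, (⟨a i, Algebra.subset_adjoin (Set.mem_insert_of_mem _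
        (Set.mem_range_self i))⟩ : S) * algebraMap A S (c i) := by
      apply Subtype.ext
      simp only [b', SubmonoidClass.coe_pow, AddSubgroupClass.coe_sub, hc]
      simp
    change (b' ^ 2 - b') * x ∈ _
    rw [h1, Finset.sum_mul]
    refine Submodule.sum_mem _ fun i _ ↦ ?_
    rw [Ideal.smul_top_eq_map]
    exact Ideal.mul_mem_right _ _ (Ideal.mul_mem_left _ _ (Ideal.mem_map_of_mem _ (c i).2))
  obtain ⟨P, hP, -, hPdeg, hP0⟩ :=
    LinearMap.exists_monic_and_natDegree_eq_and_coeff_mem_pow_and_aeval_eq_zero A φ I hφ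
  obtain hsub | hnt := subsingleton_or_nontrivial A
  · exact ⟨1, monic_one, by
      have := Module.subsingleton A B
      exact Subsingleton.elim _ _, 1, one_pos, Subsingleton.elim _ _⟩
  have hPI : P.map (Ideal.Quotient.mk I) = X ^ P.natDegree := by
    ext i
    rw [coeff_map, coeff_X_pow]
    split_ifs with h
    · rw [h, hP.coeff_natDegree, map_one]
    rw [Ideal.Quotient.eq_zero_iff_mem]
    obtain hi | hi := lt_or_gt_of_ne h
    · exact Ideal.pow_le_self (by omega) (hPdeg i)
    · rw [coeff_eq_zero_of_natDegree_lt hi]; exact zero_mem _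
  have hPb : aeval (b' ^ 2 - b') P = 0 := by
    have h1 : φ = Algebra.lmul A S (b' ^ 2 - b') := rfl
    rw [h1, aeval_algHom_apply] at hP0
    simpa using congr($hP0 1)
  have hd : (X ^ 2 - X : A[X]).natDegree = 2 := by
    rw [natDegree_sub_eq_left_of_natDegree_lt] <;> simp
  have hm1 : (X ^ 2 - X : A[X]).Monic := monic_X_pow_sub (by simp [degree_X])
  refine ⟨(P.comp (X ^ 2 - X)) * (X ^ 2 - X), (hP.comp hm1 (by rw [hd]; norm_num)).mul hm1, ?_,
    P.natDegree + 1, by omega, ?_⟩
  · have h2 : aeval b' (P.comp (X ^ 2 - X)) = 0 := by simpa [aeval_comp] using hPb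
    have h3 := congr(S.val $h2)
    rw [← aeval_algHom_apply, map_zero] at h3
    change aeval b (P.comp (X ^ 2 - X)) = 0 at h3
    rw [map_mul, h3, zero_mul]
  · simp [Polynomial.map_mul, map_comp, hPI, pow_succ]

/-- Idempotents lift along integral algebras over a henselian pair. -/
theorem exists_isIdempotentElem_lift (hG : GabberRoots A I) (hI : I ≤ Ideal.jacobson ⊥)
    {B : Type*} [CommRing B] [Algebra A B] [Algebra.IsIntegral A B]
    {e₀ : B ⧸ I.map (algebraMap A B)} (he₀ : IsIdempotentElem e₀) :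
    ∃ e : B, IsIdempotentElem e ∧ Ideal.Quotient.mk _ e = e₀ := by
  obtain ⟨b, rfl⟩ := Ideal.Quotient.mk_surjective e₀
  have hb : b ^ 2 - b ∈ I.map (algebraMap A B) := by
    rw [← Ideal.Quotient.eq_zero_iff_mem, map_sub, map_pow, sq, he₀.eq, sub_self]
  obtain ⟨f, hf, hfb, m, hm, hfI⟩ := exists_monic_sq_sub_self_of_isIntegral hb
  obtain ⟨r, hr, hr'⟩ := exists_isIdempotentElem_aeval hG hI
    (Ideal.Quotient.mkₐ A (I.map (algebraMap A B)))
    (fun a ha ↦ by
      rw [IsScalarTower.algebraMap_apply A B, Ideal.Quotient.algebraMap_eq,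
        Ideal.Quotient.eq_zero_iff_mem]
      exact Ideal.mem_map_of_mem _ ha)
    he₀ hf hfb hm hfI
  exact ⟨_, hr, hr'⟩

/-- `A` is henselian at `I` from Gabber's condition. -/
theorem henselianRing_of_gabberRoots (hI : I ≤ Ideal.jacobson ⊥) (hG : GabberRoots A I) :
    HenselianRing A I where
  jac := hI
  is_henselian f hf a₀ h₁ h₂ := by
    obtain hsub | hnt := subsingleton_or_nontrivial (A ⧸ I)
    · have hsub' : Subsingleton A := by
        refine subsingleton_of_zero_eq_one (isUnit_zero_iff.1 ?_)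
        exact isUnit_of_mk hI (isUnit_of_subsingleton _)
      exact ⟨a₀, Subsingleton.elim _ _, by simp⟩
    set f₀ := f.map (Ideal.Quotient.mk I) with hf₀
    set a := Ideal.Quotient.mk I a₀ with ha
    have hroot : f₀.IsRoot a := by
      rw [IsRoot.def, hf₀, eval_map, ha, eval₂_at_apply, Ideal.Quotient.eq_zero_iff_mem.2 h₁]
    obtain ⟨q, hq⟩ : (X - C a) ∣ f₀ := dvd_iff_isRoot.2 hroot
    have hqm : q.Monic := (monic_X_sub_C a).of_mul_monic_left (hq ▸ hf.map _)
    have hqa : IsUnit (q.eval a) := by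
      have := congr(eval a (derivative $hq))
      rw [hf₀, derivative_map, eval_map, ha, eval₂_at_apply, derivative_mul] at this
      simp [← ha] at this
      rwa [← this]
    have hc : IsCoprime (X - C a) q := by
      obtain ⟨u, hu⟩ := hqa
      obtain ⟨r, hr⟩ : (X - C a) ∣ (q - C (q.eval a)) := dvd_iff_isRoot.2 (by simp)
      refine ⟨-(C (↑u⁻¹ : A ⧸ I)) * r, C (↑u⁻¹ : A ⧸ I), ?_⟩
      have h2 : C (↑u⁻¹ : A ⧸ I) * C (q.eval a) = 1 := by
        rw [← map_mul, ← hu, Units.inv_mul, map_one]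
      linear_combination C (↑u⁻¹ : A ⧸ I) * hr + h2
    obtain ⟨g, h, hg, -, rfl, -, hgI, -⟩ :=
      exists_factorization_lift hG hI hf (monic_X_sub_C a) hqm hc hq
    have hdeg : g.natDegree = 1 := by
      rw [← hg.natDegree_map (Ideal.Quotient.mk I), hgI, natDegree_X_sub_C]
    refine ⟨- g.coeff 0, ?_, ?_⟩
    · rw [IsRoot.def, eval_mul, hg.eq_X_add_C hdeg]
      simp
    · rw [← Ideal.Quotient.eq, map_neg, ← coeff_map, hgI]
      simp [ha]

end Groth.Agent.Hensel
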