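import Groth.Agent.Hensel.EtaleLift
import Groth.Agent.Hensel.Idempotent
import Mathlib.RingTheory.Smooth.StandardSmoothOfFree
import Mathlib.RingTheory.Extension.Presentation.Submersive
import Mathlib.Algebra.MvPolynomial.PDeriv
import Mathlib.LinearAlgebra.Matrix.Charpoly.Coeff
import Mathlib.RingTheory.Nakayama

/-!
Points of smooth algebras lift along henselian pairs.
-/

set_option autoImplicit false
universe u

namespace Groth.Agent.Hensel

open MvPolynomial Matrix

/-- Idempotent matrices lift along henselian pairs. -/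
theorem exists_isIdempotentElem_matrix {A : Type u} [CommRing A] {I : Ideal A} [HenselianRing A I]
    {n : Type u} [Fintype n] [DecidableEq n] (N : Matrix n n A)
    (hN : IsIdempotentElem (N.map (Ideal.Quotient.mk I))) :
    ∃ M : Matrix n n A, IsIdempotentElem M ∧ M.map (Ideal.Quotient.mk I) = N.map (Ideal.Quotient.mk I) := by
  let ρ : Matrix n n A →ₐ[A] Matrix n n (A ⧸ I) := (Ideal.Quotient.mkₐ A I).mapMatrix
  have hρc : (N ^ 2 - N).map (Ideal.Quotient.mk I) = 0 := by
    change ρ (N ^ 2 - N) = 0
    rw [map_sub, map_pow, sq]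
    exact sub_eq_zero.2 hN
  let f : Polynomial A := (N ^ 2 - N).charpoly.comp (Polynomial.X ^ 2 - Polynomial.X) *
    (Polynomial.X ^ 2 - Polynomial.X)
  rcases subsingleton_or_nontrivial A with hA | hA
  · exact ⟨0, mul_zero 0, Subsingleton.elim _ _⟩
  have hm1 : (Polynomial.X ^ 2 - Polynomial.X : Polynomial A).Monic :=
    Polynomial.monic_X_pow_sub (by simp [Polynomial.degree_X])
  have hd : (Polynomial.X ^ 2 - Polynomial.X : Polynomial A).natDegree = 2 := by
    rw [Polynomial.natDegree_sub_eq_left_of_natDegree_lt] <;> simp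
  have hf : f.Monic := ((Matrix.charpoly_monic _).comp hm1 (by rw [hd]; norm_num)).mul hm1
  have hfN : Polynomial.aeval N f = 0 := by
    simp [f, Polynomial.aeval_comp, Matrix.aeval_self_charpoly]
  have hfI : f.map (Ideal.Quotient.mk I) =
      (Polynomial.X ^ 2 - Polynomial.X) ^ (Fintype.card n + 1) := by
    simp only [f, Polynomial.map_mul, Polynomial.map_comp, Polynomial.map_sub, Polynomial.map_pow,
      Polynomial.map_X, ← Matrix.charpoly_map, hρc, Matrix.charpoly_zero, Polynomial.X_pow_comp]
    exact (pow_succ _ _).symm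
  obtain ⟨r, hr, hr'⟩ := exists_isIdempotentElem_aeval (gabberRoots_of_henselianRing (A := A) (I := I))
    ‹HenselianRing A I›.jac ρ (fun a ha => by
      rw [IsScalarTower.algebraMap_apply A (A ⧸ I) (Matrix n n (A ⧸ I)), Ideal.Quotient.algebraMap_eq,
        Ideal.Quotient.eq_zero_iff_mem.2 ha, map_zero]) (b := N) hN hf hfN (Nat.succ_pos _) hfI
  exact ⟨_, hr, hr'⟩

/-- Multivariate Hensel lemma: a nondegenerate system of equations. -/
theorem exists_root_system {A : Type u} [CommRing A] {I : Ideal A} [HenselianRing A I]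
    {n : Type} [Fintype n] [DecidableEq n] (H : n → MvPolynomial n A)
    (hH : ∀ i, aeval (0 : n → A) (H i) ∈ I)
    (hJ : IsUnit (Ideal.Quotient.mk I
      (Matrix.of fun i j => aeval (0 : n → A) (pderiv i (H j))).det)) :
    ∃ y : n → A, (∀ i, aeval y (H i) = 0) ∧ ∀ i, y i ∈ I := by
  classical
  let S₀ := MvPolynomial n A ⧸ Ideal.span (Set.range H)
  let P₀ : Algebra.PreSubmersivePresentation A S₀ n n :=
    Algebra.PreSubmersivePresentation.naive id Function.injective_id
  let S := Localization.Away P₀.jacobian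
  haveI hS : Algebra.Etale A S := by
    have hΔ : IsUnit (algebraMap S₀ S P₀.jacobian) := IsLocalization.Away.algebraMap_isUnit _
    let Q : Algebra.SubmersivePresentation A S _ _ :=
      { toPreSubmersivePresentation := .comp (.localizationAway S P₀.jacobian) P₀,
        jacobian_isUnit := by simpa [Algebra.smul_def, -isUnit_map_iff, hΔ] }
    have : Algebra.IsStandardSmoothOfRelativeDimension 0 A S := by
      refine ⟨_, _, inferInstance, inferInstance, Q, ?_⟩
      simp only [Q, Algebra.PreSubmersivePresentation.dimension_comp_eq_dimension_add_dimension]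
      simp [Algebra.Presentation.dimension, P₀]
    infer_instance
  let φ₀ : S₀ →ₐ[A] A ⧸ I := Ideal.Quotient.liftₐ _
    ((Ideal.Quotient.mkₐ A I).comp (aeval (0 : n → A))) fun p hp => by
      have h1 : Ideal.span (Set.range H) ≤
          RingHom.ker ((Ideal.Quotient.mkₐ A I).comp (aeval (0 : n → A))).toRingHom :=
        Ideal.span_le.2 (Set.range_subset_iff.2 fun i => Ideal.Quotient.eq_zero_iff_mem.2 (hH i))
      exact h1 hp
  have hφJ : IsUnit (φ₀ P₀.jacobian) := by
    rw [P₀.jacobian_eq_jacobiMatrix_det]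
    change IsUnit (φ₀ (Ideal.Quotient.mk _ P₀.jacobiMatrix.det))
    change IsUnit (Ideal.Quotient.mk I (aeval (0 : n → A) P₀.jacobiMatrix.det))
    rw [AlgHom.map_det]
    convert hJ using 3
    refine Matrix.ext fun i j => ?_
    rw [AlgHom.mapMatrix_apply, Matrix.map_apply, Algebra.PreSubmersivePresentation.jacobiMatrix_naive]
    rfl
  let σ : S →ₐ[A] A ⧸ I := IsLocalization.Away.liftAlgHom (f := φ₀) P₀.jacobian hφJ
  obtain ⟨τ, hτ⟩ := exists_algHom_lift S σ
  let q : MvPolynomial n A →ₐ[A] S :=
    (IsScalarTower.toAlgHom A S₀ S).comp (Ideal.Quotient.mkₐ A _)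
  refine ⟨fun i => τ (q (X i)), fun i => ?_, fun i => ?_⟩
  · have h1 : aeval (fun i => τ (q (X i))) = τ.comp q := MvPolynomial.algHom_ext fun i => by simp
    rw [h1, AlgHom.comp_apply]
    change τ (algebraMap S₀ S (Ideal.Quotient.mk _ (H i))) = 0
    rw [Ideal.Quotient.eq_zero_iff_mem.2 (Ideal.subset_span (Set.mem_range_self i)), map_zero, map_zero]
  · rw [← Ideal.Quotient.eq_zero_iff_mem]
    change (Ideal.Quotient.mkₐ A I).comp τ (q (X i)) = 0
    rw [hτ]
    refine (IsLocalization.lift_eq _ _).trans ?_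
    change Ideal.Quotient.mk I (aeval (0 : n → A) (X i)) = 0
    simp

/-- The chain rule. -/
theorem pderiv_aeval {A : Type*} [CommRing A] {σ τ : Type*} [Fintype σ]
    (v : σ → MvPolynomial τ A) (l : τ) (p : MvPolynomial σ A) :
    pderiv l (aeval v p) = ∑ k, aeval v (pderiv k p) * pderiv l (v k) := by
  classical
  induction p using MvPolynomial.induction_on with
  | C a => simp
  | add p q hp hq => simp only [map_add, hp, hq, add_mul, Finset.sum_add_distrib]
  | mul_X p i hp =>
    have h2 : ∀ k, aeval v (pderiv k (p * X i)) * pderiv l (v k) =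
        v i * (aeval v (pderiv k p) * pderiv l (v k)) +
          (if k = i then aeval v p * pderiv l (v i) else 0) := fun k => by
      rcases eq_or_ne k i with rfl | hk
      · simp; ring
      · simp [hk, pderiv_X_of_ne (Ne.symm hk)]; ring
    rw [Finset.sum_congr rfl fun k _ => h2 k]
    simp only [Finset.sum_add_distrib, ← Finset.mul_sum, ← hp, Finset.sum_ite_eq',
      Finset.mem_univ, if_true, map_mul, aeval_X, pderiv_mul]
    ring

/-- Taylor expansion to first order. -/
theorem aeval_sub_taylor_mem {A : Type*} [CommRing A] {σ : Type*} [Fintype σ]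
    (J : Ideal (MvPolynomial σ A)) (v : σ → MvPolynomial σ A) (hv : ∀ k, v k - X k ∈ J)
    (p : MvPolynomial σ A) :
    aeval v p - p ∈ J ∧ aeval v p - p - ∑ k, pderiv k p * (v k - X k) ∈ J ^ 2 := by
  classical
  induction p using MvPolynomial.induction_on with
  | C a => simp
  | add p q hp hq =>
    refine ⟨?_, ?_⟩
    · rw [map_add, add_sub_add_comm]; exact add_mem hp.1 hq.1
    · convert add_mem hp.2 hq.2 using 1
      simp only [map_add, add_mul, Finset.sum_add_distrib]
      ring
  | mul_X p i hp =>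
    refine ⟨?_, ?_⟩
    · rw [map_mul, aeval_X, show aeval v p * v i - p * X i =
        (aeval v p - p) * v i + p * (v i - X i) by ring]
      exact add_mem (J.mul_mem_right _ hp.1) (J.mul_mem_left _ (hv i))
    · have h2 : ∀ k, pderiv k (p * X i) * (v k - X k) =
          X i * (pderiv k p * (v k - X k)) + (if k = i then p * (v i - X i) else 0) := fun k => by
        rcases eq_or_ne k i with rfl | hk
        · simp; ring
        · simp [hk, pderiv_X_of_ne (Ne.symm hk)]; ring
      simp only [h2, Finset.sum_add_distrib, ← Finset.mul_sum, Finset.sum_ite_eq', Finset.mem_univ,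
        if_true, map_mul, aeval_X]
      have h3 : aeval v p * v i - p * X i -
          (X i * ∑ k, pderiv k p * (v k - X k) + p * (v i - X i)) =
          X i * (aeval v p - p - ∑ k, pderiv k p * (v k - X k)) + (aeval v p - p) * (v i - X i) := by ring
      rw [h3, pow_two]
      exact add_mem (Ideal.mul_mem_left _ _ (by rw [← pow_two]; exact hp.2)) (Ideal.mul_mem_mul hp.1 (hv i))

/-- Derivatives of elements of the square of an ideal lie in the ideal. -/
theorem pderiv_mem_of_mem_sq {A : Type*} [CommRing A] {σ : Type*} {J : Ideal (MvPolynomial σ A)}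
    {p : MvPolynomial σ A} (hp : p ∈ J ^ 2) (k : σ) : pderiv k p ∈ J := by
  rw [pow_two] at hp
  refine Submodule.mul_induction_on hp (fun a ha b hb => ?_) (fun a b ha hb => ?_)
  · rw [pderiv_mul]; exact add_mem (J.mul_mem_left _ hb) (J.mul_mem_right _ ha)
  · rw [map_add]; exact add_mem ha hb

set_option maxHeartbeats 1000000 in
/-- A point of a smooth algebra over the closed part of a henselian pair lifts. -/
theorem exists_algHom_lift_smooth {A : Type u} [CommRing A] {I : Ideal A} [HenselianRing A I]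
    (T : Type u) [CommRing T] [Algebra A T] [Algebra.Smooth A T] (σ : T →ₐ[A] A ⧸ I) :
    ∃ τ : T →ₐ[A] A, (Ideal.Quotient.mkₐ A I).comp τ = σ := by
  classical
  obtain ⟨n, f, hf, hker⟩ := ‹Algebra.Smooth A T›.finitePresentation.out
  set J := RingHom.ker f.toRingHom with hJdef
  obtain ⟨m, F, hF⟩ := Submodule.fg_iff_exists_fin_generating_family.1 hker
  have hFJ : ∀ i, F i ∈ J := fun i => hF.le (Submodule.subset_span (Set.mem_range_self i))
  -- first order section
  have hle : J ^ 2 ≤ RingHom.ker f.toRingHom := Ideal.pow_le_self two_ne_zero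
  let fb : (MvPolynomial (Fin n) A ⧸ J ^ 2) →ₐ[A] T := Ideal.Quotient.liftₐ _ f hle
  have hfb : Function.Surjective fb := fun t => by
    obtain ⟨p, rfl⟩ := hf t; exact ⟨Ideal.Quotient.mk _ p, rfl⟩
  have hnil : IsNilpotent (RingHom.ker (fb : (MvPolynomial (Fin n) A ⧸ J ^ 2) →+* T)) := by
    refine ⟨2, ?_⟩
    have hk : RingHom.ker (fb : (MvPolynomial (Fin n) A ⧸ J ^ 2) →+* T) ≤ J.map (Ideal.Quotient.mk (J ^ 2)) := fun z hz => by
      obtain ⟨p, rfl⟩ := Ideal.Quotient.mk_surjective z
      exact Ideal.mem_map_of_mem _ hz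
    rw [Submodule.zero_eq_bot, ← le_bot_iff]
    exact (Ideal.pow_right_mono hk 2).trans (by rw [← Ideal.map_pow, Ideal.map_quotient_self])
  let s : T →ₐ[A] MvPolynomial (Fin n) A ⧸ J ^ 2 :=
    Algebra.FormallySmooth.liftOfSurjective (AlgHom.id A T) fb hfb hnil
  have hs : ∀ t, fb (s t) = t := fun t =>
    Algebra.FormallySmooth.liftOfSurjective_apply (AlgHom.id A T) fb hfb hnil t
  choose h hh using fun k => Ideal.Quotient.mk_surjective (s (f (X k)))
  have hhX : ∀ k, h k - X k ∈ J := fun k => by
    change f (h k - X k) = 0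
    have := hs (f (X k))
    rw [← hh k] at this
    rw [map_sub, show f (h k) = f (X k) from this, sub_self]
  have hsh : ∀ p, Ideal.Quotient.mk (J ^ 2) (aeval h p) = s (f p) := by
    intro p
    have : (Ideal.Quotient.mkₐ A (J ^ 2)).comp (aeval h) = s.comp f :=
      MvPolynomial.algHom_ext fun k => by simp [hh k]
    exact DFunLike.congr_fun this p
  have hδ : ∀ k, ∃ c : Fin m → MvPolynomial (Fin n) A, ∑ j, c j * F j = X k - h k := fun k => by
    have h1 : X k - h k ∈ Submodule.span (MvPolynomial (Fin n) A) (Set.range F) :=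
      hF.ge (by rw [← neg_sub]; exact J.neg_mem (hhX k))
    obtain ⟨c, hc⟩ := (Submodule.mem_span_range_iff_exists_fun _).1 h1
    exact ⟨c, hc⟩
  choose g hg using hδ
  let N : Matrix (Fin m) (Fin m) (MvPolynomial (Fin n) A) :=
    Matrix.of fun i j => ∑ k, pderiv k (F i) * g k j
  have hNF : ∀ i, F i - ∑ j, N i j * F j ∈ J ^ 2 := fun i => by
    have h1 : aeval h (F i) ∈ J ^ 2 := by
      rw [← Ideal.Quotient.eq_zero_iff_mem, hsh, show f (F i) = 0 from hFJ i, map_zero]
    have h2 := sub_mem h1 (aeval_sub_taylor_mem J h hhX (F i)).2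
    convert h2 using 1
    have h3 : ∑ j, N i j * F j = ∑ k, pderiv k (F i) * (X k - h k) := by
      simp only [N, Matrix.of_apply, Finset.sum_mul, mul_assoc]
      rw [Finset.sum_comm]
      exact Finset.sum_congr rfl fun k _ => by rw [← Finset.mul_sum, hg k]
    rw [h3]
    simp only [mul_sub, Finset.sum_sub_distrib]
    ring
  -- the base point
  choose x₀ hx₀ using fun k => Ideal.Quotient.mk_surjective (I := I) (σ (f (X k)))
  have hσ : ∀ p, σ (f p) = Ideal.Quotient.mk I (aeval x₀ p) := fun p => by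
    have : σ.comp f = (Ideal.Quotient.mkₐ A I).comp (aeval x₀) :=
      MvPolynomial.algHom_ext fun k => by simp [hx₀ k]
    exact DFunLike.congr_fun this p
  have hJI : ∀ p ∈ J, aeval x₀ p ∈ I := fun p hp => by
    rw [← Ideal.Quotient.eq_zero_iff_mem, ← hσ, show f p = 0 from hp, map_zero]
  let π : MvPolynomial (Fin n) A →+* A ⧸ I := (Ideal.Quotient.mk I).comp (aeval x₀).toRingHom
  have hπJ : ∀ p ∈ J, π p = 0 := fun p hp => Ideal.Quotient.eq_zero_iff_mem.2 (hJI p hp)
  have hD : ∀ i k, π (pderiv k (F i)) = ∑ j, π (N i j) * π (pderiv k (F j)) := fun i k => by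
    have h1 := hπJ _ (pderiv_mem_of_mem_sq (hNF i) k)
    rw [map_sub, map_sum, map_sub, map_sum, sub_eq_zero] at h1
    rw [h1]
    refine Finset.sum_congr rfl fun j _ => ?_
    rw [pderiv_mul, map_add, map_mul, map_mul, hπJ _ (hFJ j), mul_zero, zero_add]
  have hidem : IsIdempotentElem (((N.map (aeval x₀))).map (Ideal.Quotient.mk I)) := by
    refine Matrix.ext fun i l => ?_
    rw [Matrix.mul_apply]
    change ∑ j, π (N i j) * π (N j l) = π (N i l)
    simp only [N, Matrix.of_apply, map_sum, map_mul, Finset.sum_mul, Finset.mul_sum]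
    rw [Finset.sum_comm]
    refine Finset.sum_congr rfl fun k _ => ?_
    rw [hD i k, Finset.sum_mul]
    refine Finset.sum_congr rfl fun j _ => ?_
    simp only [N, Matrix.of_apply, map_sum, map_mul, Finset.sum_mul]
    refine Finset.sum_congr rfl fun k' _ => ?_
    ring
  obtain ⟨M, hM, hMN⟩ : ∃ M : Matrix (Fin m) (Fin m) A, IsIdempotentElem M ∧
      M.map (Ideal.Quotient.mk I) = (N.map (aeval x₀)).map (Ideal.Quotient.mk I) := by
    let e : Fin m ≃ ULift.{u} (Fin m) := Equiv.ulift.symm
    obtain ⟨M, hM, hMN⟩ := exists_isIdempotentElem_matrix (I := I)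
      ((N.map (aeval x₀)).reindex e e) (by
        unfold IsIdempotentElem
        rw [Matrix.reindex_apply, ← Matrix.submatrix_map, Matrix.submatrix_mul_equiv, hidem.eq])
    refine ⟨M.submatrix e e, ?_, ?_⟩
    · unfold IsIdempotentElem
      rw [Matrix.submatrix_mul_equiv, hM.eq]
    · rw [← Matrix.submatrix_map, hMN, Matrix.reindex_apply, ← Matrix.submatrix_map,
        Matrix.submatrix_submatrix]
      rfl
  have hMN' : ∀ i j, Ideal.Quotient.mk I (M i j) = π (N i j) := fun i j => congrFun₂ hMN i j
  have hMM : ∀ i l, ∑ j, M i j * M j l = M i l := fun i l => by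
    rw [← Matrix.mul_apply, hM.eq]
  -- the system
  let w : Fin n → MvPolynomial (Fin m) A := fun k => C (x₀ k) + ∑ l, C (aeval x₀ (g k l)) * X l
  let H : Fin m → MvPolynomial (Fin m) A := fun i =>
    ∑ j, C (M i j) * aeval w (F j) + ∑ j, C ((1 - M) i j) * X j
  have hw0 : ∀ k, aeval (0 : Fin m → A) (w k) = x₀ k := fun k => by
    simp only [w, map_add, map_sum, map_mul, aeval_C, aeval_X, Pi.zero_apply, mul_zero,
      Finset.sum_const_zero, add_zero, Algebra.algebraMap_self, RingHom.id_apply]
  have hw : ∀ p, aeval (0 : Fin m → A) (aeval w p) = aeval x₀ p := fun p => by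
    have h1 : (aeval (0 : Fin m → A)).comp (aeval w) = aeval x₀ :=
      MvPolynomial.algHom_ext fun k => by rw [AlgHom.comp_apply, aeval_X, aeval_X, hw0 k]
    exact DFunLike.congr_fun h1 p
  have hH0 : ∀ i, aeval (0 : Fin m → A) (H i) ∈ I := fun i => by
    simp only [H, map_add, map_sum, map_mul, aeval_C, hw, aeval_X, Pi.zero_apply, mul_zero,
      Finset.sum_const_zero, add_zero, Algebra.algebraMap_self, RingHom.id_apply]
    exact I.sum_mem fun j _ => I.mul_mem_left _ (hJI _ (hFJ j))
  have hjac : (Matrix.of fun l i => aeval (0 : Fin m → A) (pderiv l (H i))).map (Ideal.Quotient.mk I) = 1 := by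
    refine Matrix.ext fun l i => ?_
    have h1 : aeval (0 : Fin m → A) (pderiv l (H i)) =
        ∑ j, M i j * (∑ k, aeval x₀ (pderiv k (F j)) * aeval x₀ (g k l)) + (1 - M) i l := by
      simp only [H, map_add, map_sum, map_mul, pderiv_mul, pderiv_C, zero_mul, zero_add, aeval_C,
        Algebra.algebraMap_self, RingHom.id_apply, pderiv_aeval, hw]
      simp only [w, map_add, map_sum, map_mul, pderiv_mul, pderiv_C, map_zero, zero_mul, zero_add, pderiv_X,
        Pi.single_apply, mul_ite, mul_one, mul_zero, apply_ite, map_one, Finset.sum_ite_eq',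
        Finset.mem_univ, if_true, aeval_C, Algebra.algebraMap_self, RingHom.id_apply]
    have h2 : ∀ j, Ideal.Quotient.mk I (∑ k, aeval x₀ (pderiv k (F j)) * aeval x₀ (g k l)) =
        Ideal.Quotient.mk I (M j l) := fun j => by
      rw [hMN']
      simp [π, N]
    rw [Matrix.map_apply, Matrix.of_apply, h1, map_add, map_sum, Finset.sum_congr rfl fun j _ => by
      rw [map_mul, h2 j, ← map_mul], ← map_sum, hMM, ← map_add, Matrix.sub_apply, add_sub_cancel]
    rcases eq_or_ne i l with rfl | hne
    · simp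
    · simp [hne, hne.symm]
  obtain ⟨y, hy, hyI⟩ := exists_root_system (I := I) H hH0 (by
    rw [RingHom.map_det, RingHom.mapMatrix_apply, hjac, Matrix.det_one]; exact isUnit_one)
  let x : Fin n → A := fun k => x₀ k + ∑ l, aeval x₀ (g k l) * y l
  have hxw : ∀ p, aeval y (aeval w p) = aeval x p := fun p => by
    have h1 : (aeval y).comp (aeval w) = aeval x := MvPolynomial.algHom_ext fun k => by
      simp only [AlgHom.comp_apply, aeval_X, w, x, map_add, map_sum, map_mul, aeval_C,
        Algebra.algebraMap_self, RingHom.id_apply]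
    exact DFunLike.congr_fun h1 p
  have hxI : ∀ p, Ideal.Quotient.mk I (aeval x p) = Ideal.Quotient.mk I (aeval x₀ p) := fun p => by
    have h1 : (Ideal.Quotient.mkₐ A I).comp (aeval x) = (Ideal.Quotient.mkₐ A I).comp (aeval x₀) :=
      MvPolynomial.algHom_ext fun k => by
        simp [x, Ideal.Quotient.eq_zero_iff_mem.2 (hyI _)]
    exact DFunLike.congr_fun h1 p
  let a : Fin m → A := fun j => aeval x (F j)
  have hMa : ∀ i, ∑ j, M i j * a j = 0 := fun i => by
    have hHl : ∀ l, ∑ j, M l j * a j + ∑ j, (1 - M) l j * y j = 0 := fun l => by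
      have := hy l
      simp only [H, map_add, map_sum, map_mul, aeval_C, aeval_X, hxw, Algebra.algebraMap_self,
        RingHom.id_apply] at this
      exact this
    have h1 : ∑ l, M i l * (∑ j, M l j * a j + ∑ j, (1 - M) l j * y j) = 0 := by simp only [hHl, mul_zero, Finset.sum_const_zero]
    simp only [mul_add, Finset.sum_add_distrib, Finset.mul_sum, ← mul_assoc] at h1
    rw [Finset.sum_comm, Finset.sum_comm (f := fun x x_1 => M i x * (1 - M) x x_1 * y x_1)] at h1
    simp only [← Finset.sum_mul, hMM] at h1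
    have h2 : ∀ j, ∑ l, M i l * (1 - M) l j = 0 := fun j => by
      rw [← Matrix.mul_apply, mul_sub, mul_one, hM.eq, sub_self]; rfl
    simp only [h2, zero_mul, Finset.sum_const_zero, add_zero] at h1
    exact h1
  let 𝔞 : Ideal A := Ideal.span (Set.range a)
  have haI : 𝔞 ≤ I := Ideal.span_le.2 (Set.range_subset_iff.2 fun j => by
    show aeval x (F j) ∈ I
    rw [← Ideal.Quotient.eq_zero_iff_mem, hxI, Ideal.Quotient.eq_zero_iff_mem]
    exact hJI _ (hFJ j))
  have hJa : J.map (aeval x).toRingHom ≤ 𝔞 := by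
    rw [← hF]
    change (Ideal.span (Set.range F)).map _ ≤ _
    rw [Ideal.map_span, ← Set.range_comp]
    exact le_rfl
  have ha : 𝔞 ≤ I * 𝔞 := Ideal.span_le.2 (Set.range_subset_iff.2 fun i => by
    have h1 := Ideal.mem_map_of_mem (aeval x).toRingHom (hNF i)
    rw [Ideal.map_pow] at h1
    have h2 : aeval x (F i - ∑ j, N i j * F j) ∈ I * 𝔞 := by
      refine (?_ : (J.map (aeval x).toRingHom) ^ 2 ≤ I * 𝔞) h1
      rw [pow_two]
      exact Ideal.mul_mono (hJa.trans haI) hJa
    have h3 : aeval x (F i - ∑ j, N i j * F j) =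
        a i - ∑ j, (aeval x (N i j) - M i j) * a j - ∑ j, M i j * a j := by
      simp only [a, map_sub, map_sum, map_mul, sub_mul, Finset.sum_sub_distrib]
      ring
    rw [h3, hMa, sub_zero] at h2
    refine (Submodule.sub_mem_iff_left _ ?_).1 h2
    refine Submodule.sum_mem _ fun j _ => Ideal.mul_mem_mul ?_ (Ideal.subset_span (Set.mem_range_self j))
    rw [← Ideal.Quotient.eq, hxI, hMN']
    rfl)
  have h0 : 𝔞 = ⊥ := Submodule.eq_bot_of_le_smul_of_le_jacobson_bot I 𝔞
    (Submodule.fg_span (Set.finite_range a)) (by rw [smul_eq_mul]; exact ha) ‹HenselianRing A I›.jac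
  have hkerx : ∀ p, f p = 0 → aeval x p = 0 := fun p hp => by
    have := hJa (Ideal.mem_map_of_mem (aeval x).toRingHom (show p ∈ J from hp))
    rwa [h0, Ideal.mem_bot] at this
  refine ⟨AlgHom.liftOfSurjective f hf (aeval x) hkerx, AlgHom.ext fun t => ?_⟩
  obtain ⟨p, rfl⟩ := hf t
  rw [AlgHom.comp_apply, AlgHom.liftOfSurjective_apply, hσ]
  exact hxI p

end Groth.Agent.Hensel
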