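import Groth.Agent.Hensel.EtLike
import Groth.Agent.Hensel.EtLikeLocal
import Groth.Agent.EGA4Lib.FibreBC
import Mathlib.RingTheory.RingHom.EssFiniteType
import Mathlib.RingTheory.TensorProduct.Basic
import Mathlib.LinearAlgebra.TensorProduct.RightExactness
import Mathlib.FieldTheory.IntermediateField.Adjoin.Basic

/-!
Regularity of homomorphisms is insensitive to ind-etale local extensions of the source.
-/

set_option autoImplicit false
universe u

open IsLocalRing TensorProduct

namespace Groth.Agent.Hensel

section Surj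

variable {X Y : Type u} [CommRing X] [CommRing Y] (f : X →+* Y) (hf : Function.Surjective f)
  (hker : ∀ x, f x = 0 → ∃ e, f e = 0 ∧ x * e = x)
include hf hker

theorem localization_ringEquiv_of_absolutelyFlat (Q : Ideal Y) [Q.IsPrime] :
    Nonempty (Localization.AtPrime (Q.comap f) ≃+* Localization.AtPrime Q) := by
  letI : Algebra X (Localization.AtPrime Q) := ((algebraMap Y (Localization.AtPrime Q)).comp f).toAlgebra
  haveI : IsLocalization.AtPrime (Localization.AtPrime Q) (Q.comap f) := by
    refine ⟨⟨?_, ?_, ?_⟩⟩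
    · intro y
      exact IsLocalization.map_units (Localization.AtPrime Q) (⟨f y, y.2⟩ : Q.primeCompl)
    · intro z
      obtain ⟨⟨a, s⟩, hz⟩ := IsLocalization.surj Q.primeCompl z
      obtain ⟨a, rfl⟩ := hf a
      obtain ⟨s, hs⟩ := s
      obtain ⟨s, rfl⟩ := hf s
      exact ⟨⟨a, ⟨s, hs⟩⟩, hz⟩
    · intro a b hab
      obtain ⟨⟨c, hc⟩, hcab⟩ := (IsLocalization.eq_iff_exists Q.primeCompl _).1 hab
      obtain ⟨c, rfl⟩ := hf c
      obtain ⟨e, he, hxe⟩ := hker (c * (a - b)) (by rw [map_mul, map_sub, mul_sub]; exact sub_eq_zero.2 hcab)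
      refine ⟨⟨(1 - e) * c, ?_⟩, ?_⟩
      · show f ((1 - e) * c) ∉ Q
        rwa [map_mul, map_sub, map_one, he, sub_zero, one_mul]
      · show (1 - e) * c * a = (1 - e) * c * b
        linear_combination (-1 : X) * hxe
  exact ⟨(IsLocalization.algEquiv (Q.comap f).primeCompl (Localization.AtPrime (Q.comap f))
    (Localization.AtPrime Q)).toRingEquiv⟩

theorem isRegularRing_of_surjective [IsRegularRing X] : IsRegularRing Y := by
  haveI := isNoetherianRing_of_surjective X Y f hf
  rw [isRegularRing_iff]
  intro Q _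
  obtain ⟨e⟩ := localization_ringEquiv_of_absolutelyFlat f hf hker Q
  haveI := IsRegularRing.isRegularLocalRing_localization (R := X) (Q.comap f)
  exact IsRegularLocalRing.of_ringEquiv e

theorem isRegularLocalRing_of_surjective [IsRegularRing Y] (Q' : Ideal X) [Q'.IsPrime]
    (hle : RingHom.ker f ≤ Q') : IsRegularLocalRing (Localization.AtPrime Q') := by
  haveI hQ : (Q'.map f).IsPrime := Ideal.map_isPrime_of_surjective hf hle
  obtain ⟨e⟩ := localization_ringEquiv_of_absolutelyFlat f hf hker (Q'.map f)
  have he : (Q'.map f).comap f = Q' := by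
    rw [Ideal.comap_map_of_surjective f hf, ← RingHom.ker_eq_comap_bot, sup_eq_left.2 hle]
  haveI := IsRegularRing.isRegularLocalRing_localization (R := Y) (Q'.map f)
  have key : ∀ (I J : Ideal X) [I.IsPrime] [J.IsPrime], I = J →
      IsRegularLocalRing (Localization.AtPrime I) → IsRegularLocalRing (Localization.AtPrime J) := by
    intro I J _ _ h; subst h; exact id
  exact key _ _ he (IsRegularLocalRing.of_ringEquiv e.symm)

end Surj

namespace IsEtLike

variable {R S : Type u} [CommRing R] [IsLocalRing R] [CommRing S] [IsLocalRing S] [Algebra R S]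

/-- The extension of residue fields below a prime of `S`. -/
noncomputable local instance residueAlgebraUnder (P : Ideal S) [P.IsPrime] :
    Algebra (P.under R).ResidueField P.ResidueField :=
  (Ideal.ResidueField.map (P.under R) P (algebraMap R S) rfl).toAlgebra

local instance residueTowerUnder (P : Ideal S) [P.IsPrime] :
    IsScalarTower R (P.under R).ResidueField P.ResidueField :=
  .of_algebraMap_eq fun r => by
    rw [RingHom.algebraMap_toAlgebra, IsScalarTower.algebraMap_apply R S P.ResidueField]
    exact (Ideal.ResidueField.map_algebraMap _ _ _ _ _).symm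

variable (h : IsEtLike R S)
include h

omit h in
theorem exists_frac (p : Ideal R) [p.IsPrime] (c : p.ResidueField) :
    ∃ n d : R, d ∉ p ∧ c * algebraMap R p.ResidueField d = algebraMap R p.ResidueField n := by
  obtain ⟨⟨n, d, hd⟩, hnd⟩ := IsLocalization.surj (nonZeroDivisors (R ⧸ p)) c
  obtain ⟨n, rfl⟩ := Ideal.Quotient.mk_surjective n
  obtain ⟨d, rfl⟩ := Ideal.Quotient.mk_surjective d
  refine ⟨n, d, fun h0 => nonZeroDivisors.ne_zero hd (Ideal.Quotient.eq_zero_iff_mem.2 h0), ?_⟩
  rw [IsScalarTower.algebraMap_apply R (R ⧸ p) p.ResidueField, IsScalarTower.algebraMap_apply R (R ⧸ p) p.ResidueField n]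
  exact hnd

theorem exists_mul_mul_eq' (L : Type u) [Field L] [Algebra R L] (x : S ⊗[R] L) :
    ∃ y, x * x * y = x := by
  let c := Algebra.TensorProduct.comm R S L
  obtain ⟨y, hy⟩ := h.exists_mul_mul_eq L (c x)
  exact ⟨c.symm y, c.injective (by rw [map_mul, map_mul, c.apply_symm_apply, hy])⟩

/-- Base change of a surjection from the fibre onto a field. -/
theorem exists_fibre_surjection (U : Type u) [CommRing U] [Algebra R U] [Algebra S U] [IsScalarTower R S U]
    (L : Type u) [Field L] [Algebra R L] (K : Type u) [CommRing K] [Algebra S K]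
    (μ : S ⊗[R] L →ₐ[S] K) (hμ : Function.Surjective μ) :
    ∃ π : U ⊗[R] L →+* U ⊗[S] K, Function.Surjective π ∧
      (∀ x, π x = 0 → ∃ e, π e = 0 ∧ x * e = x) ∧
      RingHom.ker π ≤ (RingHom.ker μ).map
        (Algebra.TensorProduct.map (IsScalarTower.toAlgHom R S U) (AlgHom.id R L)).toRingHom := by
  let c := Algebra.TensorProduct.cancelBaseChange R S U U L
  let m : U ⊗[S] (S ⊗[R] L) →ₐ[S] U ⊗[S] K := Algebra.TensorProduct.map (AlgHom.id S U) μ
  let j := (Algebra.TensorProduct.map (IsScalarTower.toAlgHom R S U) (AlgHom.id R L)).toRingHom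
  have hj : ∀ x, c.symm (j x) = (1 : U) ⊗ₜ[S] x := fun x => by
    induction x using TensorProduct.induction_on with
    | zero => rw [map_zero, map_zero, TensorProduct.tmul_zero]
    | add x y hx hy => rw [map_add, map_add, hx, hy, TensorProduct.tmul_add]
    | tmul s l =>
      show c.symm ((algebraMap S U s) ⊗ₜ[R] l) = (1 : U) ⊗ₜ[S] (s ⊗ₜ[R] l)
      rw [show s ⊗ₜ[R] l = s • ((1 : S) ⊗ₜ[R] l) by rw [TensorProduct.smul_tmul', smul_eq_mul, mul_one],
        TensorProduct.tmul_smul, TensorProduct.smul_tmul', Algebra.smul_def, mul_one]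
      simp [c]
  have hker : RingHom.ker m = (RingHom.ker μ).map
      (Algebra.TensorProduct.includeRight : S ⊗[R] L →ₐ[S] U ⊗[S] (S ⊗[R] L)) :=
    Algebra.TensorProduct.lTensor_ker μ hμ
  let I : Ideal (U ⊗[R] L) :=
    { carrier := {x | ∃ e, m.toRingHom (c.symm e) = 0 ∧ x * e = x}
      zero_mem' := ⟨0, by rw [map_zero, map_zero], zero_mul _⟩
      add_mem' := by
        rintro x y ⟨e, he, hxe⟩ ⟨d, hd, hyd⟩
        refine ⟨e + d - e * d, ?_, by linear_combination (1 - d) * hxe + (1 - e) * hyd⟩
        simp only [map_sub, map_add, map_mul, he, hd, mul_zero, add_zero, sub_zero]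
      smul_mem' := by
        rintro r x ⟨e, he, hxe⟩
        exact ⟨e, he, by rw [smul_eq_mul, mul_assoc, hxe]⟩ }
  have hle : ∀ x, m.toRingHom (c.symm x) = 0 → x ∈ I ∧ x ∈ (RingHom.ker μ).map j := fun x hx => by
    have h1 : c.symm x ∈ (RingHom.ker μ).map
        (Algebra.TensorProduct.includeRight : S ⊗[R] L →ₐ[S] U ⊗[S] (S ⊗[R] L)) := hker.le hx
    rw [← Ideal.map_coe] at h1
    have h2 := Ideal.mem_map_of_mem c.toAlgHom.toRingHom h1
    have hcj : ∀ z, c ((1 : U) ⊗ₜ[S] z) = j z := fun z => by rw [← hj, c.apply_symm_apply]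
    rw [Ideal.map_map] at h2
    change c (c.symm x) ∈ _ at h2
    rw [c.apply_symm_apply, show c.toAlgHom.toRingHom.comp
      ((Algebra.TensorProduct.includeRight : S ⊗[R] L →ₐ[S] U ⊗[S] (S ⊗[R] L)) : S ⊗[R] L →+* U ⊗[S] (S ⊗[R] L)) = j
      from RingHom.ext hcj] at h2
    refine ⟨Ideal.map_le_iff_le_comap.2 (fun z hz => ?_) h2, h2⟩
    obtain ⟨y, hy⟩ := h.exists_mul_mul_eq' L z
    refine ⟨j (z * y), ?_, by rw [← map_mul, ← mul_assoc, hy]⟩
    rw [hj]
    show (1 : U) ⊗ₜ[S] μ (z * y) = 0
    rw [map_mul, show μ z = 0 from hz, zero_mul, TensorProduct.tmul_zero]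
  exact ⟨m.toRingHom.comp c.symm.toAlgHom.toRingHom,
    (Algebra.TensorProduct.map_surjective (AlgHom.id S U) μ Function.surjective_id hμ).comp c.symm.surjective,
    fun x hx => (hle x hx).1, fun x hx => (hle x hx).2⟩

theorem isRegularRing_of_tower (U : Type u) [CommRing U] [Algebra R U] [Algebra S U] [IsScalarTower R S U]
    (L : Type u) [Field L] [Algebra R L] (K : Type u) [CommRing K] [Algebra S K]
    (μ : S ⊗[R] L →ₐ[S] K) (hμ : Function.Surjective μ) (hX : IsRegularRing (U ⊗[R] L)) :
    IsRegularRing (U ⊗[S] K) := by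
  obtain ⟨π, hπ, hker, -⟩ := h.exists_fibre_surjection U L K μ hμ
  exact isRegularRing_of_surjective π hπ hker

/-- A map of the fibre to a field has a field as range. -/
theorem inv_mem_range (L K : Type u) [Field L] [Algebra R L] [Field K] [Algebra S K]
    (μ : S ⊗[R] L →ₐ[S] K) {z : K} (hz : z ∈ μ.range) : z⁻¹ ∈ μ.range := by
  rcases eq_or_ne z 0 with rfl | hz0
  · rw [inv_zero]; exact zero_mem _
  obtain ⟨x, rfl⟩ := hz
  obtain ⟨y, hy⟩ := h.exists_mul_mul_eq' L x
  refine ⟨y, ?_⟩
  have h1 := congrArg μ hy
  rw [map_mul, map_mul] at h1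
  exact eq_inv_of_mul_eq_one_right (mul_left_cancel₀ hz0 (by rw [← mul_assoc, mul_one]; exact h1))

theorem residueField_mem_range (L K : Type u) [Field L] [Algebra R L] [Field K] [Algebra S K]
    (μ : S ⊗[R] L →ₐ[S] K) (P : Ideal S) [P.IsPrime] [Algebra P.ResidueField K]
    [IsScalarTower S P.ResidueField K] (c : P.ResidueField) :
    algebraMap P.ResidueField K c ∈ μ.range := by
  obtain ⟨⟨n, d, hd⟩, hnd⟩ := IsLocalization.surj (nonZeroDivisors (S ⧸ P)) c
  obtain ⟨n, rfl⟩ := Ideal.Quotient.mk_surjective n
  obtain ⟨d, rfl⟩ := Ideal.Quotient.mk_surjective d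
  have hd0 : algebraMap S P.ResidueField d ≠ 0 := by
    rw [Ne, Ideal.algebraMap_residueField_eq_zero]
    exact fun h0 => nonZeroDivisors.ne_zero hd (Ideal.Quotient.eq_zero_iff_mem.2 h0)
  have hc : c = algebraMap S P.ResidueField n / algebraMap S P.ResidueField d := by
    rw [eq_div_iff hd0, IsScalarTower.algebraMap_apply S (S ⧸ P) P.ResidueField,
      IsScalarTower.algebraMap_apply S (S ⧸ P) P.ResidueField n]
    exact hnd
  rw [hc, map_div₀, div_eq_mul_inv, ← IsScalarTower.algebraMap_apply, ← IsScalarTower.algebraMap_apply]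
  exact mul_mem (μ.range.algebraMap_mem _) (h.inv_mem_range L K μ (μ.range.algebraMap_mem _))

theorem isAlgebraic_residueField (P : Ideal S) [P.IsPrime] :
    Algebra.IsIntegral (P.under R).ResidueField P.ResidueField := by
  let k := (P.under R).ResidueField
  haveI : IsScalarTower R k P.ResidueField := inferInstance
  let μ₀ : k ⊗[R] S →ₐ[k] P.ResidueField :=
    Algebra.TensorProduct.lift (Algebra.ofId k P.ResidueField) (IsScalarTower.toAlgHom R S P.ResidueField)
      fun _ _ => Commute.all _ _
  let μ : S ⊗[R] k →ₐ[S] P.ResidueField :=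
    Algebra.TensorProduct.lift (Algebra.ofId S P.ResidueField) (IsScalarTower.toAlgHom R k P.ResidueField)
      fun _ _ => Commute.all _ _
  refine ⟨fun c => ?_⟩
  obtain ⟨x, hx⟩ := h.residueField_mem_range k P.ResidueField μ P c
  have hμ : ∀ y, μ y = μ₀ (Algebra.TensorProduct.comm R S k y) := fun y => by
    induction y using TensorProduct.induction_on with
    | zero => simp
    | add a b ha hb => rw [map_add, map_add, map_add, ha, hb]
    | tmul a b => simp [μ, μ₀, mul_comm]
  rw [show c = μ x from (hx.trans (Algebra.algebraMap_self_apply c).symm).symm, hμ]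
  obtain ⟨A, _, _, hA, θ, w, hw⟩ := h.exists_stage_tensor k (Algebra.TensorProduct.comm R S k x)
  rw [← hw]
  haveI : Module.Finite k (k ⊗[R] A) := Algebra.FormallyUnramified.finite_of_free k (k ⊗[R] A)
  exact ((Algebra.IsIntegral.isIntegral (R := k) w).map
    (Algebra.TensorProduct.map (AlgHom.id k k) θ)).map μ₀

theorem isRegularHom_iff [IsNoetherianRing R] (U : Type u) [CommRing U] [IsNoetherianRing U] [Algebra R U]
    [Algebra S U] [IsScalarTower R S U] [Module.Flat S U] :
    CAlg.IsRegularHom S U ↔ CAlg.IsRegularHom R U := by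
  classical
  haveI := h.flat
  constructor
  · rintro ⟨-, hS⟩
    refine ⟨Module.Flat.trans R S U, fun p _ => ?_⟩
    have hN : ∀ (L : Type u) [Field L] [Algebra p.ResidueField L] [Algebra R L]
        [IsScalarTower R p.ResidueField L] [Module.Finite p.ResidueField L], IsNoetherianRing (U ⊗[R] L) := by
      intro L _ _ _ _ _
      haveI : Algebra.EssFiniteType R L := Algebra.EssFiniteType.comp R p.ResidueField L
      exact Algebra.EssFiniteType.isNoetherianRing U (U ⊗[R] L)
    haveI := hN p.ResidueField
    refine ⟨isNoetherianRing_of_ringEquiv _ (Algebra.TensorProduct.comm R U p.ResidueField).toRingEquiv,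
      fun L _ _ hfin => ?_⟩
    letI : Algebra R L := ((algebraMap p.ResidueField L).comp (algebraMap R p.ResidueField)).toAlgebra
    haveI : IsScalarTower R p.ResidueField L := .of_algebraMap_eq' rfl
    haveI := hN L
    suffices H : IsRegularRing (U ⊗[R] L) from IsRegularRing.of_ringEquiv
      ((Algebra.TensorProduct.comm R U L).toRingEquiv.trans
        (Algebra.TensorProduct.cancelBaseChange R p.ResidueField L L U).symm.toRingEquiv)
    rw [isRegularRing_iff]
    intro Q' _
    let j := (Algebra.TensorProduct.map (IsScalarTower.toAlgHom R S U) (AlgHom.id R L)).toRingHom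
    let m := Q'.comap j
    haveI : m.IsMaximal := by
      rw [Ideal.isMaximal_iff]
      refine ⟨fun h1 => (Ideal.IsPrime.ne_top' (I := m)) (m.eq_top_iff_one.2 h1), fun J x hmJ hxm hxJ => ?_⟩
      obtain ⟨y, hy⟩ := h.exists_mul_mul_eq' L x
      have h0 : x * (x * y - 1) ∈ m := by
        rw [mul_sub, mul_one, ← mul_assoc, hy, sub_self]; exact zero_mem _
      have h1 := hmJ (((inferInstance : m.IsPrime).mem_or_mem h0).resolve_left hxm)
      simpa using J.sub_mem (J.mul_mem_right y hxJ) h1
    letI : Field (S ⊗[R] L ⧸ m) := Ideal.Quotient.field m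
    let P : Ideal S := RingHom.ker (algebraMap S (S ⊗[R] L ⧸ m))
    haveI : P.IsPrime := RingHom.ker_isPrime _
    have hP : P.under R = p := by
      ext r
      rw [Ideal.under_def, Ideal.mem_comap, RingHom.mem_ker, ← IsScalarTower.algebraMap_apply]
      show Ideal.Quotient.mk m (algebraMap R (S ⊗[R] L) r) = 0 ↔ _
      rw [← (Algebra.TensorProduct.includeRight : L →ₐ[R] S ⊗[R] L).commutes r,
        IsScalarTower.algebraMap_apply R p.ResidueField L]
      show ((Ideal.Quotient.mk m).comp (Algebra.TensorProduct.includeRight : L →ₐ[R] S ⊗[R] L).toRingHom)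
        (algebraMap p.ResidueField L (algebraMap R p.ResidueField r)) = 0 ↔ _
      rw [map_eq_zero_iff _ (RingHom.injective _), map_eq_zero_iff _ (RingHom.injective _),
        Ideal.algebraMap_residueField_eq_zero]
    letI : Algebra p.ResidueField P.ResidueField :=
      (Ideal.ResidueField.map p P (algebraMap R S) hP.symm).toAlgebra
    haveI : IsScalarTower R p.ResidueField P.ResidueField := .of_algebraMap_eq fun r => by
      rw [RingHom.algebraMap_toAlgebra, IsScalarTower.algebraMap_apply R S P.ResidueField]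
      exact (Ideal.ResidueField.map_algebraMap _ _ _ _ _).symm
    let φ := Ideal.ResidueField.liftₐ P (Algebra.ofId S (S ⊗[R] L ⧸ m)) le_rfl
      (fun x hx => IsUnit.mk0 _ fun h0 => hx h0)
    letI : Algebra P.ResidueField (S ⊗[R] L ⧸ m) := φ.toRingHom.toAlgebra
    haveI : IsScalarTower S P.ResidueField (S ⊗[R] L ⧸ m) := .of_algebraMap_eq' φ.comp_algebraMap.symm
    haveI : IsScalarTower R P.ResidueField (S ⊗[R] L ⧸ m) := .of_algebraMap_eq fun r => by
      rw [IsScalarTower.algebraMap_apply R S P.ResidueField, ← IsScalarTower.algebraMap_apply,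
        ← IsScalarTower.algebraMap_apply]
    haveI : Module.Finite P.ResidueField (S ⊗[R] L ⧸ m) := by
      let b := Module.Free.chooseBasis p.ResidueField L
      let w : _ → S ⊗[R] L ⧸ m := fun i => Ideal.Quotient.mk m ((1 : S) ⊗ₜ[R] b i)
      refine ⟨⟨Finset.univ.image w, ?_⟩⟩
      rw [eq_top_iff]
      rintro z -
      obtain ⟨x, rfl⟩ := Ideal.Quotient.mk_surjective z
      rw [Finset.coe_image, Finset.coe_univ, Set.image_univ]
      induction x using TensorProduct.induction_on with
      | zero => rw [map_zero]; exact zero_mem _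
      | add x y hx hy => rw [map_add]; exact add_mem hx hy
      | tmul s l =>
        rw [← b.sum_repr l, TensorProduct.tmul_sum, map_sum]
        refine sum_mem fun i _ => ?_
        have h1 : Ideal.Quotient.mk m (s ⊗ₜ[R] (b.repr l i • b i)) =
            (algebraMap S P.ResidueField s * algebraMap p.ResidueField P.ResidueField (b.repr l i)) • w i := by
          obtain ⟨n, d, hd, hc⟩ := exists_frac p (b.repr l i)
          have hd' : algebraMap R (S ⊗[R] L ⧸ m) d ≠ 0 := fun h0 => hd (by
            rw [← hP]; exact Ideal.mem_comap.2 (RingHom.mem_ker.2 (by rw [← IsScalarTower.algebraMap_apply]; exact h0)))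
          apply mul_left_cancel₀ hd'
          have e1 : algebraMap R L d * (b.repr l i • b i) = algebraMap R L n * b i := by
            rw [Algebra.smul_def, ← mul_assoc, IsScalarTower.algebraMap_apply R p.ResidueField L d, ← map_mul,
              mul_comm _ (b.repr l i), hc, ← IsScalarTower.algebraMap_apply]
          have e2 : algebraMap R P.ResidueField d * algebraMap p.ResidueField P.ResidueField (b.repr l i) =
              algebraMap R P.ResidueField n := by
            rw [IsScalarTower.algebraMap_apply R p.ResidueField P.ResidueField, ← map_mul, mul_comm, hc,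
              ← IsScalarTower.algebraMap_apply]
          rw [Algebra.smul_def (algebraMap S P.ResidueField s * _), ← mul_assoc,
            IsScalarTower.algebraMap_apply R P.ResidueField (S ⊗[R] L ⧸ m) d, ← map_mul,
            mul_left_comm, e2, map_mul, ← IsScalarTower.algebraMap_apply,
            ← IsScalarTower.algebraMap_apply, ← IsScalarTower.algebraMap_apply]
          show Ideal.Quotient.mk m (algebraMap R (S ⊗[R] L) d) * Ideal.Quotient.mk m (s ⊗ₜ[R] (b.repr l i • b i)) =
            Ideal.Quotient.mk m (algebraMap S (S ⊗[R] L) s) * Ideal.Quotient.mk m (algebraMap R (S ⊗[R] L) n) *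
              Ideal.Quotient.mk m ((1 : S) ⊗ₜ[R] b i)
          rw [← map_mul, ← map_mul, ← map_mul]
          congr 1
          rw [show algebraMap R (S ⊗[R] L) d = (1 : S) ⊗ₜ[R] algebraMap R L d from
            ((Algebra.TensorProduct.includeRight : L →ₐ[R] S ⊗[R] L).commutes d).symm,
            show algebraMap R (S ⊗[R] L) n = (1 : S) ⊗ₜ[R] algebraMap R L n from
            ((Algebra.TensorProduct.includeRight : L →ₐ[R] S ⊗[R] L).commutes n).symm,
            show algebraMap S (S ⊗[R] L) s = s ⊗ₜ[R] (1 : L) from rfl]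
          simp only [Algebra.TensorProduct.tmul_mul_tmul, one_mul, mul_one, e1]
        rw [h1]
        exact Submodule.smul_mem _ _ (Submodule.subset_span (Set.mem_range_self i))
    obtain ⟨-, hG⟩ := hS P
    haveI hK := hG (S ⊗[R] L ⧸ m) inferInstance
    haveI : IsRegularRing (U ⊗[S] (S ⊗[R] L ⧸ m)) := IsRegularRing.of_ringEquiv
      ((Algebra.TensorProduct.cancelBaseChange S P.ResidueField (S ⊗[R] L ⧸ m) (S ⊗[R] L ⧸ m) U).toRingEquiv.trans
        (Algebra.TensorProduct.comm S (S ⊗[R] L ⧸ m) U).toRingEquiv)
    obtain ⟨π, hπ, hker, hkle⟩ := h.exists_fibre_surjection U L _ (Ideal.Quotient.mkₐ S m)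
      Ideal.Quotient.mk_surjective
    refine isRegularLocalRing_of_surjective π hπ hker Q' (hkle.trans ?_)
    rw [show RingHom.ker (Ideal.Quotient.mkₐ S m) = m from Ideal.mk_ker]
    exact Ideal.map_comap_le
  · rintro ⟨-, hR⟩
    refine ⟨inferInstance, fun P _ => ?_⟩
    let p := P.under R
    let k := p.ResidueField
    haveI : IsScalarTower R k P.ResidueField := inferInstance
    obtain ⟨hNp, hreg⟩ := hR p
    haveI := h.isAlgebraic_residueField P
    constructor
    · let μ : S ⊗[R] k →ₐ[S] P.ResidueField :=
        Algebra.TensorProduct.lift (Algebra.ofId S P.ResidueField) (IsScalarTower.toAlgHom R k P.ResidueField)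
          fun _ _ => Commute.all _ _
      obtain ⟨π, hπ, -, -⟩ := h.exists_fibre_surjection U k P.ResidueField μ
        (fun c => h.residueField_mem_range k P.ResidueField μ P c)
      haveI : IsNoetherianRing (U ⊗[R] k) :=
        isNoetherianRing_of_ringEquiv _ (Algebra.TensorProduct.comm R k U).toRingEquiv
      haveI := isNoetherianRing_of_surjective _ _ π hπ
      exact isNoetherianRing_of_ringEquiv _ (Algebra.TensorProduct.comm S U P.ResidueField).toRingEquiv
    intro L _ _ hfin
    letI : Algebra S L := ((algebraMap P.ResidueField L).comp (algebraMap S P.ResidueField)).toAlgebra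
    haveI : IsScalarTower S P.ResidueField L := .of_algebraMap_eq' rfl
    letI : Algebra k L := ((algebraMap P.ResidueField L).comp (algebraMap k P.ResidueField)).toAlgebra
    haveI : IsScalarTower k P.ResidueField L := .of_algebraMap_eq' rfl
    letI : Algebra R L := ((algebraMap S L).comp (algebraMap R S)).toAlgebra
    haveI : IsScalarTower R S L := .of_algebraMap_eq' rfl
    haveI : IsScalarTower R k L := .of_algebraMap_eq fun r => by
      show algebraMap P.ResidueField L (algebraMap S P.ResidueField (algebraMap R S r)) =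
        algebraMap P.ResidueField L (algebraMap k P.ResidueField (algebraMap R k r))
      rw [← IsScalarTower.algebraMap_apply R k P.ResidueField, ← IsScalarTower.algebraMap_apply R S P.ResidueField]
    haveI : Algebra.IsIntegral k L := Algebra.IsIntegral.trans P.ResidueField
    let b := Module.Free.chooseBasis P.ResidueField L
    let L' : IntermediateField k L := IntermediateField.adjoin k (Set.range b)
    haveI : Module.Finite k L' := IntermediateField.finiteDimensional_adjoin
      fun x _ => Algebra.IsIntegral.isIntegral x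
    let μ : S ⊗[R] L' →ₐ[S] L :=
      Algebra.TensorProduct.lift (Algebra.ofId S L) ((L'.val).restrictScalars R) fun _ _ => Commute.all _ _
    have hμ : Function.Surjective μ := fun z => by
      change z ∈ μ.range
      rw [← b.sum_repr z]
      refine sum_mem fun i _ => ?_
      rw [Algebra.smul_def]
      refine mul_mem (h.residueField_mem_range L' L μ P _) ⟨(1 : S) ⊗ₜ
        (⟨b i, IntermediateField.subset_adjoin k _ (Set.mem_range_self i)⟩ : L'), ?_⟩
      show μ ((1 : S) ⊗ₜ _) = b i
      rw [Algebra.TensorProduct.lift_tmul, map_one, one_mul]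
      rfl
    haveI := hreg L' inferInstance
    haveI : IsRegularRing (U ⊗[R] L') := IsRegularRing.of_ringEquiv
      ((Algebra.TensorProduct.cancelBaseChange R k L' L' U).toRingEquiv.trans
        (Algebra.TensorProduct.comm R L' U).toRingEquiv)
    haveI := h.isRegularRing_of_tower U L' L μ hμ inferInstance
    exact IsRegularRing.of_ringEquiv ((Algebra.TensorProduct.comm S U L).toRingEquiv.trans
      (Algebra.TensorProduct.cancelBaseChange S P.ResidueField L L U).symm.toRingEquiv)

end IsEtLike

end Groth.Agent.Hensel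

namespace Groth.Agent.Hensel

/-- Regularity of a homomorphism only depends on the algebra up to isomorphism. -/
theorem isRegularHom_congr {R T T' : Type u} [CommRing R] [CommRing T] [Algebra R T] [CommRing T'] [Algebra R T']
    (e : T ≃ₐ[R] T') (h : CAlg.IsRegularHom R T) : CAlg.IsRegularHom R T' := by
  haveI := h.1
  refine ⟨Module.Flat.of_linearEquiv e.toLinearEquiv.symm, fun p _ => ?_⟩
  obtain ⟨hN, hG⟩ := h.2 p
  let f : p.Fiber T ≃ₐ[p.ResidueField] p.Fiber T' :=
    Algebra.TensorProduct.congr (AlgEquiv.refl (R := p.ResidueField) (A₁ := p.ResidueField)) e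
  exact ⟨isNoetherianRing_of_ringEquiv _ f.toRingEquiv, EGA4Lib.isGeometricallyRegular_congr _ _ f hG⟩

end Groth.Agent.Hensel
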