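import Groth.Agent.Hensel.EtLike
import Groth.Agent.Adic.Basic
import Groth.Agent.RegLoc.AdicNoeth
import Groth.Prelude.Def_EGA4b
import Mathlib.RingTheory.AdicCompletion.LocalRing
import Mathlib.RingTheory.AdicCompletion.RingHom
import Mathlib.RingTheory.Ideal.MinimalPrime.Localization
import Mathlib.RingTheory.Ideal.AssociatedPrime.Localization
import Mathlib.LinearAlgebra.TensorProduct.Quotient

/-!
Completions of henselizations and formal catenarity.
-/

set_option autoImplicit false
universe u

open IsLocalRing TensorProduct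

namespace Groth.Agent.Hensel

/-- A complete algebra with the same truncations is the completion. -/
theorem nonempty_completion_equiv {A : Type u} [CommRing A] (m : Ideal A) (C : Type u) [CommRing C]
    [Algebra A C] [IsAdicComplete (m.map (algebraMap A C)) C]
    (hsurj : ∀ (n : ℕ) (c : C), ∃ a, c - algebraMap A C a ∈ (m ^ n).map (algebraMap A C))
    (hinj : ∀ n : ℕ, ((m ^ n).map (algebraMap A C)).comap (algebraMap A C) ≤ m ^ n) :
    Nonempty (AdicCompletion m A ≃ₐ[A] C) := by
  let J := m.map (algebraMap A C)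
  have hJ : ∀ n, (m ^ n).map (algebraMap A C) = J ^ n := fun n => Ideal.map_pow _ _ n
  have hle : ∀ n, m ^ n ≤ (J ^ n).comap (Algebra.ofId A C) := fun n => by
    rw [← hJ]; exact Ideal.le_comap_map
  let f : ∀ n, AdicCompletion m A →ₐ[A] C ⧸ J ^ n := fun n =>
    (Ideal.quotientMapₐ (J ^ n) (Algebra.ofId A C) (hle n)).comp (AdicCompletion.evalₐ m n)
  have hf : ∀ {k n : ℕ} (h : k ≤ n),
      (Ideal.Quotient.factorₐ A (Ideal.pow_le_pow_right h)).comp (f n) = f k := fun {k n} h => by
    refine AlgHom.ext fun x => ?_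
    induction x using AdicCompletion.induction_on with
    | _ s =>
      simp only [f, AlgHom.comp_apply, AdicCompletion.evalₐ_mk]
      change Ideal.Quotient.mk (J ^ k) (algebraMap A C (s.val n)) = Ideal.Quotient.mk (J ^ k) (algebraMap A C (s.val k))
      rw [Ideal.Quotient.eq, ← map_sub, ← hJ]
      refine Ideal.mem_map_of_mem _ ?_
      have h1 := s.property h
      rw [SModEq.sub_mem, smul_eq_mul, Ideal.mul_top] at h1
      rw [← neg_sub]
      exact (m ^ k).neg_mem h1
  let Φ := IsAdicComplete.liftAlgHom J f hf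
  refine ⟨AlgEquiv.ofBijective Φ ⟨(injective_iff_map_eq_zero Φ).2 fun x hx => ?_, fun c => ?_⟩⟩
  · refine AdicCompletion.ext_evalₐ fun n => ?_
    rw [map_zero]
    have h1 : f n x = 0 := by
      rw [← IsAdicComplete.mk_liftAlgHom J f hf n x]
      change Ideal.Quotient.mk (J ^ n) (Φ x) = 0
      rw [hx, map_zero]
    obtain ⟨a, ha⟩ := Ideal.Quotient.mk_surjective (AdicCompletion.evalₐ m n x)
    rw [← ha, Ideal.Quotient.eq_zero_iff_mem]
    refine hinj n ?_
    have h2 : Ideal.quotientMapₐ (J ^ n) (Algebra.ofId A C) (hle n) (Ideal.Quotient.mk (m ^ n) a) = 0 := by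
      rw [ha]; exact h1
    rw [Ideal.mem_comap, hJ, ← Ideal.Quotient.eq_zero_iff_mem]
    exact h2
  · choose a ha using fun n => hsurj n c
    let s : AdicCompletion.AdicCauchySequence m A := ⟨a, fun {k n} h => by
      rw [SModEq.sub_mem, smul_eq_mul, Ideal.mul_top]
      refine hinj k ?_
      rw [Ideal.mem_comap, map_sub]
      have := sub_mem ((Ideal.map_mono (Ideal.pow_le_pow_right h)) (ha n)) (ha k)
      simpa using this⟩
    refine ⟨AdicCompletion.mk m A s, (IsHausdorff.eq_iff_smodEq (I := J)).2 fun n => ?_⟩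
    rw [SModEq.sub_mem, smul_eq_mul, Ideal.mul_top, ← Ideal.Quotient.eq]
    refine (IsAdicComplete.mk_liftAlgHom J f hf n _).trans ?_
    simp only [f, AlgHom.comp_apply, AdicCompletion.evalₐ_mk]
    change Ideal.Quotient.mk (J ^ n) (algebraMap A C (a n)) = Ideal.Quotient.mk (J ^ n) c
    rw [Ideal.Quotient.eq, ← neg_sub, ← hJ]
    exact Submodule.neg_mem _ (ha n)

/-- The completion of a local Noetherian quotient is the quotient of the completion. -/
theorem nonempty_quotient_completion_equiv (A : Type u) [CommRing A] [IsLocalRing A] [IsNoetherianRing A]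
    (P : Ideal A) [Nontrivial (A ⧸ P)] :
    Nonempty (AdicCompletion (maximalIdeal (A ⧸ P)) (A ⧸ P) ≃+*
      AdicCompletion (maximalIdeal A) A ⧸ P.map (algebraMap A (AdicCompletion (maximalIdeal A) A))) := by
  let T := AdicCompletion (maximalIdeal A) A
  haveI : IsNoetherianRing T :=
    RegLoc.AdicNoeth.isNoetherianRing_adicCompletion _ (IsNoetherian.noetherian (maximalIdeal A))
  haveI : Module.FaithfullyFlat A T := Module.FaithfullyFlat.of_flat_of_isLocalHom
  let PT := P.map (algebraMap A T)
  letI : Algebra (A ⧸ P) (T ⧸ PT) :=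
    (Ideal.quotientMap PT (algebraMap A T) Ideal.le_comap_map).toAlgebra
  haveI : IsScalarTower A (A ⧸ P) (T ⧸ PT) := .of_algebraMap_eq fun a => rfl
  have hmax : maximalIdeal (A ⧸ P) = (maximalIdeal A).map (Ideal.Quotient.mk P) :=
    (IsLocalRing.map_maximalIdeal_of_surjective _ Ideal.Quotient.mk_surjective).symm
  have hmap : ∀ n : ℕ, (maximalIdeal (A ⧸ P) ^ n).map (algebraMap (A ⧸ P) (T ⧸ PT)) =
      ((maximalIdeal A ^ n).map (algebraMap A T)).map (Ideal.Quotient.mk PT) := fun n => by
    rw [hmax, ← Ideal.map_pow, Ideal.map_map, Ideal.map_map]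
    rfl
  haveI : IsAdicComplete ((maximalIdeal (A ⧸ P)).map (algebraMap (A ⧸ P) (T ⧸ PT))) (T ⧸ PT) := by
    haveI : IsAdicComplete (maximalIdeal T) (T ⧸ PT) := Adic.isAdicComplete_of_finite _
    have h1 := hmap 1
    rw [pow_one, pow_one, ← AdicCompletion.maximalIdeal_eq_map] at h1
    rw [h1, ← Ideal.Quotient.algebraMap_eq]
    exact (IsAdicComplete.map_algebraMap_iff _ _).2 inferInstance
  obtain ⟨e⟩ := nonempty_completion_equiv (maximalIdeal (A ⧸ P)) (T ⧸ PT) (fun n c => by
    obtain ⟨t, rfl⟩ := Ideal.Quotient.mk_surjective c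
    obtain ⟨a, ha⟩ := Submodule.mkQ_surjective _ (t.val n)
    refine ⟨Ideal.Quotient.mk P a, ?_⟩
    rw [hmap, show algebraMap (A ⧸ P) (T ⧸ PT) (Ideal.Quotient.mk P a) =
      Ideal.Quotient.mk PT (algebraMap A T a) from rfl, ← map_sub]
    refine Ideal.mem_map_of_mem _ ?_
    rw [← Submodule.restrictScalars_mem A, ← Ideal.smul_top_eq_map,
      AdicCompletion.pow_smul_top_eq_ker_eval (IsNoetherian.noetherian _), LinearMap.mem_ker, map_sub,
      sub_eq_zero]
    exact ha.symm) (fun n x hx => by
    obtain ⟨a, rfl⟩ := Ideal.Quotient.mk_surjective x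
    rw [Ideal.mem_comap, hmap, show algebraMap (A ⧸ P) (T ⧸ PT) (Ideal.Quotient.mk P a) =
      Ideal.Quotient.mk PT (algebraMap A T a) from rfl, Ideal.mem_quotient_iff_mem_sup, sup_comm,
      ← Ideal.map_sup, ← Ideal.mem_comap, Ideal.comap_map_eq_self_of_faithfullyFlat] at hx
    have h2 := Ideal.mem_map_of_mem (Ideal.Quotient.mk P) hx
    rw [Ideal.map_sup, Ideal.map_quotient_self, bot_sup_eq, Ideal.map_pow, ← hmax] at h2
    exact h2)
  exact ⟨e.toRingEquiv⟩

/-- A Noetherian henselization has the same completion. -/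
theorem nonempty_completion_equiv_of_residue {R S : Type u} [CommRing R] [IsLocalRing R] [CommRing S]
    [IsLocalRing S] [Algebra R S] [IsNoetherianRing R] (h : IsEtLike R S)
    (hres : ∀ s : S, ∃ r : R, s - algebraMap R S r ∈ maximalIdeal S) :
    Nonempty (AdicCompletion (maximalIdeal R) R ≃ₐ[R] AdicCompletion (maximalIdeal S) S) := by
  haveI := h.isNoetherianRing_of_base
  haveI := h.flat
  haveI := h.isLocalHom
  let T := AdicCompletion (maximalIdeal S) S
  have hT : (maximalIdeal R).map (algebraMap R T) = maximalIdeal T := by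
    rw [IsScalarTower.algebraMap_eq R S T, ← Ideal.map_map, h.map_max, ← AdicCompletion.maximalIdeal_eq_map]
  haveI : IsAdicComplete ((maximalIdeal R).map (algebraMap R T)) T := by rw [hT]; infer_instance
  haveI : Module.FaithfullyFlat R S := h.faithfullyFlat
  haveI : Module.FaithfullyFlat S T := Module.FaithfullyFlat.of_flat_of_isLocalHom
  haveI : Module.FaithfullyFlat R T := Module.FaithfullyFlat.trans R S T
  refine nonempty_completion_equiv (maximalIdeal R) T (fun n c => ?_) (fun n => (Ideal.comap_map_eq_self_of_faithfullyFlat _).le)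
  have hS : ∀ (n : ℕ) (s : S), ∃ r, s - algebraMap R S r ∈ (maximalIdeal R ^ n).map (algebraMap R S) := by
    intro n
    induction n with
    | zero => exact fun s => ⟨0, by simp [Ideal.map_top]⟩
    | succ n ih =>
      intro s
      obtain ⟨r, hr⟩ := ih s
      suffices H : ∀ z ∈ (maximalIdeal R ^ n).map (algebraMap R S),
          ∃ r, z - algebraMap R S r ∈ (maximalIdeal R ^ (n + 1)).map (algebraMap R S) by
        obtain ⟨r', hr'⟩ := H _ hr
        exact ⟨r + r', by rw [map_add, ← sub_sub]; exact hr'⟩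
      intro z hz
      refine Submodule.span_induction ?_ ⟨0, by simp⟩ ?_ ?_ hz
      · rintro _ ⟨a, ha, rfl⟩
        exact ⟨a, by simp⟩
      · rintro x y _ _ ⟨a, ha⟩ ⟨b, hb⟩
        exact ⟨a + b, by rw [map_add, add_sub_add_comm]; exact add_mem ha hb⟩
      · rintro c x hx ⟨a, ha⟩
        obtain ⟨b, hb⟩ := hres c
        refine ⟨b * a, ?_⟩
        rw [smul_eq_mul, show c * x - algebraMap R S (b * a) =
          (c - algebraMap R S b) * x + algebraMap R S b * (x - algebraMap R S a) by rw [map_mul]; ring]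
        refine add_mem ?_ (Ideal.mul_mem_left _ _ ha)
        rw [pow_succ', Ideal.map_mul]
        exact Ideal.mul_mem_mul (h.map_max.ge hb) hx
  obtain ⟨y, hy⟩ := Submodule.mkQ_surjective _ (c.val n)
  obtain ⟨r, hr⟩ := hS n y
  refine ⟨r, ?_⟩
  have h1 : c - algebraMap S T y ∈ (maximalIdeal S ^ n).map (algebraMap S T) := by
    rw [← Submodule.restrictScalars_mem S, ← Ideal.smul_top_eq_map,
      AdicCompletion.pow_smul_top_eq_ker_eval (IsNoetherian.noetherian _), LinearMap.mem_ker, map_sub,
      sub_eq_zero]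
    exact hy.symm
  have h2 := Ideal.mem_map_of_mem (algebraMap S T) hr
  rw [Ideal.map_map, ← IsScalarTower.algebraMap_eq, map_sub, ← IsScalarTower.algebraMap_apply] at h2
  have hm : (maximalIdeal S ^ n).map (algebraMap S T) = (maximalIdeal R ^ n).map (algebraMap R T) := by
    rw [IsScalarTower.algebraMap_eq R S T, ← Ideal.map_map, Ideal.map_pow (algebraMap R S)]
    exact congrArg (fun I => (I ^ n).map (algebraMap S T)) h.map_max.symm
  rw [hm] at h1
  have := add_mem h1 h2
  rwa [sub_add_sub_cancel] at this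

end Groth.Agent.Hensel
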