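import Groth.Agent.Hensel.Local
import Mathlib.RingTheory.Etale.QuasiFinite
import Mathlib.RingTheory.Localization.LocalizationLocalization

/-!
Splitting off the quasi-finite part over a henselian local ring.
-/

namespace Groth.Agent.Hensel

open IsLocalRing TensorProduct

universe u

variable {R : Type u} [CommRing R] [HenselianLocalRing R] {S : Type u} [CommRing S] [Algebra R S]

/-- A quasi-finite prime over the closed point is split off by an idempotent with finite factor. -/
theorem exists_idempotent_of_quasiFiniteAt [Algebra.FiniteType R S] (q : Ideal S) [q.IsPrime]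
    [q.LiesOver (maximalIdeal R)] [Algebra.QuasiFiniteAt R q] :
    ∃ e : S, IsIdempotentElem e ∧ e ∉ q ∧ Module.Finite R (S ⧸ Ideal.span {1 - e}) ∧
      ∀ Q : Ideal S, Q.IsPrime → Q.LiesOver (maximalIdeal R) → e ∉ Q → Q = q := by
  obtain ⟨R', _, _, _, P, _, _, e, he, P', _, _, hP'q, heP', hbij, hfin, H⟩ :=
    Algebra.exists_etale_isIdempotentElem_forall_liesOver_eq (maximalIdeal R) q
  let ρ₁ := RingEquiv.ofBijective _ hbij
  let ρ₂ := RingEquiv.ofBijective (algebraMap (R ⧸ maximalIdeal R) (maximalIdeal R).ResidueField)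
    (Ideal.bijective_algebraMap_quotient_residueField _)
  let σ : R' →ₐ[R] ResidueField R :=
    { toRingHom := ρ₂.symm.toRingHom.comp (ρ₁.symm.toRingHom.comp (algebraMap R' P.ResidueField))
      commutes' := fun r ↦ by
        change ρ₂.symm (ρ₁.symm (algebraMap R' P.ResidueField (algebraMap R R' r))) = _
        rw [RingEquiv.symm_apply_eq, RingEquiv.symm_apply_eq, ← IsScalarTower.algebraMap_apply]
        exact (((Ideal.ResidueField.mapₐ (maximalIdeal R) P (Algebra.ofId R R') (P.over_def _)).commutes r).symm.trans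
          (congrArg _ (IsScalarTower.algebraMap_apply R (R ⧸ maximalIdeal R) _ r))) }
  obtain ⟨f, hf, -⟩ := existsUnique_algHom_residue R' σ
  have hfP : (maximalIdeal R).comap f.toRingHom = P := by
    ext x
    rw [Ideal.mem_comap, ← residue_eq_zero_iff]
    change residue R (f x) = 0 ↔ _
    rw [hf]
    change ρ₂.symm (ρ₁.symm (algebraMap R' P.ResidueField x)) = 0 ↔ _
    rw [map_eq_zero_iff _ ρ₂.symm.injective, map_eq_zero_iff _ ρ₁.symm.injective,
      Ideal.algebraMap_residueField_eq_zero]
  let ρ : R' ⊗[R] S →ₐ[R] S :=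
    Algebra.TensorProduct.productMap ((Algebra.ofId R S).comp f) (AlgHom.id R S)
  have hρr : ∀ s : S, ρ (Algebra.TensorProduct.includeRight s) = s := fun s ↦ by simp [ρ]
  have hunder : ∀ Q : Ideal S, Q.IsPrime → Q.LiesOver (maximalIdeal R) →
      (Q.comap ρ.toRingHom).LiesOver P := by
    intro Q _ hQ
    refine ⟨hfP.symm.trans ?_⟩
    ext x
    simp only [Ideal.mem_comap, Ideal.under_def]
    rw [Ideal.mem_of_liesOver Q]
    simp [ρ]
  have hcomap : ∀ Q : Ideal S, (Q.comap ρ.toRingHom).comap
      Algebra.TensorProduct.includeRight.toRingHom = Q := fun Q ↦ by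
    rw [Ideal.comap_comap]
    conv_rhs => rw [← Ideal.comap_id Q]
    congr 1
    exact RingHom.ext hρr
  have hq' : q.comap ρ.toRingHom = P' := by
    haveI := hunder q ‹_› ‹_›
    exact Ideal.eq_of_comap_eq_comap_of_bijective_residueFieldMap hbij _ _
      ((hcomap q).trans hP'q.symm)
  refine ⟨ρ e, he.map ρ, fun h ↦ heP' (hq' ▸ h), ?_, fun Q hQ hQm hQe ↦ ?_⟩
  · let ψ₀ : R' ⊗[R] S →+* S ⧸ Ideal.span {1 - ρ e} := (Ideal.Quotient.mk _).comp ρ.toRingHom
    have hψe : IsUnit (ψ₀ e) := by
      have : ψ₀ e = 1 := by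
        rw [← map_one (Ideal.Quotient.mk (Ideal.span {1 - ρ e})), RingHom.comp_apply, Ideal.Quotient.eq]
        exact Ideal.mem_span_singleton.2 ⟨-1, by simp⟩
      rw [this]; exact isUnit_one
    let ψ : Localization.Away e →+* S ⧸ Ideal.span {1 - ρ e} := IsLocalization.Away.lift e hψe
    have hψs : Function.Surjective ψ := fun z ↦ by
      obtain ⟨s, rfl⟩ := Ideal.Quotient.mk_surjective z
      refine ⟨algebraMap _ _ (Algebra.TensorProduct.includeRight s : R' ⊗[R] S), ?_⟩
      rw [IsLocalization.Away.lift_eq]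
      exact congrArg _ (hρr s)
    have hψsmul : ∀ (r : R') (z : Localization.Away e), ψ (r • z) = f r • ψ z := fun r z ↦ by
      rw [Algebra.smul_def, map_mul, IsScalarTower.algebraMap_apply R' (R' ⊗[R] S),
        IsLocalization.Away.lift_eq, Algebra.smul_def]
      congr 1
      simp [ψ₀, ρ]
    obtain ⟨n, g, hg⟩ := Module.Finite.exists_fin (R := R') (M := Localization.Away e)
    refine ⟨Submodule.fg_def.2 ⟨Set.range (ψ ∘ g), Set.finite_range _, eq_top_iff.2 fun z _ ↦ ?_⟩⟩
    obtain ⟨z, rfl⟩ := hψs z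
    obtain ⟨c, rfl⟩ := (Submodule.mem_span_range_iff_exists_fun R').1
      (hg ▸ Submodule.mem_top : z ∈ _)
    refine (Submodule.mem_span_range_iff_exists_fun R).2 ⟨fun i ↦ f (c i), ?_⟩
    simp [map_sum, hψsmul]
  · haveI := hQ
    haveI := hunder Q hQ hQm
    have := H (Q.comap ρ.toRingHom) inferInstance inferInstance hQe
    rw [← hcomap Q, this, hP'q]

/-- Splitting off the finite part of a finite type algebra over a henselian local ring. -/
theorem exists_idempotent_finite_and_forall_not_quasiFiniteAt (R : Type u) [CommRing R]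
    [HenselianLocalRing R] (S : Type u) [CommRing S] [Algebra R S] [Algebra.FiniteType R S] :
    ∃ e : S, IsIdempotentElem e ∧ Module.Finite R (S ⧸ Ideal.span {1 - e}) ∧
      ∀ (q : Ideal S) [q.IsPrime], q.LiesOver (maximalIdeal R) → Algebra.QuasiFiniteAt R q →
        e ∉ q := by
  let J := (maximalIdeal R).map (algebraMap R S)
  haveI : IsNoetherianRing (S ⧸ J) := by
    letI : Algebra (R ⧸ maximalIdeal R) (S ⧸ J) :=
      (Ideal.quotientMap J (algebraMap R S) Ideal.le_comap_map).toAlgebra
    haveI : IsScalarTower R (R ⧸ maximalIdeal R) (S ⧸ J) := .of_algebraMap_eq' rfl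
    haveI : Algebra.FiniteType (R ⧸ maximalIdeal R) (S ⧸ J) :=
      Algebra.FiniteType.of_restrictScalars_finiteType R _ _
    letI : Field (R ⧸ maximalIdeal R) := Ideal.Quotient.field _
    haveI : IsNoetherianRing (R ⧸ maximalIdeal R) := inferInstance
    exact Algebra.FiniteType.isNoetherianRing (R ⧸ maximalIdeal R) _
  let T : Set (Ideal (S ⧸ J)) := (fun e ↦ Ideal.span {Ideal.Quotient.mk J e}) ''
    {e | IsIdempotentElem e ∧ Module.Finite R (S ⧸ Ideal.span {1 - e})}
  have hT : T.Nonempty := by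
    refine ⟨_, 0, ⟨IsIdempotentElem.zero, ?_⟩, rfl⟩
    have : Subsingleton (S ⧸ Ideal.span {(1 : S) - 0}) :=
      Ideal.Quotient.subsingleton_iff.2 (by simp)
    infer_instance
  obtain ⟨_, ⟨e, ⟨he, hfin⟩, rfl⟩, hmax⟩ :=
    set_has_maximal_iff_noetherian.2 (inferInstance : IsNoetherian (S ⧸ J) (S ⧸ J)) T hT
  refine ⟨e, he, hfin, fun q _ hq hqf heq ↦ ?_⟩
  obtain ⟨e', he', he'q, hfin', -⟩ := exists_idempotent_of_quasiFiniteAt (R := R) q
  let d := e + (1 - e) * e'
  have hd : IsIdempotentElem d := by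
    unfold IsIdempotentElem
    linear_combination (1 - 2 * e' + e' * e') * he.eq + (1 - e) * he'.eq
  have hJq : J ≤ q := Ideal.map_le_iff_le_comap.2 (hq.over.le)
  refine hmax (Ideal.span {Ideal.Quotient.mk J d}) ⟨d, ⟨hd, ?_⟩, rfl⟩ (lt_of_le_not_ge ?_ ?_)
  · -- the factor of `d` is a quotient of the sum of the two finite factors
    let K := Ideal.span {1 - d}
    let a₁ : (S ⧸ Ideal.span {1 - e}) →ₗ[R] S ⧸ K :=
      Submodule.liftQ ((Ideal.span {1 - e}).restrictScalars R)
        ((Ideal.Quotient.mkₐ R K).toLinearMap.comp (LinearMap.mulLeft R e)) fun x hx ↦ by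
        obtain ⟨y, rfl⟩ := Ideal.mem_span_singleton.1 hx
        change Ideal.Quotient.mk K (e * ((1 - e) * y)) = 0
        rw [← mul_assoc, mul_sub, mul_one, he.eq, sub_self, zero_mul, map_zero]
    let a₂ : (S ⧸ Ideal.span {1 - e'}) →ₗ[R] S ⧸ K :=
      Submodule.liftQ ((Ideal.span {1 - e'}).restrictScalars R)
        ((Ideal.Quotient.mkₐ R K).toLinearMap.comp (LinearMap.mulLeft R ((1 - e) * e'))) fun x hx ↦ by
        obtain ⟨y, rfl⟩ := Ideal.mem_span_singleton.1 hx
        change Ideal.Quotient.mk K ((1 - e) * e' * ((1 - e') * y)) = 0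
        rw [show (1 - e) * e' * ((1 - e') * y) = (1 - e) * (e' - e' * e') * y by ring,
          he'.eq, sub_self, mul_zero, zero_mul, map_zero]
    refine Module.Finite.of_surjective (a₁.coprod a₂) fun z ↦ ?_
    obtain ⟨z, rfl⟩ := Ideal.Quotient.mk_surjective z
    refine ⟨(Ideal.Quotient.mk _ z, Ideal.Quotient.mk _ z), ?_⟩
    change Ideal.Quotient.mk K (e * z) + Ideal.Quotient.mk K ((1 - e) * e' * z) = _
    rw [← map_add, Ideal.Quotient.eq]
    exact Ideal.mem_span_singleton.2 ⟨-z, by ring⟩
  · rw [Ideal.span_le, Set.singleton_subset_iff]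
    refine Ideal.mem_span_singleton.2 ⟨Ideal.Quotient.mk J e, ?_⟩
    rw [← map_mul]
    congr 1
    linear_combination (-1 + e') * he.eq
  · intro hle
    have h1 : Ideal.Quotient.mk J d ∈ q.map (Ideal.Quotient.mk J) :=
      (Ideal.span_le.2 (Set.singleton_subset_iff.2 (Ideal.mem_map_of_mem _ heq)))
        (hle (Ideal.mem_span_singleton_self _))
    rw [Ideal.mem_quotient_iff_mem hJq] at h1
    have h2 : (1 - e) * e' ∈ q := by
      have := sub_mem h1 heq
      simpa [d] using this
    rcases (inferInstance : q.IsPrime).mem_or_mem h2 with h3 | h3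
    · exact (inferInstance : q.IsPrime).ne_top ((Ideal.eq_top_iff_one _).2 (by simpa using add_mem h3 heq))
    · exact he'q h3

/-- Quasi-finiteness descends from the factor `S / (e)`. -/
lemma quasiFiniteAt_comap_quotient {R S : Type*} [CommRing R] [CommRing S] [Algebra R S] {e : S}
    (he : IsIdempotentElem e) (q : Ideal (S ⧸ Ideal.span {e})) [q.IsPrime]
    [Algebra.QuasiFiniteAt R q] :
    Algebra.QuasiFiniteAt R (q.comap (Ideal.Quotient.mk (Ideal.span {e}))) := by
  haveI : IsLocalization.Away (1 - e) (S ⧸ Ideal.span {e}) :=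
    IsLocalization.away_of_isIdempotentElem he.one_sub
      (by rw [Ideal.Quotient.algebraMap_eq, Ideal.mk_ker, sub_sub_cancel])
      Ideal.Quotient.mk_surjective
  let T := Localization.AtPrime q
  haveI : IsLocalization.AtPrime T (q.comap (algebraMap S (S ⧸ Ideal.span {e}))) :=
    IsLocalization.isLocalization_isLocalization_atPrime_isLocalization (Submonoid.powers (1 - e)) T q
  let p := q.comap (algebraMap S (S ⧸ Ideal.span {e}))
  exact (Algebra.QuasiFinite.iff_of_algEquiv
    ((IsLocalization.algEquiv p.primeCompl T (Localization.AtPrime p)).restrictScalars R)).1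
    (inferInstance : Algebra.QuasiFinite R T)

end Groth.Agent.Hensel
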