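import Groth.Agent.Hensel.Completion
import Groth.Agent.Hens.Unique
import Mathlib.RingTheory.Ideal.GoingDown
import Mathlib.RingTheory.KrullDimension.Basic

/-!
Formal catenarity ascends to henselizations.
-/

set_option autoImplicit false
universe u

open IsLocalRing TensorProduct

namespace Groth.Agent.Hensel

section Surj

variable {T B : Type u} [CommRing T] [CommRing B] (f : T →+* B) (hf : Function.Surjective f)
include hf

theorem dim_quotient_comap (q : Ideal B) :
    ringKrullDim (T ⧸ q.comap f) = ringKrullDim (B ⧸ q) := by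
  refine ringKrullDim_eq_of_ringEquiv ((Ideal.quotEquivOfEq ?_).trans
    (RingHom.quotientKerEquivOfSurjective (f := (Ideal.Quotient.mk q).comp f)
      (Ideal.Quotient.mk_surjective.comp hf)))
  rw [← RingHom.comap_ker, Ideal.mk_ker]

theorem isEquidim_iff_of_surjective :
    EGA4.IsEquidim B ↔ ∀ Q ∈ (RingHom.ker f).minimalPrimes, ringKrullDim (T ⧸ Q) = ringKrullDim B := by
  have heq : (RingHom.ker f).minimalPrimes = Ideal.comap f '' minimalPrimes B := by
    rw [RingHom.ker_eq_comap_bot, Ideal.comap_minimalPrimes_eq_of_surjective hf]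
  rw [heq, Set.forall_mem_image]
  exact forall₂_congr fun q _ => by rw [dim_quotient_comap f hf]

theorem mem_associatedPrimes_iff_comap (q : Ideal B) :
    q ∈ associatedPrimes B B ↔ q.comap f ∈ associatedPrimes T (T ⧸ RingHom.ker f) := by
  let e : (T ⧸ RingHom.ker f) ≃+* B := RingHom.quotientKerEquivOfSurjective hf
  have key : ∀ y : T ⧸ RingHom.ker f, ((⊥ : Submodule B B).colon {e y}).radical.comap f =
      ((⊥ : Submodule T (T ⧸ RingHom.ker f)).colon {y}).radical := fun y => by
    rw [Ideal.comap_radical]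
    congr 1
    ext r
    rw [Ideal.mem_comap, Submodule.mem_colon_singleton, Submodule.mem_colon_singleton,
      Submodule.mem_bot, Submodule.mem_bot, smul_eq_mul, Algebra.smul_def, ← e.map_eq_zero_iff,
      map_mul]
    rfl
  constructor
  · rintro ⟨hq, x, hx⟩
    obtain ⟨y, rfl⟩ := e.surjective x
    exact ⟨hq.comap f, y, by rw [hx, key]⟩
  · rintro ⟨hq, y, hy⟩
    have hinj := Ideal.comap_injective_of_surjective f hf
    refine ⟨?_, e y, hinj (by rw [key, hy])⟩
    have h1 := Ideal.map_isPrime_of_surjective hf (I := q.comap f) (H := hq)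
      (Ideal.ker_le_comap f)
    rwa [Ideal.map_comap_of_surjective f hf] at h1

theorem isStrictlyEquidim_iff_of_surjective :
    EGA4.IsStrictlyEquidim B ↔
      ∀ Q ∈ associatedPrimes T (T ⧸ RingHom.ker f), ringKrullDim (T ⧸ Q) = ringKrullDim B := by
  constructor
  · intro h Q hQ
    have hle : RingHom.ker f ≤ Q := by
      obtain ⟨-, y, hy⟩ := hQ
      rw [hy]
      refine le_trans (fun r hr => ?_) Ideal.le_radical
      obtain ⟨t, rfl⟩ := Ideal.Quotient.mk_surjective y
      rw [Submodule.mem_colon_singleton, Submodule.mem_bot, Algebra.smul_def, Ideal.Quotient.algebraMap_eq,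
        Ideal.Quotient.eq_zero_iff_mem.2 hr, zero_mul]
    have hQ' : Q = (Q.map f).comap f := by
      rw [Ideal.comap_map_of_surjective f hf, ← RingHom.ker_eq_comap_bot, sup_eq_left.2 hle]
    rw [hQ', dim_quotient_comap f hf]
    exact h _ ((mem_associatedPrimes_iff_comap f hf _).2 (hQ' ▸ hQ))
  · intro h q hq
    rw [← dim_quotient_comap f hf]
    exact h _ ((mem_associatedPrimes_iff_comap f hf q).1 hq)

end Surj

variable {R S : Type u} [CommRing R] [IsLocalRing R] [IsNoetherianRing R] [CommRing S] [IsLocalRing S]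
  [Algebra R S] (h : IsEtLike R S) (hres : ∀ s : S, ∃ r : R, s - algebraMap R S r ∈ maximalIdeal S)
include h hres

theorem exists_maps_completion (P : Ideal S) [P.IsPrime] :
    ∃ (f : AdicCompletion (maximalIdeal S) S →+*
        AdicCompletion (maximalIdeal (R ⧸ P.under R)) (R ⧸ P.under R))
      (g : AdicCompletion (maximalIdeal S) S →+* AdicCompletion (maximalIdeal (S ⧸ P)) (S ⧸ P)),
      Function.Surjective f ∧ Function.Surjective g ∧
      RingHom.ker f = ((P.under R).map (algebraMap R S)).map (algebraMap S (AdicCompletion (maximalIdeal S) S)) ∧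
      RingHom.ker g = P.map (algebraMap S (AdicCompletion (maximalIdeal S) S)) := by
  haveI := h.isNoetherianRing_of_base
  obtain ⟨e⟩ := nonempty_completion_equiv_of_residue h hres
  obtain ⟨eR⟩ := nonempty_quotient_completion_equiv R (P.under R)
  obtain ⟨eS⟩ := nonempty_quotient_completion_equiv S P
  let T := AdicCompletion (maximalIdeal R) R
  let U := AdicCompletion (maximalIdeal S) S
  let f : U →+* AdicCompletion (maximalIdeal (R ⧸ P.under R)) (R ⧸ P.under R) :=
    eR.symm.toRingHom.comp ((Ideal.Quotient.mk ((P.under R).map (algebraMap R T))).comp e.symm.toRingEquiv.toRingHom)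
  refine ⟨f, eS.symm.toRingHom.comp (Ideal.Quotient.mk _),
    eR.symm.surjective.comp (Ideal.Quotient.mk_surjective.comp e.symm.surjective),
    eS.symm.surjective.comp Ideal.Quotient.mk_surjective, ?_, ?_⟩
  · rw [Ideal.map_map, ← IsScalarTower.algebraMap_eq R S U, ← show e.toAlgHom.toRingHom.comp (algebraMap R T) =
      algebraMap R U from e.toAlgHom.comp_algebraMap, ← Ideal.map_map]
    ext x
    rw [RingHom.mem_ker]
    change eR.symm (Ideal.Quotient.mk _ (e.symm x)) = 0 ↔ _
    rw [map_eq_zero_iff _ eR.symm.injective, Ideal.Quotient.eq_zero_iff_mem]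
    exact (Ideal.mem_map_of_equiv e.toRingEquiv _ (I := (P.under R).map (algebraMap R T))).trans
      ⟨fun ⟨t, ht, h1⟩ => by rw [← h1]; simpa using ht, fun h1 => ⟨e.symm x, h1, by simp⟩⟩ |>.symm
  · ext x
    rw [RingHom.mem_ker]
    change eS.symm (Ideal.Quotient.mk _ x) = 0 ↔ _
    rw [map_eq_zero_iff _ eS.symm.injective, Ideal.Quotient.eq_zero_iff_mem]

theorem minimal_mem_minimal (P : Ideal S) [P.IsPrime] {Q : Ideal (AdicCompletion (maximalIdeal S) S)}
    (hQ : Q ∈ (P.map (algebraMap S (AdicCompletion (maximalIdeal S) S))).minimalPrimes) :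
    Q.under S = P ∧
      Q ∈ (((P.under R).map (algebraMap R S)).map
        (algebraMap S (AdicCompletion (maximalIdeal S) S))).minimalPrimes := by
  haveI := h.isNoetherianRing_of_base
  haveI hQp : Q.IsPrime := hQ.1.1
  have hPQ : P ≤ Q.under S := Ideal.map_le_iff_le_comap.1 hQ.1.2
  have hu : Q.under S = P := by
    refine le_antisymm ?_ hPQ
    haveI : Q.LiesOver (Q.under S) := ⟨rfl⟩
    obtain ⟨Q', hQ'Q, hQ', hlo⟩ := Ideal.exists_ideal_le_liesOver_of_le (p := P) (q := Q.under S) Q hPQ
    have : Q ≤ Q' := hQ.2 ⟨hQ', Ideal.map_le_iff_le_comap.2 hlo.over.le⟩ hQ'Q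
    exact (Ideal.comap_mono this).trans hlo.over.ge
  refine ⟨hu, ⟨⟨hQp, (Ideal.map_mono Ideal.map_comap_le).trans hQ.1.2⟩, fun Q' hQ' hle => ?_⟩⟩
  haveI := hQ'.1
  have h1 : (P.under R).map (algebraMap R S) ≤ Q'.under S := Ideal.map_le_iff_le_comap.1 hQ'.2
  have h2 : Q'.under S ≤ P := (Ideal.comap_mono hle).trans hu.le
  have h3 : (Q'.under S).comap (algebraMap R S) = P.comap (algebraMap R S) :=
    le_antisymm (Ideal.comap_mono h2) (Ideal.map_le_iff_le_comap.1 h1)
  have h4 : Q'.under S = P := h.eq_of_le_of_comap_eq h2 h3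
  exact hQ.2 ⟨hQ'.1, Ideal.map_le_iff_le_comap.2 h4.ge⟩ hle

theorem associated_mem_associated (P : Ideal S) [P.IsPrime] {Q : Ideal (AdicCompletion (maximalIdeal S) S)}
    (hQ : Q ∈ associatedPrimes (AdicCompletion (maximalIdeal S) S)
      (AdicCompletion (maximalIdeal S) S ⧸ P.map (algebraMap S (AdicCompletion (maximalIdeal S) S)))) :
    Q ∈ associatedPrimes (AdicCompletion (maximalIdeal S) S)
      (AdicCompletion (maximalIdeal S) S ⧸
        ((P.under R).map (algebraMap R S)).map (algebraMap S (AdicCompletion (maximalIdeal S) S))) := by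
  haveI := h.isNoetherianRing_of_base
  set p := (P.under R).map (algebraMap R S)
  let T := AdicCompletion (maximalIdeal S) S
  have hmin : P ∈ (Module.annihilator S (S ⧸ p)).minimalPrimes := by
    rw [Ideal.annihilator_quotient]
    refine ⟨⟨inferInstance, Ideal.map_comap_le⟩, fun P' hP' hle => ?_⟩
    haveI := hP'.1
    exact (h.eq_of_le_of_comap_eq hle
      (le_antisymm (Ideal.comap_mono hle) (Ideal.map_le_iff_le_comap.1 hP'.2))).ge
  obtain ⟨-, φ, hφ⟩ := (isAssociatedPrime_iff_exists_injective_linearMap (R := S) P (S ⧸ p)).1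
    (Module.associatedPrimes.minimalPrimes_annihilator_subset_associatedPrimes S (S ⧸ p) hmin)
  obtain ⟨x, hx⟩ := Ideal.Quotient.mk_surjective (φ 1)
  have hφx : ∀ s : S, φ (Ideal.Quotient.mk P s) = Ideal.Quotient.mk p (s * x) := fun s => by
    rw [show Ideal.Quotient.mk P s = s • (1 : S ⧸ P) by simp [Algebra.smul_def], map_smul, ← hx]
    rfl
  have hxP : ∀ y ∈ P, y * x ∈ p := fun y hy => by
    rw [← Ideal.Quotient.eq_zero_iff_mem, ← hφx, Ideal.Quotient.eq_zero_iff_mem.2 hy, map_zero]
  have key : ∀ t : T, algebraMap S T x * t ∈ p.map (algebraMap S T) → t ∈ P.map (algebraMap S T) := by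
    intro t ht
    have hinj := Module.Flat.lTensor_preserves_injective_linearMap (M := T) φ hφ
    have h1 : (φ.lTensor T) (t ⊗ₜ Ideal.Quotient.mk P 1) = 0 := by
      rw [LinearMap.lTensor_tmul, hφx, one_mul]
      apply (tensorQuotEquivQuotSMul T p).injective
      rw [map_zero, tensorQuotEquivQuotSMul_tmul_mk, Submodule.Quotient.mk_eq_zero,
        Ideal.smul_top_eq_map, Submodule.restrictScalars_mem, Algebra.smul_def]
      exact ht
    have h2 := congrArg (tensorQuotEquivQuotSMul T P) (hinj (h1.trans (map_zero _).symm))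
    rw [map_zero, tensorQuotEquivQuotSMul_tmul_mk, one_smul, Submodule.Quotient.mk_eq_zero,
      Ideal.smul_top_eq_map, Submodule.restrictScalars_mem] at h2
    exact h2
  let ψ : (T ⧸ P.map (algebraMap S T)) →ₗ[T] T ⧸ p.map (algebraMap S T) :=
    Submodule.mapQ _ _ (LinearMap.mulLeft T (algebraMap S T x)) (by
      change Ideal.map _ P ≤ _
      refine Ideal.map_le_iff_le_comap.2 fun y hy => ?_
      change algebraMap S T x * algebraMap S T y ∈ p.map (algebraMap S T)
      rw [← map_mul, mul_comm]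
      exact Ideal.mem_map_of_mem _ (hxP y hy))
  refine associatedPrimes.subset_of_injective (f := ψ) ?_ hQ
  refine (injective_iff_map_eq_zero ψ).2 fun z hz => ?_
  obtain ⟨t, rfl⟩ := Ideal.Quotient.mk_surjective z
  exact Ideal.Quotient.eq_zero_iff_mem.2 (key t (Ideal.Quotient.eq_zero_iff_mem.1 hz))

theorem isFormallyCatenary (hR : EGA4.IsFormallyCatenary R) : EGA4.IsFormallyCatenary S := fun P _ => by
  haveI := h.isNoetherianRing_of_base
  obtain ⟨f, g, hf, hg, hkf, hkg⟩ := exists_maps_completion h hres P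
  have h1 := (isEquidim_iff_of_surjective f hf).1 (hR (P.under R))
  rw [hkf] at h1
  refine (isEquidim_iff_of_surjective g hg).2 ?_
  rw [hkg]
  intro Q hQ
  refine le_antisymm ?_ ?_
  · rw [← hkg] at hQ
    obtain ⟨q, -, rfl⟩ : ∃ q, q = Q.map g ∧ q.comap g = Q := ⟨_, rfl, by
      rw [Ideal.comap_map_of_surjective g hg, ← RingHom.ker_eq_comap_bot, sup_eq_left.2 hQ.1.2]⟩
    rw [dim_quotient_comap g hg]
    exact ringKrullDim_quotient_le _
  · rw [h1 Q (minimal_mem_minimal h hres P hQ).2]
    refine (ringKrullDim_eq_of_ringEquiv (RingHom.quotientKerEquivOfSurjective hg)).ge.trans ?_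
    refine le_of_le_of_eq ?_ (ringKrullDim_eq_of_ringEquiv (RingHom.quotientKerEquivOfSurjective hf))
    rw [hkf, hkg]
    exact ringKrullDim_le_of_surjective _ (Ideal.Quotient.factor_surjective (Ideal.map_mono Ideal.map_comap_le))

theorem isFormallyStrictlyCatenary (hR : EGA4.IsFormallyStrictlyCatenary R) :
    EGA4.IsFormallyStrictlyCatenary S := fun P _ => by
  haveI := h.isNoetherianRing_of_base
  obtain ⟨f, g, hf, hg, hkf, hkg⟩ := exists_maps_completion h hres P
  have h1 := (isStrictlyEquidim_iff_of_surjective f hf).1 (hR (P.under R))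
  rw [hkf] at h1
  refine (isStrictlyEquidim_iff_of_surjective g hg).2 ?_
  rw [hkg]
  intro Q hQ
  refine le_antisymm ?_ ?_
  · rw [← hkg] at hQ
    have hle : RingHom.ker g ≤ Q := by
      obtain ⟨-, y, hy⟩ := hQ
      rw [hy]
      refine le_trans (fun r hr => ?_) Ideal.le_radical
      obtain ⟨t, rfl⟩ := Ideal.Quotient.mk_surjective y
      rw [Submodule.mem_colon_singleton, Submodule.mem_bot, Algebra.smul_def, Ideal.Quotient.algebraMap_eq,
        Ideal.Quotient.eq_zero_iff_mem.2 hr, zero_mul]
    obtain ⟨q, -, rfl⟩ : ∃ q, q = Q.map g ∧ q.comap g = Q := ⟨_, rfl, by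
      rw [Ideal.comap_map_of_surjective g hg, ← RingHom.ker_eq_comap_bot, sup_eq_left.2 hle]⟩
    rw [dim_quotient_comap g hg]
    exact ringKrullDim_quotient_le _
  · rw [h1 Q (associated_mem_associated h hres P hQ)]
    refine (ringKrullDim_eq_of_ringEquiv (RingHom.quotientKerEquivOfSurjective hg)).ge.trans ?_
    refine le_of_le_of_eq ?_ (ringKrullDim_eq_of_ringEquiv (RingHom.quotientKerEquivOfSurjective hf))
    rw [hkf, hkg]
    exact ringKrullDim_le_of_surjective _ (Ideal.Quotient.factor_surjective (Ideal.map_mono Ideal.map_comap_le))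

omit h hres in
theorem exists_residue_of_isHenselization [IsLocalHom (algebraMap R S)] [_root_.Hensel.IsHenselization R S]
    (s : S) : ∃ r : R, s - algebraMap R S r ∈ maximalIdeal S := by
  obtain ⟨a, ha⟩ := (Hens.residueMap_bijective_of_isHenselization (R := R) S).2 (residue S s)
  obtain ⟨r, rfl⟩ := residue_surjective a
  rw [ResidueField.map_residue] at ha
  exact ⟨r, by rw [← residue_eq_zero_iff, map_sub, ha, sub_self]⟩

end Groth.Agent.Hensel
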