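import Groth.Agent.LimLib.FPSystem
import Mathlib.AlgebraicGeometry.PullbackCarrier
import Mathlib.AlgebraicGeometry.ZariskisMainTheorem
import Mathlib.AlgebraicGeometry.Morphisms.FlatMono
import Mathlib.AlgebraicGeometry.Morphisms.Etale

/-!
# Lifting of clopens along finite morphisms and sections of étale morphisms (EGA IV 18.5.4)
-/

set_option autoImplicit false
set_option linter.style.haveILetI false

universe u

open CategoryTheory Limits AlgebraicGeometry

namespace Groth.Agent.Hensel

variable {S S₀ : Scheme.{u}}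

/-- Clopen subsets lift uniquely along all finite morphisms. -/
def ClopenLift (i : S₀ ⟶ S) : Prop :=
  ∀ (S' : Scheme.{u}) (g : S' ⟶ S), IsFinite g →
    ∀ V : Set ↥(pullback g i), IsClopen V → ∃! U : Set ↥S', IsClopen U ∧ (pullback.fst g i).base ⁻¹' U = V

variable {i : S₀ ⟶ S}

theorem ClopenLift.eq_empty (ha : ClopenLift i) {Z : Set S} (hZ : IsClosed Z) (hd : Disjoint Z (Set.range i.base)) :
    Z = ∅ := by
  let g := (Scheme.IdealSheafData.vanishingIdeal ⟨Z, hZ⟩).subschemeι
  have hg : Set.range g = Z := by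
    rw [Scheme.IdealSheafData.range_subschemeι]
    exact Scheme.IdealSheafData.coe_support_vanishingIdeal _
  haveI : IsEmpty ↥(pullback g i) := Scheme.isEmpty_pullback_iff.2 (by rw [hg]; exact hd)
  obtain ⟨U, -, hU⟩ := ha _ g inferInstance ∅ isClopen_empty
  have h1 := hU ∅ ⟨isClopen_empty, Set.eq_empty_of_isEmpty _⟩
  have h2 := hU Set.univ ⟨isClopen_univ, Set.eq_empty_of_isEmpty _⟩
  have h3 : (Set.univ : Set _) = ∅ := h2.trans h1.symm
  rw [← hg, Set.range_eq_empty_iff]
  exact Set.univ_eq_empty_iff.1 h3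

theorem ClopenLift.eq_empty_of_universallyClosed (ha : ClopenLift i) {N : Scheme.{u}} (π : N ⟶ S)
    [UniversallyClosed π] {T : Set N} (hT : IsClosed T) (hd : Disjoint T (π.base ⁻¹' Set.range i.base)) : T = ∅ := by
  have h := ha.eq_empty (π.isClosedMap T hT)
    (Set.disjoint_left.2 fun _ ⟨x, hx, hxs⟩ hs => Set.disjoint_left.1 hd hx (by
      show π x ∈ Set.range i.base
      rw [← hxs] at hs
      exact hs))
  exact Set.image_eq_empty.1 h

/-- Clopen lifting passes from finite to integral morphisms. -/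
theorem ClopenLift.exists_clopen [CompactSpace ↥S] [QuasiSeparatedSpace ↥S] (ha : ClopenLift i)
    {N : Scheme.{u}} (π : N ⟶ S) [IsIntegralHom π] {V W : Set N} (hV : IsClosed V) (hW : IsClosed W)
    (hVW : Disjoint V W) (hu : V ∪ W = π.base ⁻¹' Set.range i.base) :
    ∃ U : Set N, IsClopen U ∧ U ∩ π.base ⁻¹' Set.range i.base = V := by
  classical
  obtain ⟨I, _, _, _, D, c, hc, hfin, ⟨e⟩⟩ := Groth.Agent.LimLib.exists_finiteSystem π
  haveI : IsConnected Iᵒᵖ := IsCofiltered.isConnected _
  let c' : Cone D := c.extend e.inv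
  have hc' : IsLimit c' := hc.extendIso e.inv
  have hc'' := isLimitOfPreserves (Over.forget S) hc'
  haveI : ∀ {a b : Iᵒᵖ} (φ : a ⟶ b), IsAffineHom ((D ⋙ Over.forget S).map φ) := fun {a b} φ => by
    haveI := (hfin a).1
    haveI := (hfin b).1
    haveI : IsAffineHom ((D.map φ).left ≫ (D.obj b).hom) := by rw [Over.w]; infer_instance
    exact MorphismProperty.of_postcomp (W := @IsAffineHom) (W' := @IsSeparated) (D.map φ).left (D.obj b).hom
      inferInstance inferInstance
  haveI : CompactSpace ↥N := QuasiCompact.compactSpace_of_compactSpace π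
  -- a quasi-compact open between `V` and `Wᶜ`
  obtain ⟨Q, hQc, hVQ, hQW⟩ : ∃ Q : N.Opens, IsCompact (Q : Set N) ∧ V ⊆ Q ∧ Disjoint (Q : Set N) W := by
    have hx : ∀ x : V, ∃ A : N.Opens, IsAffineOpen A ∧ (x : N) ∈ A ∧ (A : Set N) ⊆ Wᶜ := fun x => by
      obtain ⟨A, hA, hxA, hAW⟩ := exists_isAffineOpen_mem_and_subset (x := (x : N))
        (U := ⟨Wᶜ, hW.isOpen_compl⟩) (Set.disjoint_left.1 hVW x.2)
      exact ⟨A, hA, hxA, hAW⟩
    choose A hA hxA hAW using hx
    obtain ⟨t, ht⟩ := hV.isCompact.elim_finite_subcover (fun x => (A x : Set N)) (fun x => (A x).isOpen)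
      fun x hx => Set.mem_iUnion.2 ⟨⟨x, hx⟩, hxA ⟨x, hx⟩⟩
    refine ⟨⟨⋃ x ∈ t, (A x : Set N), isOpen_biUnion fun x _ => (A x).isOpen⟩,
      t.finite_toSet.isCompact_biUnion fun x _ => (hA x).isCompact, ht, Set.disjoint_left.2 fun z hz => ?_⟩
    obtain ⟨x, -, hzx⟩ := Set.mem_iUnion₂.1 hz
    exact hAW x hzx
  obtain ⟨j, Qj, -, hQj⟩ := exists_preimage_eq (D ⋙ Over.forget S) _ hc'' Q hQc
  let f : N ⟶ (D.obj j).left := (c'.π.app j).left
  have hf : f ≫ (D.obj j).hom = π := Over.w (c'.π.app j)
  have hQf : ∀ x, f x ∈ Qj ↔ x ∈ Q := fun x => by rw [← hQj]; rfl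
  haveI := (hfin j).1
  haveI : UniversallyClosed f := by
    haveI : UniversallyClosed (f ≫ (D.obj j).hom) := by rw [hf]; infer_instance
    exact UniversallyClosed.of_comp_of_isSeparated f (D.obj j).hom
  have hZ : IsClosed (Set.range f) := f.isClosedMap.isClosed_range
  let ι := (Scheme.IdealSheafData.vanishingIdeal ⟨Set.range f, hZ⟩).subschemeι
  have hι : Set.range ι = Set.range f := by
    rw [Scheme.IdealSheafData.range_subschemeι]
    exact Scheme.IdealSheafData.coe_support_vanishingIdeal _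
  let g := ι ≫ (D.obj j).hom
  have hdisj : ∀ a ∈ V, ∀ b ∈ W, f a ≠ f b := fun a ha' b hb hab =>
    Set.disjoint_left.1 hQW ((hQf b).1 (hab ▸ (hQf a).2 (hVQ ha'))) hb
  let V' : Set ↥(pullback g i) := (fun z => ι (pullback.fst g i z)) ⁻¹' (f '' V)
  have hcompl : V'ᶜ = (fun z => ι (pullback.fst g i z)) ⁻¹' (f '' W) := by
    ext z
    constructor
    · intro hz
      obtain ⟨x, hx⟩ : ι (pullback.fst g i z) ∈ Set.range f := (Set.ext_iff.1 hι _).1 (Set.mem_range_self _)
      have hx' : x ∈ V ∪ W := by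
        rw [hu]
        refine ⟨pullback.snd g i z, ?_⟩
        show i (pullback.snd g i z) = π x
        rw [← hf, Scheme.Hom.comp_apply, hx, ← Scheme.Hom.comp_apply, ← Scheme.Hom.comp_apply,
          ← Scheme.Hom.comp_apply, pullback.condition]
      rcases hx' with h | h
      · exact absurd ⟨x, h, hx⟩ hz
      · exact ⟨x, h, hx⟩
    · rintro ⟨b, hb, hbz⟩ ⟨a, ha', haz⟩
      exact hdisj a ha' b hb (haz.trans hbz.symm)
  have hcont : Continuous fun z => ι (pullback.fst g i z) := ι.continuous.comp (pullback.fst g i).continuous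
  have hV' : IsClopen V' := by
    refine ⟨(f.isClosedMap V hV).preimage hcont, ?_⟩
    rw [← isClosed_compl_iff, hcompl]
    exact (f.isClosedMap W hW).preimage hcont
  obtain ⟨U', ⟨hU', hU'V⟩, -⟩ := ha _ g inferInstance V' hV'
  have hιinj : Function.Injective ι := ι.isClosedEmbedding.injective
  refine ⟨f ⁻¹' (ι '' U'), ⟨(ι.isClosedEmbedding.isClosedMap _ hU'.1).preimage f.continuous, ?_⟩, ?_⟩
  · rw [← isClosed_compl_iff]
    have : (f ⁻¹' (ι '' U'))ᶜ = f ⁻¹' (ι '' U'ᶜ) := by
      ext x
      obtain ⟨y, hy⟩ : f x ∈ Set.range ι := (Set.ext_iff.1 hι _).2 (Set.mem_range_self _)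
      simp only [Set.mem_compl_iff, Set.mem_preimage, ← hy, hιinj.mem_set_image]
    rw [this]
    exact (ι.isClosedEmbedding.isClosedMap _ hU'.compl.1).preimage f.continuous
  · ext x
    constructor
    · rintro ⟨⟨y, hy, hyx⟩, s, hs⟩
      obtain ⟨z, hz, -⟩ := Scheme.Pullback.exists_preimage_pullback (f := g) (g := i) y s (by
        show g y = i s
        rw [show i s = π x from hs, ← hf, Scheme.Hom.comp_apply, Scheme.Hom.comp_apply, hyx])
      have hzV : z ∈ V' := by
        rw [← hU'V]
        show pullback.fst g i z ∈ U'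
        rwa [hz]
      obtain ⟨a, ha', haz⟩ := hzV
      have hx' : x ∈ V ∪ W := by rw [hu]; exact ⟨s, hs⟩
      rcases hx' with h | h
      · exact h
      · exact absurd (by simpa only [hz, hyx] using haz) (hdisj a ha' x h)
    · intro hx
      have hxi : x ∈ π.base ⁻¹' Set.range i.base := hu ▸ Or.inl hx
      refine ⟨?_, hxi⟩
      obtain ⟨s, hs⟩ := hxi
      obtain ⟨y, hy⟩ : f x ∈ Set.range ι := (Set.ext_iff.1 hι _).2 (Set.mem_range_self _)
      obtain ⟨z, hz, -⟩ := Scheme.Pullback.exists_preimage_pullback (f := g) (g := i) y s (by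
        show g y = i s
        rw [show i s = π x from hs, ← hf, Scheme.Hom.comp_apply, Scheme.Hom.comp_apply, hy])
      refine ⟨y, ?_, hy⟩
      have hzV : z ∈ V' := ⟨x, hx, (hy.symm.trans (congrArg ι hz.symm) : f x = ι (pullback.fst g i z))⟩
      rw [← hU'V] at hzV
      exact hz ▸ (hzV : pullback.fst g i z ∈ U')

/-- The clopen locus where two sections of an étale separated morphism agree. -/
theorem ClopenLift.section_unique (ha : ClopenLift i) {S' : Scheme.{u}} (g : S' ⟶ S) [Etale g] [IsSeparated g]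
    {u u' : S ⟶ S'} (hu : u ≫ g = 𝟙 S) (hu' : u' ≫ g = 𝟙 S) (h : i ≫ u = i ≫ u') : u = u' := by
  let w : S ⟶ pullback g g := pullback.lift u u' (hu.trans hu'.symm)
  have hΔ : IsClosed (Set.range (pullback.diagonal g)) := (pullback.diagonal g).isClosedEmbedding.isClosed_range
  have hΔo : IsOpen (Set.range (pullback.diagonal g)) := (pullback.diagonal g).isOpenEmbedding.isOpen_range
  have h0 : (w.base ⁻¹' Set.range (pullback.diagonal g))ᶜ = ∅ := by
    refine ha.eq_empty (hΔo.preimage w.continuous).isClosed_compl (Set.disjoint_left.2 ?_)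
    rintro _ hs ⟨s, rfl⟩
    refine hs ⟨(i ≫ u) s, ?_⟩
    rw [← Scheme.Hom.comp_apply, show (i ≫ u) ≫ pullback.diagonal g = i ≫ w by
      apply pullback.hom_ext <;>
        simp only [w, Category.assoc, pullback.diagonal_fst, pullback.diagonal_snd, pullback.lift_fst,
          pullback.lift_snd, Category.comp_id, h], Scheme.Hom.comp_apply]
  have hr : Set.range w ⊆ Set.range (pullback.diagonal g) := by
    rintro _ ⟨s, rfl⟩
    exact by_contra fun hs => (Set.eq_empty_iff_forall_notMem.1 h0 s) hs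
  have hl := IsOpenImmersion.lift_fac (pullback.diagonal g) w hr
  have h1 := congrArg (· ≫ pullback.fst g g) hl
  have h2 := congrArg (· ≫ pullback.snd g g) hl
  simp only [Category.assoc, pullback.diagonal_fst, pullback.diagonal_snd, Category.comp_id, w,
    pullback.lift_fst, pullback.lift_snd] at h1 h2
  exact h1.symm.trans h2

/-- A finite étale morphism which is an isomorphism over `S₀` is one. -/
theorem ClopenLift.isIso_of_finite_etale (ha : ClopenLift i) {U : Scheme.{u}} (h : U ⟶ S) [IsFinite h] [Etale h]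
    [IsIso (pullback.snd h i)] : IsIso h := by
  let p := pullback.fst h h ≫ h
  have hΔ : IsClopen (Set.range (pullback.diagonal h)) :=
    ⟨(pullback.diagonal h).isClosedEmbedding.isClosed_range, (pullback.diagonal h).isOpenEmbedding.isOpen_range⟩
  have h0 : (Set.range (pullback.diagonal h))ᶜ = ∅ := by
    refine ha.eq_empty_of_universallyClosed p hΔ.compl.1 (Set.disjoint_left.2 ?_)
    rintro t ht ⟨s, hs⟩
    obtain ⟨z, hz, -⟩ := Scheme.Pullback.exists_preimage_pullback (f := p) (g := i) t s hs.symm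
    apply ht
    let a := pullback.fst p i ≫ pullback.fst h h
    let b := pullback.fst p i ≫ pullback.snd h h
    have hab : a = b := by
      let a' := pullback.lift a (pullback.snd p i) (show a ≫ h = pullback.snd p i ≫ i by
        rw [Category.assoc]; exact pullback.condition)
      let b' := pullback.lift b (pullback.snd p i) (show b ≫ h = pullback.snd p i ≫ i by
        rw [Category.assoc, ← pullback.condition (f := h) (g := h)]; exact pullback.condition)
      have : a' = b' := by
        rw [← cancel_mono (pullback.snd h i), pullback.lift_snd, pullback.lift_snd]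
      simpa only [a', b', pullback.lift_fst] using congrArg (· ≫ pullback.fst h i) this
    refine ⟨a z, ?_⟩
    have hfac : a ≫ pullback.diagonal h = pullback.fst p i := by
      apply pullback.hom_ext
      · simp only [Category.assoc, pullback.diagonal_fst, Category.comp_id, a]
      · rw [Category.assoc, pullback.diagonal_snd, Category.comp_id]
        exact hab
    rw [← hz, ← Scheme.Hom.comp_apply, hfac]
  haveI : Surjective (pullback.diagonal h) := ⟨fun t => by_contra fun ht => Set.eq_empty_iff_forall_notMem.1 h0 t ht⟩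
  haveI : IsIso (pullback.diagonal h) := (isIso_iff_isOpenImmersion_and_surjective _).2 ⟨inferInstance, inferInstance⟩
  haveI : Mono h := (pullback.isIso_diagonal_iff h).1 inferInstance
  haveI : IsOpenImmersion h := IsOpenImmersion.of_flat_of_mono h
  have h1 : (Set.range h)ᶜ = ∅ := by
    refine ha.eq_empty h.isOpenEmbedding.isOpen_range.isClosed_compl (Set.disjoint_left.2 ?_)
    rintro _ hx ⟨s, rfl⟩
    refine hx ⟨pullback.fst h i (inv (pullback.snd h i) s), ?_⟩
    rw [← Scheme.Hom.comp_apply, pullback.condition, Scheme.Hom.comp_apply,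
      ← Scheme.Hom.comp_apply (inv (pullback.snd h i)), IsIso.inv_hom_id]
    rfl
  exact (isIso_iff_isOpenImmersion_and_surjective h).2
    ⟨inferInstance, ⟨fun t => by_contra fun ht => Set.eq_empty_iff_forall_notMem.1 h1 t ht⟩⟩

theorem ClopenLift.exists_section [CompactSpace ↥S] [QuasiSeparatedSpace ↥S] [IsClosedImmersion i]
    (ha : ClopenLift i) {S' : Scheme.{u}} (g : S' ⟶ S) [Etale g] [IsSeparated g]
    (v : S₀ ⟶ S') (hv : v ≫ g = i) : ∃ u : S ⟶ S', u ≫ g = 𝟙 S ∧ i ≫ u = v := by
  classical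
  haveI : CompactSpace ↥S₀ := QuasiCompact.compactSpace_of_compactSpace i
  obtain ⟨W, hWc, hvW⟩ : ∃ W : S'.Opens, IsCompact (W : Set S') ∧ Set.range v ⊆ W := by
    choose A hA hxA hAW using fun x : S' => exists_isAffineOpen_mem_and_subset (x := x) (U := ⊤) trivial
    obtain ⟨t, ht⟩ := (isCompact_range v.continuous).elim_finite_subcover (fun x => (A x : Set S'))
      (fun x => (A x).isOpen) fun x _ => Set.mem_iUnion.2 ⟨x, hxA x⟩
    exact ⟨⟨⋃ x ∈ t, (A x : Set S'), isOpen_biUnion fun x _ => (A x).isOpen⟩,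
      t.finite_toSet.isCompact_biUnion fun x _ => (hA x).isCompact, ht⟩
  haveI : CompactSpace ↥(W : Scheme.{u}) := isCompact_iff_compactSpace.1 hWc
  let gW := W.ι ≫ g
  haveI : QuasiCompact gW := (quasiCompact_iff_compactSpace _).2 inferInstance
  haveI := (inferInstance : Etale gW)
  haveI : LocallyQuasiFinite gW := by
    refine ⟨fun {A} hA {B} hB e => ?_⟩
    have h1 := (gW.etale_appLE hA hB e).formallyUnramified
    have h2 := gW.etale_appLE hA hB e
    algebraize [(gW.appLE A B e).hom]
    exact (RingHom.quasiFinite_algebraMap).2 inferInstance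
  let vW : S₀ ⟶ W := IsOpenImmersion.lift W.ι v (by rw [Scheme.Opens.range_ι]; exact hvW)
  have hvW' : vW ≫ W.ι = v := IsOpenImmersion.lift_fac _ _ _
  have hvg : vW ≫ gW = i := by rw [← Category.assoc, hvW', hv]
  let π := gW.fromNormalization
  let j := gW.toNormalization
  have hj : j ≫ π = gW := gW.toNormalization_fromNormalization
  -- the section is open in the fibre
  let v₀ : S₀ ⟶ pullback gW i := pullback.lift vW (𝟙 _) (by rw [hvg, Category.id_comp])
  haveI : Etale (v₀ ≫ pullback.snd gW i) := by rw [pullback.lift_snd]; infer_instance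
  haveI : Etale v₀ := Etale.of_comp v₀ (pullback.snd gW i)
  obtain ⟨Ω, hΩo, hΩ⟩ : ∃ Ω : Set W, IsOpen Ω ∧ (pullback.fst gW i).base ⁻¹' Ω = Set.range v₀ :=
    (pullback.fst gW i).isClosedEmbedding.isInducing.isOpen_iff.1 v₀.isOpenMap.isOpen_range
  haveI : IsClosedImmersion (vW ≫ j) := by
    haveI : IsClosedImmersion ((vW ≫ j) ≫ π) := by rw [Category.assoc, hj, hvg]; infer_instance
    exact IsClosedImmersion.of_comp (vW ≫ j) π
  let V : Set ↥gW.normalization := Set.range (vW ≫ j)
  have hVeq : V = j '' Ω ∩ π.base ⁻¹' Set.range i.base := by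
    ext x
    constructor
    · rintro ⟨s, rfl⟩
      refine ⟨⟨vW s, ?_, by rw [Scheme.Hom.comp_apply]⟩, s, ?_⟩
      · have h1 : v₀ s ∈ (pullback.fst gW i).base ⁻¹' Ω := hΩ.symm ▸ ⟨s, rfl⟩
        rwa [Set.mem_preimage, show pullback.fst gW i (v₀ s) = vW s by
          rw [← Scheme.Hom.comp_apply, pullback.lift_fst]] at h1
      · show i s = π ((vW ≫ j) s)
        rw [← Scheme.Hom.comp_apply, Category.assoc, hj, hvg]
    · rintro ⟨⟨y, hy, rfl⟩, s, hs⟩
      obtain ⟨z, hz, -⟩ := Scheme.Pullback.exists_preimage_pullback (f := gW) (g := i) y s (by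
        rw [show i s = π (j y) from hs, ← Scheme.Hom.comp_apply, hj])
      obtain ⟨t, ht⟩ : z ∈ Set.range v₀ := hΩ ▸ (show pullback.fst gW i z ∈ Ω by rwa [hz])
      refine ⟨t, ?_⟩
      rw [Scheme.Hom.comp_apply, show vW t = y by
        rw [← hz, ← ht, ← Scheme.Hom.comp_apply, pullback.lift_fst]]
  have hjΩ : IsOpen (j '' Ω) := j.isOpenEmbedding.isOpenMap Ω hΩo
  obtain ⟨U, hU, hUV⟩ := ha.exists_clopen π (vW ≫ j).isClosedEmbedding.isClosed_range
    (hjΩ.isClosed_compl.inter (i.isClosedEmbedding.isClosed_range.preimage π.continuous))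
    (Set.disjoint_left.2 fun x hx hx' => hx'.1 ((Set.ext_iff.1 hVeq x).1 hx).1)
    (by
      show V ∪ _ = _
      rw [hVeq]
      ext x
      simp only [Set.mem_union, Set.mem_inter_iff, Set.mem_compl_iff]
      tauto)
  have hUj : U ⊆ Set.range j := by
    have h1 : U ∩ (Set.range j)ᶜ = ∅ := by
      refine ha.eq_empty_of_universallyClosed π (hU.1.inter j.isOpenEmbedding.isOpen_range.isClosed_compl)
        (Set.disjoint_left.2 fun x hx hx' => hx.2 ?_)
      have : x ∈ V := (Set.ext_iff.1 hUV x).1 ⟨hx.1, hx'⟩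
      obtain ⟨s, rfl⟩ := this
      exact ⟨vW s, by rw [Scheme.Hom.comp_apply]⟩
    exact fun x hx => by_contra fun hx' => Set.eq_empty_iff_forall_notMem.1 h1 x ⟨hx, hx'⟩
  let O : (W : Scheme.{u}).Opens := ⟨j ⁻¹' U, hU.2.preimage j.continuous⟩
  let h := O.ι ≫ gW
  haveI : IsClosedImmersion (O.ι ≫ j) := .of_isPreimmersion _ <| by
    have : Set.range (O.ι ≫ j) = U := by
      rw [Scheme.Hom.comp_base, TopCat.coe_comp, Set.range_comp, Scheme.Opens.range_ι]
      exact Set.image_preimage_eq_of_subset hUj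
    rw [this]; exact hU.1
  haveI : IsFinite h := by
    haveI : IsIntegralHom h := by
      show IsIntegralHom (O.ι ≫ gW)
      rw [← hj, ← Category.assoc]
      infer_instance
    exact (IsFinite.iff_isIntegralHom_and_locallyOfFiniteType _).2 ⟨inferInstance, inferInstance⟩
  have hvO : Set.range vW ⊆ Set.range O.ι := by
    rw [Scheme.Opens.range_ι]
    rintro _ ⟨s, rfl⟩
    show j (vW s) ∈ U
    have : (vW ≫ j) s ∈ U ∩ π.base ⁻¹' Set.range i.base := hUV.symm ▸ ⟨s, rfl⟩
    exact this.1
  let vO := IsOpenImmersion.lift O.ι vW hvO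
  have hvO' : vO ≫ O.ι = vW := IsOpenImmersion.lift_fac _ _ _
  let v₁ : S₀ ⟶ pullback h i := pullback.lift vO (𝟙 _) (by
    rw [← Category.assoc, hvO', hvg, Category.id_comp])
  haveI : Etale (v₁ ≫ pullback.snd h i) := by rw [pullback.lift_snd]; infer_instance
  haveI : Etale v₁ := Etale.of_comp v₁ (pullback.snd h i)
  haveI : Mono v₁ := mono_of_mono_fac (pullback.lift_snd _ _ _ : v₁ ≫ pullback.snd h i = 𝟙 _)
  haveI : IsOpenImmersion v₁ := IsOpenImmersion.of_flat_of_mono v₁
  haveI : Surjective v₁ := ⟨fun z => by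
    have hx : (O.ι ≫ j) (pullback.fst h i z) ∈ V := by
      apply (Set.ext_iff.1 hUV _).1
      refine ⟨?_, pullback.snd h i z, ?_⟩
      · rw [Scheme.Hom.comp_apply]
        exact (pullback.fst h i z).2
      · show i (pullback.snd h i z) = π _
        rw [← Scheme.Hom.comp_apply, ← pullback.condition, ← Scheme.Hom.comp_apply, ← Scheme.Hom.comp_apply]
        simp only [h, Category.assoc, hj]
    obtain ⟨s, hs⟩ := hx
    refine ⟨s, (pullback.fst h i).isClosedEmbedding.injective ?_⟩
    rw [← Scheme.Hom.comp_apply, pullback.lift_fst]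
    apply (O.ι ≫ j).isClosedEmbedding.injective
    rw [← hs, ← Scheme.Hom.comp_apply, ← Category.assoc, hvO']⟩
  haveI : IsIso v₁ := (isIso_iff_isOpenImmersion_and_surjective _).2 ⟨inferInstance, inferInstance⟩
  haveI : IsIso (pullback.snd h i) := by
    haveI : IsIso (v₁ ≫ pullback.snd h i) := by rw [pullback.lift_snd]; infer_instance
    exact IsIso.of_isIso_comp_left v₁ _
  haveI := ha.isIso_of_finite_etale h
  refine ⟨inv h ≫ O.ι ≫ W.ι, ?_, ?_⟩
  · rw [Category.assoc, Category.assoc, show O.ι ≫ W.ι ≫ g = h from rfl, IsIso.inv_hom_id]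
  · have : i ≫ inv h = vO := by
      rw [IsIso.comp_inv_eq, ← Category.assoc, hvO', hvg]
    rw [← Category.assoc, this, ← Category.assoc, hvO', hvW']

end Groth.Agent.Hensel
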