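import Groth.Agent.Hensel.EssSubDesc
import Groth.Agent.Hensel.Local
import Groth.Agent.EtaleSite.SplitAlg
import Mathlib.FieldTheory.Galois.Basic
import Mathlib.FieldTheory.Normal.Closure
import Mathlib.RingTheory.Finiteness.Nakayama

/-!
Finite subextensions of the strict henselization of a henselian local domain.
-/

set_option autoImplicit false
universe u

open IsLocalRing TensorProduct Polynomial

namespace Groth.Agent.Hensel

/-- Elements of a subfield with coordinates in a smaller one lie there, if the degree does not drop. -/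
theorem mem_subfield_of_mem_span {F : Type u} [Field F] {K₁ L : Subfield F} (hle : K₁ ≤ L) {r x : F}
    (hint : IsIntegral L r) (hx : x ∈ L) (n : ℕ) (hn : n ≤ (minpoly L r).natDegree)
    (hxV : x ∈ Submodule.span K₁ (Set.range fun i : Fin n => r ^ (i : ℕ))) : x ∈ K₁ := by
  obtain ⟨c, hc⟩ := (Submodule.mem_span_range_iff_exists_fun K₁).1 hxV
  let c' : Fin n → L := fun i => ⟨c i, hle (c i).2⟩
  let P : L[X] := (∑ i, Polynomial.C (c' i) * X ^ (i : ℕ)) - Polynomial.C ⟨x, hx⟩
  have hd : 0 < (minpoly L r).natDegree := minpoly.natDegree_pos hint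
  have hPdeg : P.natDegree < (minpoly L r).natDegree := by
    refine lt_of_le_of_lt (natDegree_sub_le _ _) (max_lt ?_ (by rw [natDegree_C]; exact hd))
    refine lt_of_le_of_lt (natDegree_sum_le _ _) ?_
    rw [Finset.fold_max_lt]
    exact ⟨hd, fun i _ => lt_of_le_of_lt (natDegree_C_mul_X_pow_le _ _) (lt_of_lt_of_le i.2 hn)⟩
  have hP0 : aeval r P = 0 := by
    rw [map_sub, map_sum, aeval_C, sub_eq_zero]
    simp only [map_mul, aeval_C, map_pow, aeval_X]
    exact hc
  have hP : P = 0 := by
    by_contra hne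
    exact absurd (natDegree_le_of_dvd (minpoly.dvd L r hP0) hne) (not_le.2 hPdeg)
  have h0 : coeff P 0 = 0 := by rw [hP, coeff_zero]
  rw [coeff_sub, finsetSum_coeff, coeff_C_zero] at h0
  simp only [coeff_C_mul_X_pow] at h0
  rw [sub_eq_zero] at h0
  have h1 : x = ((∑ i : Fin n, if (0 : ℕ) = i then c' i else 0 : L) : F) :=
    (congrArg Subtype.val h0).symm
  rw [h1]
  push_cast
  exact sum_mem fun i _ => by split <;> first | exact (c i).2 | exact zero_mem _

/-- A field generated by an integral element is spanned by its powers. -/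
theorem mem_span_of_mem_closure {F : Type u} [Field F] (K₁ : Subfield F) {r x : F} (V : Submodule K₁ F)
    (hint : IsIntegral K₁ r) (hV : ∀ i : ℕ, r ^ i ∈ V) (W : Set F)
    (hW : ∀ w ∈ W, w ∈ Algebra.adjoin K₁ {r}) (hx : x ∈ Subfield.closure W) : x ∈ V := by
  have h2 : Subfield.closure W ≤ (IntermediateField.adjoin K₁ {r}).toSubfield :=
    Subfield.closure_le.2 fun w hw => IntermediateField.algebra_adjoin_le_adjoin K₁ _ (hW w hw)
  have h3 : x ∈ (IntermediateField.adjoin K₁ {r}).toSubalgebra := h2 hx
  rw [IntermediateField.adjoin_simple_toSubalgebra_of_isAlgebraic hint.isAlgebraic,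
    Algebra.adjoin_singleton_eq_range_aeval] at h3
  obtain ⟨p, rfl⟩ := h3
  show aeval r p ∈ V
  rw [aeval_eq_sum_range]
  exact sum_mem fun i _ => V.smul_mem _ (hV i)

/-- A domain finite over a henselian local ring is local. -/
theorem isLocalRing_of_finite_domain {R : Type u} [CommRing R] [HenselianLocalRing R] (X : Type u) [CommRing X]
    [IsDomain X] [Algebra R X] [Module.Finite R X] : IsLocalRing X := by
  obtain ⟨n, e, he, hloc⟩ := exists_pi_local (R := R) X
  obtain ⟨i, hi⟩ : ∃ i, e i ≠ 0 := by
    by_contra! hall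
    exact one_ne_zero (α := X) (by rw [← he.complete]; exact Finset.sum_eq_zero fun i _ => hall i)
  have h1 : e i = 1 := mul_left_cancel₀ hi (by rw [mul_one]; exact (he.idem i).eq)
  haveI := hloc i
  have hb : Ideal.span {1 - e i} = (⊥ : Ideal X) := by rw [h1, sub_self, Ideal.span_singleton_eq_bot]
  exact ((Ideal.quotEquivOfEq hb).trans (RingEquiv.quotientBot X)).isLocalRing

namespace IsEtLike

variable {A S : Type u} [CommRing A] [IsDomain A] [HenselianLocalRing A] [CommRing S] [IsDomain S]
variable [HenselianLocalRing S] [Algebra A S] [IsLocalHom (algebraMap A S)]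

/-- The residue map as an algebra homomorphism. -/
noncomputable abbrev resS : S →ₐ[A] ResidueField S := IsScalarTower.toAlgHom A S (ResidueField S)

theorem aeval_residue_eq (p : A[X]) (θ : ResidueField S) :
    aeval θ p = aeval θ (p.map (residue A)) := by
  rw [← Polynomial.aeval_map_algebraMap (A := ResidueField A) θ p]
  rfl

/-- A finite integral subalgebra is a local ring dominated by the ambient one and henselian. -/
theorem finite_subalgebra (T : Subalgebra A S) [Module.Finite A T] :
    ∃ _ : IsLocalRing T, IsLocalHom (algebraMap T S) ∧ HenselianLocalRing T := by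
  haveI : IsLocalRing T := isLocalRing_of_finite_domain (R := A) T
  refine ⟨inferInstance, ?_, EtaleSite.henselianLocalRing_of_finite (R := A)⟩
  refine ((local_hom_TFAE (algebraMap T S)).out 0 4).2 ?_
  refine IsLocalRing.eq_maximalIdeal (Ideal.isMaximal_of_isIntegral_of_isMaximal_comap (R := A) _ ?_)
  have h1 : (maximalIdeal S).comap (algebraMap A S) = maximalIdeal A :=
    ((local_hom_TFAE (algebraMap A S)).out 0 4).1 (inferInstance : IsLocalHom (algebraMap A S))
  rw [Ideal.comap_comap, ← IsScalarTower.algebraMap_eq, h1]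
  exact maximalIdeal.isMaximal A

/-- A separable root in the residue field lifts into any finite subalgebra hitting it. -/
theorem exists_root (T : Subalgebra A S) [Module.Finite A T] (f : A[X]) (hf : f.Monic)
    (θ : ResidueField S) (hθ : aeval θ f = 0) (hθ' : aeval θ (derivative f) ≠ 0)
    (hT : ∃ x ∈ T, residue S x = θ) : ∃ r ∈ T, aeval r f = 0 ∧ residue S r = θ := by
  obtain ⟨_, hloc, hhens⟩ := finite_subalgebra T
  haveI := hloc
  haveI := hhens
  obtain ⟨x, hx, rfl⟩ := hT
  have hev : ∀ (p : A[X]) (y : T), residue S ((aeval y p : T) : S) = aeval (residue S (y : S)) p := fun p y =>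
    (Polynomial.aeval_algHom_apply (resS.comp T.val) y p).symm
  obtain ⟨a, ha, haa⟩ := HenselianLocalRing.is_henselian (f.map (algebraMap A T)) (hf.map _) ⟨x, hx⟩
    (by
      rw [eval_map, ← aeval_def]
      intro hu
      exact (residue_ne_zero_iff_isUnit _).2 (hu.map T.val) ((hev f ⟨x, hx⟩).trans hθ))
    (by
      rw [derivative_map, eval_map, ← aeval_def]
      refine isUnit_of_map_unit (algebraMap T S) _ ((residue_ne_zero_iff_isUnit _).1 ?_)
      show residue S ((aeval (⟨x, hx⟩ : T) (derivative f) : T) : S) ≠ 0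
      rw [hev]
      exact hθ')
  refine ⟨a, a.2, ?_, ?_⟩
  · rw [IsRoot, eval_map, ← aeval_def] at ha
    show aeval (T.val a) f = 0
    rw [Polynomial.aeval_algHom_apply, ha, map_zero]
  · rw [← sub_eq_zero, ← map_sub, residue_eq_zero_iff, mem_maximalIdeal, mem_nonunits_iff]
    intro hu
    exact (mem_maximalIdeal _).1 haa (isUnit_of_map_unit (algebraMap T S) _ hu)

variable [Algebra.IsSeparable (ResidueField A) (ResidueField S)]

theorem exists_lift_minpoly (θ : ResidueField S) : ∃ f : A[X], f.Monic ∧
    f.map (residue A) = minpoly (ResidueField A) θ ∧ aeval θ f = 0 ∧ aeval θ (derivative f) ≠ 0 := by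
  have hint : IsIntegral (ResidueField A) θ := Algebra.IsIntegral.isIntegral θ
  obtain ⟨f, hf, -, hfmon⟩ := Polynomial.lifts_and_natDegree_eq_and_monic
    (Polynomial.map_surjective (residue A) residue_surjective (minpoly (ResidueField A) θ)) (minpoly.monic hint)
  refine ⟨f, hfmon, hf, by rw [aeval_residue_eq, hf, minpoly.aeval], ?_⟩
  rw [aeval_residue_eq, ← derivative_map, hf]
  exact Polynomial.Separable.aeval_derivative_ne_zero (Algebra.IsSeparable.isSeparable _ θ) (minpoly.aeval _ _)

omit [Algebra.IsSeparable (ResidueField A) (ResidueField S)] in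
theorem residue_mem_adjoin {r : S} {θ : ResidueField S} (hrθ : residue S r = θ) :
    ∀ c, c ∈ Algebra.adjoin (ResidueField A) {θ} ↔ ∃ x ∈ Algebra.adjoin A {r}, residue S x = c := by
  intro c
  rw [Algebra.adjoin_singleton_eq_range_aeval, Algebra.adjoin_singleton_eq_range_aeval]
  have hev : ∀ p : A[X], residue S (aeval r p) = aeval θ (p.map (residue A)) := fun p => by
    rw [← hrθ, ← aeval_residue_eq]
    exact (Polynomial.aeval_algHom_apply resS r p).symm
  constructor
  · rintro ⟨p, rfl⟩
    obtain ⟨p, rfl⟩ := Polynomial.map_surjective (residue A) residue_surjective p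
    exact ⟨_, ⟨p, rfl⟩, hev p⟩
  · rintro ⟨_, ⟨p, rfl⟩, rfl⟩
    exact ⟨_, (hev p).symm⟩

/-- The stage generated by a root of a lifted minimal polynomial. -/
theorem isEssSub_adjoin (h : IsEtLike A S) [IsNoetherianRing A] (θ : ResidueField S) (r : S) (f : A[X])
    (hf : f.Monic) (hfθ : f.map (residue A) = minpoly (ResidueField A) θ) (hr : aeval r f = 0)
    (hrθ : residue S r = θ) :
    Module.Finite A (Algebra.adjoin A {r}) ∧ IsEssSub (Algebra.adjoin A {r}) ∧
      ∀ x ∈ Algebra.adjoin A {r}, residue S x = 0 →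
        x ∈ Submodule.map (Algebra.adjoin A {r}).val.toLinearMap
          (maximalIdeal A • (⊤ : Submodule A (Algebra.adjoin A {r}))) := by
  let T := Algebra.adjoin A {r}
  haveI hfin : Module.Finite A T := Module.Finite.iff_fg.2 (IsIntegral.fg_adjoin_singleton ⟨f, hf, hr⟩)
  obtain ⟨_, hloc, -⟩ := finite_subalgebra T
  haveI := hloc
  have hmem : ∀ x : T, residue S (x : S) = 0 → x ∈ (maximalIdeal A).map (algebraMap A T) := by
    rintro ⟨x, hx⟩ hx0
    obtain ⟨p, rfl⟩ : x ∈ (aeval (R := A) r).range := (Algebra.adjoin_singleton_eq_range_aeval A r).le hx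
    have h1 : aeval θ (p.map (residue A)) = 0 := by
      rw [← aeval_residue_eq, ← hrθ]
      exact (Polynomial.aeval_algHom_apply resS r p).trans hx0
    obtain ⟨q, hq⟩ := (minpoly.dvd (ResidueField A) θ h1)
    obtain ⟨q, rfl⟩ := Polynomial.map_surjective (residue A) residue_surjective q
    rw [← hfθ, ← Polynomial.map_mul] at hq
    let rT : T := ⟨r, Algebra.self_mem_adjoin_singleton A r⟩
    have hrT : aeval rT f = 0 := Subtype.ext ((Polynomial.aeval_algHom_apply T.val rT f).symm.trans hr)
    have h2 : aeval rT (p - f * q) ∈ (maximalIdeal A).map (algebraMap A T) := by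
      rw [aeval_eq_sum_range]
      refine sum_mem fun i _ => ?_
      rw [Algebra.smul_def]
      refine Ideal.mul_mem_right _ _ (Ideal.mem_map_of_mem _ ((residue_eq_zero_iff _).1 ?_))
      rw [← coeff_map, Polynomial.map_sub, hq, sub_self, coeff_zero]
    rw [map_sub, map_mul, hrT, zero_mul, sub_zero] at h2
    convert h2 using 1
    exact Subtype.ext (Polynomial.aeval_algHom_apply T.val rT p)
  haveI : Algebra.EssFiniteType A T := inferInstance
  refine ⟨hfin, ⟨inferInstance, hloc, h.isEssentiallyEtale_of_essFiniteType T ?_⟩, fun x hx hx0 => ?_⟩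
  · refine le_antisymm (Ideal.map_le_iff_le_comap.2 fun a ha hu => ?_) fun z hz => hmem z ?_
    · exact (mem_maximalIdeal _).1 ha (isUnit_of_map_unit (algebraMap A S) a (hu.map T.val))
    · exact (residue_eq_zero_iff _).2 fun hu => (mem_maximalIdeal _).1 hz (isUnit_of_map_unit (algebraMap T S) _ hu)
  · refine ⟨⟨x, hx⟩, ?_, rfl⟩
    rw [Ideal.smul_top_eq_map]
    exact hmem ⟨x, hx⟩ hx0

/-- A separable root in the residue field lifts to the henselian ring. -/
theorem exists_root_self (f : A[X]) (hf : f.Monic) (θ : ResidueField S) (hθ : aeval θ f = 0)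
    (hθ' : aeval θ (derivative f) ≠ 0) : ∃ r : S, aeval r f = 0 ∧ residue S r = θ := by
  obtain ⟨x, rfl⟩ := residue_surjective θ
  have hev : ∀ p : A[X], residue S (aeval x p) = aeval (residue S x) p := fun p =>
    (Polynomial.aeval_algHom_apply resS x p).symm
  obtain ⟨a, ha, haa⟩ := HenselianLocalRing.is_henselian (f.map (algebraMap A S)) (hf.map _) x
    (by rw [eval_map, ← aeval_def, ← residue_eq_zero_iff, hev, hθ])
    (by
      rw [derivative_map, eval_map, ← aeval_def]
      refine (residue_ne_zero_iff_isUnit _).1 ?_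
      rw [hev]; exact hθ')
  refine ⟨a, ?_, ?_⟩
  · rwa [IsRoot, eval_map, ← aeval_def] at ha
  · rw [← sub_eq_zero, ← map_sub, residue_eq_zero_iff]; exact haa

/-- The comparison of a finite stage with the preimage of a field. -/
theorem preimage_subfield_subset (h : IsEtLike A S) (T T₁ : Subalgebra A S) (hT₁ess : IsEssSub T₁) (r : S)
    (hT : T = Algebra.adjoin A {r}) (f : A[X]) (hf : f.Monic) (hr : aeval r f = 0) (n : ℕ)
    (hTN : Subalgebra.toSubmodule T ≤
      (Submodule.span T₁ (Set.range fun i : Fin n => r ^ (i : ℕ))).restrictScalars A)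
    (L : Subfield (FractionRing S)) (hT₁L : ∀ y ∈ T₁, algebraMap S (FractionRing S) y ∈ L)
    (hint : IsIntegral L (algebraMap S (FractionRing S) r))
    (hn : n ≤ (minpoly L (algebraMap S (FractionRing S) r)).natDegree)
    (hLφT : L ≤ Subfield.closure (Set.range (algebraMap A (FractionRing S)) ∪
      (algebraMap S (FractionRing S)) '' (T : Set S))) (x : S)
    (hx' : algebraMap S (FractionRing S) x ∈ L) : x ∈ T₁ := by
  subst hT
  obtain ⟨K₁, hK₁⟩ : ∃ K₁ : Subfield (FractionRing S),
      K₁ = Subfield.closure ((algebraMap S (FractionRing S)) '' (T₁ : Set S)) := ⟨_, rfl⟩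
  have hinj : Function.Injective (algebraMap S (FractionRing S)) := IsFractionRing.injective S _
  have hK₁L : K₁ ≤ L := hK₁ ▸ Subfield.closure_le.2 (by rintro _ ⟨x, hx, rfl⟩; exact hT₁L x hx)
  have hT₁K : ∀ y ∈ T₁, algebraMap S (FractionRing S) y ∈ K₁ := fun y hy =>
    hK₁ ▸ Subfield.subset_closure ⟨y, hy, rfl⟩
  have hAK₁ : ∀ a, algebraMap A (FractionRing S) a ∈ K₁ := fun a => by
    rw [IsScalarTower.algebraMap_apply A S (FractionRing S)]
    exact hT₁K _ (T₁.algebraMap_mem a)
  have hφV : ∀ y ∈ Algebra.adjoin A {r}, algebraMap S (FractionRing S) y ∈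
      Submodule.span K₁ (Set.range fun i : Fin n => (algebraMap S (FractionRing S) r) ^ (i : ℕ)) := fun y hy => by
    refine Submodule.span_induction (p := fun z _ => algebraMap S (FractionRing S) z ∈
      Submodule.span K₁ (Set.range fun i : Fin n => (algebraMap S (FractionRing S) r) ^ (i : ℕ))) ?_ ?_ ?_ ?_ (hTN hy)
    · rintro _ ⟨i, rfl⟩
      rw [map_pow]
      exact Submodule.subset_span ⟨i, rfl⟩
    · rw [map_zero]; exact zero_mem _
    · intro a b _ _ ha hb
      rw [map_add]; exact add_mem ha hb
    · intro c a _ ha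
      rw [show c • a = (c : S) * a from rfl, map_mul]
      exact Submodule.smul_mem _ (⟨_, hT₁K c c.2⟩ : K₁) ha
  have hrint : IsIntegral K₁ (algebraMap S (FractionRing S) r) := by
    refine ⟨f.map ((algebraMap A (FractionRing S)).codRestrict K₁ hAK₁), hf.map _, ?_⟩
    rw [eval₂_map, show (algebraMap K₁ (FractionRing S)).comp
        ((algebraMap A (FractionRing S)).codRestrict K₁ hAK₁) = algebraMap A (FractionRing S) from rfl,
      ← aeval_def, aeval_algebraMap_apply, hr, map_zero]
  have hpow : ∀ i : ℕ, r ^ i ∈ Algebra.adjoin A {r} := fun i =>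
    (Algebra.adjoin A {r}).pow_mem (Algebra.self_mem_adjoin_singleton A r) i
  have hxV : algebraMap S (FractionRing S) x ∈
      Submodule.span K₁ (Set.range fun i : Fin n => (algebraMap S (FractionRing S) r) ^ (i : ℕ)) := by
    refine mem_span_of_mem_closure K₁ _ hrint
      (fun i => by rw [← map_pow]; exact hφV _ (hpow i))
      (Set.range (algebraMap A (FractionRing S)) ∪
        (algebraMap S (FractionRing S)) '' (Algebra.adjoin A {r} : Set S)) ?_ (hLφT hx')
    rintro _ (⟨a, rfl⟩ | ⟨y, hy, rfl⟩)
    · exact (Algebra.adjoin K₁ {algebraMap S (FractionRing S) r}).algebraMap_mem ⟨_, hAK₁ a⟩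
    · obtain ⟨p, rfl⟩ := (Algebra.adjoin_singleton_eq_range_aeval A r).le hy
      show algebraMap S (FractionRing S) (aeval r p) ∈ _
      rw [← aeval_algebraMap_apply, aeval_eq_sum_range]
      refine sum_mem fun i _ => ?_
      rw [Algebra.smul_def]
      exact mul_mem ((Algebra.adjoin K₁ {algebraMap S (FractionRing S) r}).algebraMap_mem ⟨_, hAK₁ (p.coeff i)⟩)
        (pow_mem (Algebra.self_mem_adjoin_singleton K₁ (algebraMap S (FractionRing S) r)) i)
  have hxK : algebraMap S (FractionRing S) x ∈ K₁ := mem_subfield_of_mem_span hK₁L hint hx' n hn hxV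
  rw [hK₁, Subfield.mem_closure_iff] at hxK
  obtain ⟨a, ha, b, hb, hab⟩ := hxK
  have hTsub : ∀ z ∈ Subring.closure ((algebraMap S (FractionRing S)) '' (T₁ : Set S)),
      ∃ y ∈ T₁, algebraMap S (FractionRing S) y = z := fun z hz =>
    (Subring.closure_le (t := (T₁.toSubring.map (algebraMap S (FractionRing S))))).2
      (by rintro _ ⟨y, hy, rfl⟩; exact ⟨y, hy, rfl⟩) hz
  obtain ⟨a', ha', rfl⟩ := hTsub a ha
  obtain ⟨b', hb', rfl⟩ := hTsub b hb
  by_cases hb0 : b' = 0
  · rw [hb0, map_zero, div_zero] at hab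
    rw [show x = 0 from hinj (hab.symm.trans (map_zero _).symm)]
    exact T₁.zero_mem
  refine h.mem_of_mul_mem hT₁ess hb' (mem_nonZeroDivisors_of_ne_zero hb0) ?_
  have hbx : b' * x = a' := hinj (by
    rw [map_mul, ← hab, mul_div_cancel₀ _ (fun h0 => hb0 (hinj (h0.trans (map_zero _).symm)))])
  rw [hbx]
  exact ha'

/-- The intersection of a finitely generated field of fractions with a strict henselization. -/
theorem exists_essSub_eq_preimage [IsNoetherianRing A] [IsSepClosure (ResidueField A) (ResidueField S)]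
    (h : IsEtLike A S) (t : Finset (FractionRing S)) :
    ∃ D : Subalgebra A S, IsEssSub D ∧ (D : Set S) = (algebraMap S (FractionRing S)) ⁻¹'
      (Subfield.closure (Set.range (algebraMap A (FractionRing S)) ∪ (t : Set (FractionRing S))) :
        Set (FractionRing S)) := by
  classical
  let F := FractionRing S
  let k := ResidueField A
  let φ : S →ₐ[A] F := IsScalarTower.toAlgHom A S F
  have hφ : Function.Injective φ := IsFractionRing.injective S F
  let L : Subfield F := Subfield.closure (Set.range (algebraMap A F) ∪ (t : Set F))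
  have hAL : ∀ a, algebraMap A F a ∈ L := fun a => Subfield.subset_closure (Or.inl ⟨a, rfl⟩)
  choose nd hnd using fun z : F => IsLocalization.surj (nonZeroDivisors S) z
  obtain ⟨C, _, _, hC, θC, hθC⟩ := h.stage (t.image (fun z => (nd z).1) ∪ t.image fun z => ((nd z).2 : S))
  haveI := hC
  -- the residue field of the Galois stage
  obtain ⟨G, hG⟩ := (inferInstance : Algebra.FiniteType A C).out
  let k₀ : IntermediateField k (ResidueField S) :=
    IntermediateField.adjoin k ((G.image fun g => residue S (θC g)) : Set (ResidueField S))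
  haveI : FiniteDimensional k k₀ :=
    IntermediateField.finiteDimensional_adjoin fun x _ => Algebra.IsIntegral.isIntegral x
  haveI : IsGalois k (ResidueField S) := inferInstance
  let k' := IntermediateField.normalClosure k k₀ (ResidueField S)
  haveI : FiniteDimensional k k' := normalClosure.is_finiteDimensional k k₀ (ResidueField S)
  haveI : Normal k k' := normalClosure.normal k k₀ (ResidueField S)
  have hk₀ : k₀ ≤ k' := IntermediateField.le_normalClosure k₀
  obtain ⟨θ', hθ'⟩ := Field.exists_primitive_element k k'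
  let θ : ResidueField S := θ'
  have hkθ : ∀ c ∈ k', c ∈ Algebra.adjoin k {θ} := by
    intro c hc
    have h1 : (⟨c, hc⟩ : k') ∈ Algebra.adjoin k {θ'} := by
      rw [← IntermediateField.adjoin_simple_toSubalgebra_of_isAlgebraic (Algebra.IsAlgebraic.isAlgebraic θ'), hθ']
      trivial
    have h2 : k'.val ⟨c, hc⟩ ∈ (Algebra.adjoin k {θ'}).map k'.val := ⟨_, h1, rfl⟩
    rw [AlgHom.map_adjoin, Set.image_singleton] at h2
    exact h2
  obtain ⟨f, hf, hfθ, hfθ0, hfθ1⟩ := exists_lift_minpoly (A := A) θ
  obtain ⟨r, hr, hrθ⟩ := exists_root_self f hf θ hfθ0 hfθ1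
  let T := Algebra.adjoin A {r}
  obtain ⟨hTfin, hTess, hTker⟩ := h.isEssSub_adjoin θ r f hf hfθ hr hrθ
  haveI := hTfin
  obtain ⟨_, hTloc, hThens⟩ := finite_subalgebra T
  haveI := hTloc
  haveI := hThens
  -- the stage lies in `T`
  have hCT : ∀ c, θC c ∈ T := by
    let j : ResidueField T →ₐ[A] ResidueField S :=
      { toRingHom := ResidueField.map (algebraMap T S)
        commutes' := fun a => by
          show ResidueField.map (algebraMap T S) (residue T (algebraMap A T a)) = residue S (algebraMap A S a)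
          rw [ResidueField.map_residue]
          rfl }
    let σ : C →ₐ[A] ResidueField S := resS.comp θC
    have hσk : ∀ c, σ c ∈ k₀ := fun c => by
      have hc : c ∈ Algebra.adjoin A (G : Set C) := hG ▸ Algebra.mem_top
      refine Algebra.adjoin_le (S := (k₀.toSubalgebra.restrictScalars A).comap σ) ?_ hc
      exact fun g hg => IntermediateField.subset_adjoin k _
        (Finset.mem_coe.2 (Finset.mem_image_of_mem _ hg))
    have hσr : ∀ c, σ c ∈ j.range := fun c => by
      obtain ⟨x, hx, hxc⟩ := (residue_mem_adjoin hrθ _).1 (hkθ _ (hk₀ (hσk c)))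
      exact ⟨residue T ⟨x, hx⟩, (ResidueField.map_residue _ _).trans hxc⟩
    let e := AlgEquiv.ofInjective j j.toRingHom.injective
    obtain ⟨g, hg, -⟩ := existsUnique_algHom_residue (T := T) C (e.symm.toAlgHom.comp (σ.codRestrict j.range hσr))
    have hgθ : T.val.comp g = θC := algHom_eq_of_sub_mem (J := maximalIdeal S) (maximalIdeal_le_jacobson ⊥)
      fun c => by
        rw [← residue_eq_zero_iff, map_sub, sub_eq_zero]
        show residue S ((g c : T) : S) = σ c
        have h1 : ResidueField.map (algebraMap T S) (residue T (g c)) = residue S ((g c : T) : S) :=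
          ResidueField.map_residue _ _
        rw [← h1, hg]
        exact congrArg Subtype.val (e.apply_symm_apply (σ.codRestrict j.range hσr c))
    intro c
    rw [← hgθ]
    exact (g c).2
  let φT : Subfield F := Subfield.closure (Set.range (algebraMap A F) ∪ φ '' (T : Set S))
  have hLφT : L ≤ φT := by
    refine Subfield.closure_le.2 ?_
    rintro z (hz | hz)
    · exact Subfield.subset_closure (Or.inl hz)
    · have hmem : ∀ w ∈ t.image (fun z => (nd z).1) ∪ t.image (fun z => ((nd z).2 : S)), φ w ∈ φT := fun w hw => by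
        obtain ⟨c, rfl⟩ := hθC w hw
        exact Subfield.subset_closure (Or.inr ⟨θC c, hCT c, rfl⟩)
      have h2 : φ ((nd z).2 : S) ≠ 0 := fun h0 =>
        nonZeroDivisors.ne_zero (nd z).2.2 (hφ (h0.trans (map_zero φ).symm))
      have h3 : z = φ (nd z).1 / φ ((nd z).2 : S) := (eq_div_iff h2).2 (hnd z)
      rw [h3]
      exact div_mem (hmem _ (Finset.mem_union_left _ (Finset.mem_image_of_mem (fun z => (nd z).1) hz)))
        (hmem _ (Finset.mem_union_right _ (Finset.mem_image_of_mem (fun z => ((nd z).2 : S)) hz)))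
  -- the trace of `L` on `T`
  let L' : Subalgebra A F := { L.toSubring with algebraMap_mem' := hAL }
  let D₀ : Subalgebra A S := T ⊓ L'.comap φ
  haveI : Module.Finite A D₀ :=
    Module.Finite.of_injective (Subalgebra.inclusion (inf_le_left : D₀ ≤ T)).toLinearMap
      (Subalgebra.inclusion_injective (inf_le_left : D₀ ≤ T))
  obtain ⟨_, hD₀loc, -⟩ := finite_subalgebra D₀
  haveI := hD₀loc
  let kD : IntermediateField k (ResidueField S) :=
    { carrier := {c | ∃ x ∈ D₀, residue S x = c}
      mul_mem' := by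
        rintro _ _ ⟨x, hx, rfl⟩ ⟨y, hy, rfl⟩
        exact ⟨x * y, D₀.mul_mem hx hy, map_mul _ _ _⟩
      one_mem' := ⟨1, D₀.one_mem, map_one _⟩
      add_mem' := by
        rintro _ _ ⟨x, hx, rfl⟩ ⟨y, hy, rfl⟩
        exact ⟨x + y, D₀.add_mem hx hy, map_add _ _ _⟩
      zero_mem' := ⟨0, D₀.zero_mem, map_zero _⟩
      algebraMap_mem' := fun c => by
        obtain ⟨a, rfl⟩ := residue_surjective c
        exact ⟨algebraMap A S a, D₀.algebraMap_mem a, (ResidueField.map_residue _ _).symm⟩
      inv_mem' := by
        rintro _ ⟨x, hx, rfl⟩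
        by_cases h0 : residue S x = 0
        · exact ⟨0, D₀.zero_mem, by rw [h0, inv_zero, map_zero]⟩
        · obtain ⟨u, hu⟩ := (isUnit_of_map_unit (algebraMap D₀ S) ⟨x, hx⟩
            ((residue_ne_zero_iff_isUnit x).1 h0)).exists_right_inv
          refine ⟨u, u.2, eq_inv_of_mul_eq_one_right ?_⟩
          rw [← map_mul, show x * (u : S) = 1 from congrArg Subtype.val hu, map_one] }
  have hkD : kD ≤ k' := by
    rintro _ ⟨x, hx, rfl⟩
    have h1 : residue S x ∈ Algebra.adjoin k {θ} := (residue_mem_adjoin hrθ _).2 ⟨x, hx.1, rfl⟩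
    exact Algebra.adjoin_le (S := k'.toSubalgebra) (Set.singleton_subset_iff.2 θ'.2) h1
  haveI : FiniteDimensional k kD :=
    Module.Finite.of_injective (IntermediateField.inclusion hkD).toLinearMap
      (IntermediateField.inclusion hkD).injective
  obtain ⟨θ₁', hθ₁'⟩ := Field.exists_primitive_element k kD
  let θ₁ : ResidueField S := θ₁'
  have hkθ₁ : ∀ c ∈ kD, c ∈ Algebra.adjoin k {θ₁} := by
    intro c hc
    have h1 : (⟨c, hc⟩ : kD) ∈ Algebra.adjoin k {θ₁'} := by
      rw [← IntermediateField.adjoin_simple_toSubalgebra_of_isAlgebraic (Algebra.IsAlgebraic.isAlgebraic θ₁'), hθ₁']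
      trivial
    have h2 : kD.val ⟨c, hc⟩ ∈ (Algebra.adjoin k {θ₁'}).map kD.val := ⟨_, h1, rfl⟩
    rw [AlgHom.map_adjoin, Set.image_singleton] at h2
    exact h2
  obtain ⟨f₁, hf₁, hf₁θ, hf₁0, hf₁1⟩ := exists_lift_minpoly (A := A) θ₁
  obtain ⟨s₁, hs₁D, hs₁, hs₁θ⟩ := exists_root D₀ f₁ hf₁ θ₁ hf₁0 hf₁1 θ₁'.2
  let T₁ := Algebra.adjoin A {s₁}
  obtain ⟨-, hT₁ess, -⟩ := h.isEssSub_adjoin θ₁ s₁ f₁ hf₁ hf₁θ hs₁ hs₁θ
  have hT₁D : T₁ ≤ D₀ := Algebra.adjoin_le (Set.singleton_subset_iff.2 hs₁D)
  -- roots of `f` lie in `T`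
  let rF : F := φ r
  have hint : IsIntegral L rF := ⟨f.map ((algebraMap A F).codRestrict L hAL), hf.map _, by
    rw [← aeval_def, ← Polynomial.aeval_map_algebraMap (A := F) rF, Polynomial.map_map,
      show (algebraMap L F).comp ((algebraMap A F).codRestrict L hAL) = algebraMap A F from rfl,
      Polynomial.aeval_map_algebraMap, Polynomial.aeval_algHom_apply, hr, map_zero]⟩
  let g := minpoly L rF
  have hfsplit : (f.map (algebraMap A F)).Splits ∧ ∀ z ∈ (f.map (algebraMap A F)).roots, z ∈ φ '' (T : Set S) := by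
    have hsplit : ((minpoly k θ).map (algebraMap k k')).Splits := by
      rw [show minpoly k θ = minpoly k θ' from (IntermediateField.minpoly_eq θ').symm]
      exact Normal.splits inferInstance θ'
    have hroot : ∀ ρ ∈ ((minpoly k θ).map (algebraMap k k')).roots, ∃ w ∈ T, aeval w f = 0 ∧
        residue S w = (ρ : ResidueField S) := fun ρ hρ => by
      have hρ0 : aeval (ρ : ResidueField S) (minpoly k θ) = 0 := by
        have h1 := (mem_roots'.1 hρ).2
        rw [IsRoot, eval_map, ← aeval_def] at h1
        show aeval (k'.val ρ) _ = 0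
        rw [Polynomial.aeval_algHom_apply, h1, map_zero]
      refine exists_root T f hf _ ?_ ?_ ?_
      · rw [aeval_residue_eq, hfθ, hρ0]
      · rw [aeval_residue_eq, ← derivative_map, hfθ]
        exact Polynomial.Separable.aeval_derivative_ne_zero (Algebra.IsSeparable.isSeparable _ θ) hρ0
      · exact (residue_mem_adjoin hrθ _).1 (hkθ _ ρ.2)
    choose w hwT hwf hwρ using hroot
    let R0 := ((minpoly k θ).map (algebraMap k k')).roots
    have hnodup : R0.Nodup :=
      nodup_roots (Polynomial.Separable.map (show (minpoly k θ).Separable from Algebra.IsSeparable.isSeparable k θ))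
    let W : Finset F := R0.toFinset.attach.image fun ρ => φ (w ρ.1 (Multiset.mem_toFinset.1 ρ.2))
    have hWcard : W.card = f.natDegree := by
      rw [Finset.card_image_of_injective, Finset.card_attach, Multiset.toFinset_card_of_nodup hnodup,
        ← hsplit.natDegree_eq_card_roots, natDegree_map, ← hfθ, hf.natDegree_map]
      intro ρ ρ' hρ
      have h1 := congrArg (residue S) (hφ hρ)
      rw [hwρ, hwρ] at h1
      exact Subtype.ext (Subtype.ext h1)
    have hWsub : W.val ≤ (f.map (algebraMap A F)).roots := by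
      refine (Multiset.le_iff_subset W.nodup).2 fun z hz => ?_
      obtain ⟨ρ, -, rfl⟩ := Finset.mem_image.1 hz
      rw [mem_roots', IsRoot, eval_map, ← aeval_def, Polynomial.aeval_algHom_apply, hwf, map_zero]
      exact ⟨(hf.map _).ne_zero, rfl⟩
    have hcard := card_roots' (f.map (algebraMap A F))
    rw [hf.natDegree_map] at hcard
    have heq : W.val = (f.map (algebraMap A F)).roots :=
      Multiset.eq_of_le_of_card_le hWsub (by rw [show W.val.card = f.natDegree from hWcard]; exact hcard)
    refine ⟨?_, fun z hz => ?_⟩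
    · rw [splits_iff_card_roots, ← heq, hf.natDegree_map]
      exact hWcard
    · rw [← heq] at hz
      obtain ⟨ρ, -, rfl⟩ := Finset.mem_image.1 hz
      exact ⟨_, hwT _ _, rfl⟩
  let ιD : D₀ →+* F := φ.toRingHom.comp D₀.val.toRingHom
  have hgD : g.map (algebraMap L F) ∈ Polynomial.lifts ιD := by
    have hdvd : g.map (algebraMap L F) ∣ f.map (algebraMap A F) := by
      have h1 : g ∣ f.map ((algebraMap A F).codRestrict L hAL) := by
        apply minpoly.dvd
        rw [← Polynomial.aeval_map_algebraMap (A := F) rF, Polynomial.map_map,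
          show (algebraMap L F).comp ((algebraMap A F).codRestrict L hAL) = algebraMap A F from rfl,
          Polynomial.aeval_map_algebraMap, Polynomial.aeval_algHom_apply, hr, map_zero]
      have h2 := Polynomial.map_dvd (algebraMap L F) h1
      rwa [Polynomial.map_map] at h2
    have hne : f.map (algebraMap A F) ≠ 0 := (hf.map _).ne_zero
    have hgs : (g.map (algebraMap L F)).Splits := hfsplit.1.of_dvd hne hdvd
    let ιT : T →+* F := φ.toRingHom.comp T.val.toRingHom
    have hT : g.map (algebraMap L F) ∈ Polynomial.lifts ιT := by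
      rw [hgs.eq_prod_roots_of_monic ((minpoly.monic hint).map _)]
      refine multiset_prod_mem _ fun p hp => ?_
      obtain ⟨z, hz, rfl⟩ := Multiset.mem_map.1 hp
      obtain ⟨x, hx, hxz⟩ := hfsplit.2 z (Multiset.mem_of_le (roots.le_of_dvd hne hdvd) hz)
      refine ⟨X - Polynomial.C ⟨x, hx⟩, ?_⟩
      rw [coe_mapRingHom, Polynomial.map_sub, map_X, map_C, ← hxz]
      rfl
    rw [lifts_iff_coeff_lifts] at hT ⊢
    intro i
    obtain ⟨x, hx⟩ := hT i
    refine ⟨⟨x, x.2, ?_⟩, hx⟩
    show φ (x : S) ∈ L
    rw [show φ (x : S) = _ from hx, coeff_map]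
    exact (g.coeff i).2
  obtain ⟨G₀, hG₀, hG₀deg, hG₀mon⟩ := lifts_and_natDegree_eq_and_monic hgD ((minpoly.monic hint).map _)
  rw [(minpoly.monic hint).natDegree_map] at hG₀deg
  -- `T` is spanned by small powers of `r` over `T₁`
  let N : Submodule A S := (Submodule.span T₁ (Set.range fun i : Fin g.natDegree => r ^ (i : ℕ))).restrictScalars A
  have hTN : Subalgebra.toSubmodule T ≤ N := by
    refine Submodule.le_of_le_smul_of_le_jacobson_bot (Module.Finite.iff_fg.1 hTfin)
      (I := maximalIdeal A) (maximalIdeal_le_jacobson ⊥) fun x hx => ?_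
    let rs : D₀ →+* kD :=
      ((residue S).comp D₀.val.toRingHom).codRestrict kD fun d => ⟨d, d.2, rfl⟩
    let q := G₀.map rs
    have hqmon : q.Monic := hG₀mon.map _
    have hqθ : aeval θ q = 0 := by
      have h1 : eval₂ D₀.val.toRingHom r G₀ = 0 := hφ (by
        rw [map_zero]
        show φ.toRingHom (eval₂ D₀.val.toRingHom r G₀) = 0
        rw [hom_eval₂, ← eval_map, show φ.toRingHom.comp D₀.val.toRingHom = ιD from rfl, hG₀, eval_map, ← aeval_def]
        exact minpoly.aeval L rF)
      rw [aeval_def, eval₂_map,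
        show (algebraMap kD (ResidueField S)).comp rs = (residue S).comp D₀.val.toRingHom from rfl,
        ← hrθ, ← hom_eval₂, h1, map_zero]
    obtain ⟨p, hp⟩ : residue S x ∈ (aeval (R := k) θ).range :=
      (Algebra.adjoin_singleton_eq_range_aeval k θ).le ((residue_mem_adjoin hrθ _).2 ⟨x, hx, rfl⟩)
    let m := (p.map (algebraMap k kD)) %ₘ q
    have hm : aeval θ m = residue S x := by
      rw [← hp, aeval_modByMonic_eq_self_of_root hqθ, aeval_map_algebraMap]
      rfl
    have hlift : ∀ i, ∃ y ∈ T₁, residue S y = (m.coeff i : ResidueField S) := fun i =>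
      (residue_mem_adjoin hs₁θ _).1 (hkθ₁ _ (m.coeff i).2)
    choose y hy hyr using hlift
    let z : S := ∑ i ∈ Finset.range g.natDegree, y i * r ^ i
    have hzN : z ∈ N := sum_mem fun i hi =>
      (Submodule.span T₁ _).smul_mem (⟨y i, hy i⟩ : T₁) (Submodule.subset_span ⟨⟨i, Finset.mem_range.1 hi⟩, rfl⟩)
    have hz : residue S z = residue S x := by
      rw [← hm]
      by_cases hd0 : g.natDegree = 0
      · exact absurd hd0 (minpoly.natDegree_pos hint).ne'
      have hlt : m.natDegree < g.natDegree := by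
        rw [← hG₀deg, ← hG₀mon.natDegree_map rs]
        refine natDegree_modByMonic_lt _ hqmon fun h1 => hd0 ?_
        rw [← hG₀deg, ← hG₀mon.natDegree_map rs]
        show q.natDegree = 0
        rw [h1, natDegree_one]
      rw [aeval_eq_sum_range' hlt, map_sum]
      refine Finset.sum_congr rfl fun i _ => ?_
      rw [map_mul, map_pow, hrθ, hyr, Algebra.smul_def]
      rfl
    refine Submodule.mem_sup.2 ⟨z, hzN, x - z, ?_, add_sub_cancel _ _⟩
    have hzT : z ∈ T := Subalgebra.sum_mem _ fun i _ => T.mul_mem (hT₁D (hy i)).1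
      (T.pow_mem (Algebra.self_mem_adjoin_singleton A r) i)
    obtain ⟨w, hw, hwx⟩ := hTker (x - z) (T.sub_mem hx hzT) (by rw [map_sub, hz, sub_self])
    rw [← hwx]
    have h9 := Submodule.mem_map_of_mem (f := T.val.toLinearMap) hw
    rw [Submodule.map_smul'', Submodule.map_top] at h9
    refine Submodule.smul_mono le_rfl ?_ h9
    rintro _ ⟨v, rfl⟩
    exact v.2
  exact ⟨T₁, hT₁ess, Set.Subset.antisymm (fun x hx => (hT₁D hx).2) fun x hx =>
    preimage_subfield_subset h T T₁ hT₁ess r rfl f hf hr g.natDegree hTN L (fun y hy => (hT₁D hy).2) hint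
      le_rfl hLφT x hx⟩

end IsEtLike

end Groth.Agent.Hensel
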