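import Groth.Agent.Hensel.GaloisStage
import Groth.Agent.GeomFieldLib.NormalBC
import Groth.Agent.GeomFieldLib.ICBaseChange
import Groth.Agent.EGA4Lib.AdicFibres
import Groth.Agent.FBase.TensorAlgClosed
import Groth.Agent.SchFinLib.Conn

/-!
# Henselian local rings and their completions (EGA IV 18.9)

An integral extension domain of a henselian Noetherian local ring stays local after base change to the
completion; consequently formal fibres which are geometrically reduced are geometrically connected,
and geometrically normal formal fibres of a henselian domain make the completion a domain.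
-/

set_option autoImplicit false
set_option linter.style.haveILetI false

universe u

open IsLocalRing TensorProduct

namespace Groth.Agent.Hensel

/-- An integral domain extension of a henselian local ring is local. -/
theorem isLocalRing_of_isIntegral_domain (A : Type u) [CommRing A] [HenselianLocalRing A] (B : Type u)
    [CommRing B] [IsDomain B] [Algebra A B] [Algebra.IsIntegral A B] : IsLocalRing B := by
  refine IsLocalRing.of_isUnit_or_isUnit_one_sub_self fun b => ?_
  haveI : Module.Finite A (Algebra.adjoin A {b}) :=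
    Algebra.finite_adjoin_simple_of_isIntegral (Algebra.IsIntegral.isIntegral b)
  haveI := isLocalRing_of_finite_domain (R := A) (Algebra.adjoin A {b})
  rcases IsLocalRing.isUnit_or_isUnit_one_sub_self
      (⟨b, Algebra.self_mem_adjoin_singleton A b⟩ : Algebra.adjoin A {b}) with h | h
  · exact Or.inl (h.map (Algebra.adjoin A {b}).val)
  · exact Or.inr (h.map (Algebra.adjoin A {b}).val)

variable {A : Type u} [CommRing A] [IsNoetherianRing A]

/-- Finite algebras tensored with the completion are congruent to the algebra modulo the maximal ideal. -/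
theorem exists_tmul_one_sub_mem [IsLocalRing A] (B : Type u) [CommRing B] [Algebra A B] (x : B ⊗[A] EGA4.Cpl A) :
    ∃ b : B, x - b ⊗ₜ 1 ∈ (maximalIdeal A).map (algebraMap A (B ⊗[A] EGA4.Cpl A)) := by
  induction x using TensorProduct.induction_on with
  | zero => exact ⟨0, by rw [TensorProduct.zero_tmul, sub_zero]; exact zero_mem _⟩
  | tmul b c =>
    obtain ⟨a, ha⟩ := EGA4Lib.completion_exists_sub_mem_pow (maximalIdeal A) 1 c
    rw [pow_one] at ha
    refine ⟨a • b, ?_⟩
    have h1 : (b ⊗ₜ[A] c) - (a • b) ⊗ₜ[A] (1 : EGA4.Cpl A) =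
        b ⊗ₜ[A] (1 : EGA4.Cpl A) * (Algebra.TensorProduct.includeRight (R := A) (A := B)
          (c - algebraMap A (EGA4.Cpl A) a)) := by
      rw [Algebra.TensorProduct.includeRight_apply, Algebra.TensorProduct.tmul_mul_tmul, mul_one, one_mul,
        TensorProduct.tmul_sub, TensorProduct.smul_tmul, Algebra.smul_def, mul_one]
    rw [h1]
    refine Ideal.mul_mem_left _ _ ?_
    have h2 := Ideal.mem_map_of_mem (Algebra.TensorProduct.includeRight (R := A) (A := B) (B := EGA4.Cpl A)).toRingHom ha
    rwa [Ideal.map_map, AlgHom.toRingHom_eq_coe, AlgHom.comp_algebraMap] at h2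
  | add x y hx hy =>
    obtain ⟨b, hb⟩ := hx
    obtain ⟨c, hc⟩ := hy
    exact ⟨b + c, by rw [TensorProduct.add_tmul, add_sub_add_comm]; exact add_mem hb hc⟩

theorem isLocalHom_quotient_tensor [IsLocalRing A] (B : Type u) [CommRing B] [Algebra A B] [Module.Finite A B] :
    (maximalIdeal A).map (algebraMap A (B ⊗[A] EGA4.Cpl A)) ≤ Ideal.jacobson ⊥ := by
  letI : Algebra (EGA4.Cpl A) (B ⊗[A] EGA4.Cpl A) := Algebra.TensorProduct.rightAlgebra
  haveI : Algebra.IsIntegral (EGA4.Cpl A) (B ⊗[A] EGA4.Cpl A) := by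
    haveI : Algebra.IsIntegral A B := Algebra.IsIntegral.of_finite A B
    refine ⟨fun x => ?_⟩
    induction x using TensorProduct.induction_on with
    | zero => exact isIntegral_zero
    | tmul b c =>
      have h1 : b ⊗ₜ[A] c = (b ⊗ₜ[A] (1 : EGA4.Cpl A)) * algebraMap (EGA4.Cpl A) (B ⊗[A] EGA4.Cpl A) c := by
        show b ⊗ₜ[A] c = b ⊗ₜ[A] (1 : EGA4.Cpl A) * ((1 : B) ⊗ₜ[A] c)
        rw [Algebra.TensorProduct.tmul_mul_tmul, mul_one, one_mul]
      rw [h1]
      exact ((IsIntegral.map (Algebra.TensorProduct.includeLeft : B →ₐ[A] B ⊗[A] EGA4.Cpl A)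
        (Algebra.IsIntegral.isIntegral (R := A) b)).tower_top).mul isIntegral_algebraMap
    | add x y hx hy => exact hx.add hy
  refine le_sInf fun M hM => ?_
  haveI := hM.2
  haveI := Ideal.isMaximal_comap_of_isIntegral_of_isMaximal (R := EGA4.Cpl A) M
  rw [Ideal.map_le_iff_le_comap]
  intro a ha
  show algebraMap A (B ⊗[A] EGA4.Cpl A) a ∈ M
  rw [IsScalarTower.algebraMap_apply A (EGA4.Cpl A) (B ⊗[A] EGA4.Cpl A)]
  show algebraMap A (EGA4.Cpl A) a ∈ M.comap (algebraMap (EGA4.Cpl A) (B ⊗[A] EGA4.Cpl A))
  rw [IsLocalRing.eq_maximalIdeal (show (M.comap (algebraMap (EGA4.Cpl A) (B ⊗[A] EGA4.Cpl A))).IsMaximal from inferInstance),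
    AdicCompletion.maximalIdeal_eq_map]
  exact Ideal.mem_map_of_mem _ ha

variable [HenselianLocalRing A]

/-- EGA IV 18.9: an integral extension domain of a henselian Noetherian local ring stays local after
base change to the completion. -/
theorem isLocalRing_tensor_cpl (B : Type u) [CommRing B] [IsDomain B] [Algebra A B] [Algebra.IsIntegral A B] :
    IsLocalRing (B ⊗[A] EGA4.Cpl A) := by
  classical
  haveI := isLocalRing_of_isIntegral_domain A B
  haveI : Nontrivial (B ⊗[A] EGA4.Cpl A) := by
    haveI : Module.FaithfullyFlat A (EGA4.Cpl A) := Module.FaithfullyFlat.of_flat_of_isLocalHom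
    exact Module.FaithfullyFlat.rTensor_nontrivial A (EGA4.Cpl A) B
  refine IsLocalRing.of_isUnit_or_isUnit_one_sub_self fun x => ?_
  obtain ⟨S, hS⟩ := TensorProduct.exists_finset x
  let B₀ := Algebra.adjoin A ((S.image Prod.fst : Finset B) : Set B)
  haveI : Module.Finite A B₀ := Module.Finite.iff_fg.2
    (fg_adjoin_of_finite (Finset.finite_toSet _) fun b _ => Algebra.IsIntegral.isIntegral b)
  haveI := isLocalRing_of_finite_domain (R := A) B₀
  let φ := Algebra.TensorProduct.map B₀.val (AlgHom.id A (EGA4.Cpl A))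
  obtain ⟨y, rfl⟩ : ∃ y, φ y = x := ⟨∑ i ∈ S.attach, (⟨i.1.1, Algebra.subset_adjoin
      (Finset.mem_coe.2 (Finset.mem_image_of_mem _ i.2))⟩ : B₀) ⊗ₜ i.1.2, by
    rw [map_sum, hS, ← Finset.sum_attach S]
    exact Finset.sum_congr rfl fun i _ => rfl⟩
  obtain ⟨b, hb⟩ := exists_tmul_one_sub_mem B₀ y
  have hJ := (isLocalHom_quotient_tensor (A := A) B₀) hb
  have key : ∀ z : B₀ ⊗[A] EGA4.Cpl A, ∀ u : B₀, IsUnit u → z - u ⊗ₜ 1 ∈ Ideal.jacobson (⊥ : Ideal (B₀ ⊗[A] EGA4.Cpl A)) → IsUnit z := by
    intro z u hu hz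
    obtain ⟨v, hv⟩ := hu.exists_right_inv
    have h1 := Ideal.mem_jacobson_bot.1 hz (v ⊗ₜ 1)
    rw [sub_mul, Algebra.TensorProduct.tmul_mul_tmul, hv, one_mul, ← Algebra.TensorProduct.one_def,
      sub_add_cancel] at h1
    exact isUnit_of_mul_isUnit_left h1
  rcases IsLocalRing.isUnit_or_isUnit_one_sub_self b with h | h
  · exact Or.inl ((key y b h hJ).map φ)
  · refine Or.inr ?_
    rw [← map_one φ, ← map_sub]
    refine (key (1 - y) (1 - b) h ?_).map φ
    rw [TensorProduct.sub_tmul, ← Algebra.TensorProduct.one_def, sub_sub_sub_cancel_left, ← neg_sub y]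
    exact neg_mem hJ

/-- Idempotents of a formal fibre over any field are trivial, if the formal fibres are geometrically
reduced. -/
theorem idempotent_tensor_cpl_eq (hred : ∀ (K : Type u) [Field K] [Algebra A K], IsReduced (K ⊗[A] EGA4.Cpl A))
    (K : Type u) [Field K] [Algebra A K] (e : K ⊗[A] EGA4.Cpl A) (he : IsIdempotentElem e) :
    e = 0 ∨ e = 1 := by
  let C := integralClosure A K
  haveI : Algebra.IsIntegral A C := ⟨fun x => (isIntegral_algHom_iff C.val Subtype.val_injective).1 x.2⟩
  haveI := isLocalRing_tensor_cpl (A := A) C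
  have hint : (Algebra.TensorProduct.map (IsScalarTower.toAlgHom A A K)
      (AlgHom.id A (EGA4.Cpl A))).toRingHom.IsIntegralElem e := by
    refine ⟨Polynomial.X ^ 2 - Polynomial.X, Polynomial.monic_X_pow_sub (by simp [Polynomial.degree_X]), ?_⟩
    rw [Polynomial.eval₂_sub, Polynomial.eval₂_X_pow, Polynomial.eval₂_X, sq, he.eq, sub_self]
  obtain ⟨f₀, hf⟩ := GeomFieldLib.mem_tensorImage_of_integral_general hred (B := A) (C := K) e hint
  let φ := Algebra.TensorProduct.map C.val (AlgHom.id A (EGA4.Cpl A))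
  have hinj : Function.Injective φ :=
    Module.Flat.rTensor_preserves_injective_linearMap (M := EGA4.Cpl A) C.val.toLinearMap Subtype.val_injective
  obtain ⟨f, hf'⟩ : ∃ f : C ⊗[A] EGA4.Cpl A, φ f = e := ⟨f₀, hf⟩
  have hidem : IsIdempotentElem f := hinj (by rw [map_mul, hf']; exact he)
  rcases IsLocalRing.isUnit_or_isUnit_one_sub_self f with hu | hu
  · right
    rw [← hf', (IsUnit.mul_eq_left hu).1 hidem.eq, map_one]
  · left
    have h0 : (1 - f) * f = 0 := by rw [sub_mul, one_mul, hidem.eq, sub_self]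
    rw [← hf', hu.mul_right_eq_zero.1 h0, map_zero]

/-- EGA IV 18.9: geometrically reduced formal fibres of a henselian ring are geometrically connected. -/
theorem connectedSpace_tensor_cpl (hred : ∀ (K : Type u) [Field K] [Algebra A K], IsReduced (K ⊗[A] EGA4.Cpl A))
    (K : Type u) [Field K] [Algebra A K] : ConnectedSpace (PrimeSpectrum (K ⊗[A] EGA4.Cpl A)) := by
  haveI : Nontrivial (K ⊗[A] EGA4.Cpl A) := by
    haveI : Module.FaithfullyFlat A (EGA4.Cpl A) := Module.FaithfullyFlat.of_flat_of_isLocalHom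
    exact Module.FaithfullyFlat.rTensor_nontrivial A (EGA4.Cpl A) K
  exact (SchFinLib.connectedSpace_spec_iff _).2 ⟨inferInstance, fun e he => idempotent_tensor_cpl_eq hred K e he⟩

omit [IsNoetherianRing A] in
theorem isReduced_tensor_cpl_of_geomReduced (h : EGA4.HasGeomReducedFormalFibres A)
    (K : Type u) [Field K] [Algebra A K] : IsReduced (K ⊗[A] EGA4.Cpl A) := by
  let p := RingHom.ker (algebraMap A K)
  haveI : p.IsPrime := RingHom.ker_isPrime _
  let θ : p.ResidueField →+* K := IsFractionRing.lift (g := Ideal.Quotient.lift p (algebraMap A K) fun a ha => ha)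
    (RingHom.lift_injective_of_ker_le_ideal _ _ le_rfl)
  letI : Algebra p.ResidueField K := θ.toAlgebra
  haveI : IsScalarTower A p.ResidueField K := IsScalarTower.of_algebraMap_eq fun a => by
    show _ = θ (algebraMap A p.ResidueField a)
    rw [IsScalarTower.algebraMap_apply A (A ⧸ p) p.ResidueField, Ideal.Quotient.algebraMap_eq]
    show _ = IsFractionRing.lift _ _
    rw [IsFractionRing.lift_algebraMap, Ideal.Quotient.lift_mk]
  haveI := h p
  haveI : IsReduced (K ⊗[p.ResidueField] (p.Fiber (EGA4.Cpl A))) :=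
    FBase.TensorAlgClosed.isReduced_tensor_of_isGeometricallyReduced
  exact isReduced_of_injective (Algebra.TensorProduct.cancelBaseChange A p.ResidueField K K (EGA4.Cpl A)).symm
    (AlgEquiv.injective _)

theorem isReduced_tensor_cpl_of_geomNormal (h : EGA4.HasGeomNormalFormalFibres A)
    (K : Type u) [Field K] [Algebra A K] : IsReduced (K ⊗[A] EGA4.Cpl A) :=
  GeomFieldLib.isReduced_field_tensor ⟨inferInstance, fun p _ => h p⟩ K

/-- A normal integral extension domain of a henselian ring with geometrically normal formal fibres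
stays a domain after completion. -/
theorem isDomain_tensor_cpl (h : EGA4.HasGeomNormalFormalFibres A) (B : Type u) [CommRing B] [IsDomain B]
    [IsIntegrallyClosed B] [Algebra A B] [Algebra.IsIntegral A B] : IsDomain (B ⊗[A] EGA4.Cpl A) := by
  haveI := isLocalRing_tensor_cpl (A := A) B
  haveI : IsNoetherianRing (EGA4.Cpl A) := RegLoc.Completion.isNoetherianRing_adicCompletion' (maximalIdeal A)
  have hn := GeomFieldLib.isNormalRing_baseChange_domain (A := A) (A' := EGA4.Cpl A)
    ⟨inferInstance, fun p _ => h p⟩ B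
  haveI := (hn (maximalIdeal (B ⊗[A] EGA4.Cpl A))).1
  exact (IsLocalization.atUnits (B ⊗[A] EGA4.Cpl A) (maximalIdeal (B ⊗[A] EGA4.Cpl A)).primeCompl
    (S := Localization.AtPrime (maximalIdeal (B ⊗[A] EGA4.Cpl A))) (fun x hx =>
      (IsLocalRing.notMem_maximalIdeal.1 hx : IsUnit x))).injective.isDomain

/-- EGA IV 18.9: a henselian Noetherian domain with geometrically normal formal fibres is analytically
irreducible. -/
theorem isDomain_cpl [IsDomain A] (h : EGA4.HasGeomNormalFormalFibres A) : IsDomain (EGA4.Cpl A) := by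
  let K := FractionRing A
  let C := integralClosure A K
  haveI : Algebra.IsIntegral A C := ⟨fun x => (isIntegral_algHom_iff C.val Subtype.val_injective).1 x.2⟩
  haveI : IsIntegrallyClosed C := integralClosure.isIntegrallyClosedOfFiniteExtension K
  haveI := isDomain_tensor_cpl h C
  refine (?_ : Function.Injective (Algebra.TensorProduct.includeRight : EGA4.Cpl A →ₐ[A] C ⊗[A] EGA4.Cpl A)).isDomain
  exact Algebra.TensorProduct.includeRight_injective (FaithfulSMul.algebraMap_injective A C)

end Groth.Agent.Hensel
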