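import Groth.Agent.EGA4Lib.LocusCpl
import Groth.Agent.EGA4Lib.GRingLocal
import Groth.Agent.EGA4Lib.GRingPoly
import Groth.Agent.GeomFieldLib.HomBC

/-!
# Local G-rings are J-2
-/

set_option autoImplicit false
set_option linter.style.haveILetI false

universe u

open IsLocalRing TensorProduct

namespace Groth.Agent.Hensel

/-- A Noetherian local ring with regular completion map is J-2 (EGA IV 7.8.2). -/
theorem isJ2_of_isRegularHom_cpl (A : Type u) [CommRing A] [IsNoetherianRing A] [IsLocalRing A]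
    (hA : CAlg.IsRegularHom A (EGA4.Cpl A)) : EGA4.IsJ2 A := by
  intro S _ _ hS
  haveI := hS
  haveI : IsNoetherianRing S := Algebra.FiniteType.isNoetherianRing A S
  haveI : IsNoetherianRing (EGA4.Cpl A) := RegLoc.Completion.isNoetherianRing_adicCompletion' _
  haveI : Module.FaithfullyFlat A (EGA4.Cpl A) := Module.FaithfullyFlat.of_flat_of_isLocalHom
  letI : Algebra (EGA4.Cpl A) (S ⊗[A] EGA4.Cpl A) := Algebra.TensorProduct.rightAlgebra
  let e : EGA4.Cpl A ⊗[A] S →ₐ[EGA4.Cpl A] S ⊗[A] EGA4.Cpl A :=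
    { (Algebra.TensorProduct.comm A (EGA4.Cpl A) S).toRingEquiv.toRingHom with commutes' := fun _ => rfl }
  haveI : Algebra.FiniteType (EGA4.Cpl A) (S ⊗[A] EGA4.Cpl A) :=
    Algebra.FiniteType.of_surjective e (Algebra.TensorProduct.comm A (EGA4.Cpl A) S).surjective
  haveI : IsNoetherianRing (S ⊗[A] EGA4.Cpl A) := Algebra.FiniteType.isNoetherianRing (EGA4.Cpl A) _
  haveI : IsAdicComplete (maximalIdeal (EGA4.Cpl A)) (EGA4.Cpl A) := inferInstance
  have hU : IsOpen (EGA4.regLocus (S ⊗[A] EGA4.Cpl A)) :=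
    EGA4Lib.isJ2_of_isAdicComplete (EGA4.Cpl A) (S ⊗[A] EGA4.Cpl A) inferInstance
  have hreg := GeomFieldLib.isRegularHom_tensor (A := A) (A' := S) (B := EGA4.Cpl A) hA
  haveI := hreg.1
  refine EGA4Lib.isOpen_of_isOpen_comap_preimage (B := S ⊗[A] EGA4.Cpl A) _ ?_
  convert hU using 1
  ext q
  exact (EGA4Lib.isRegularLocalRing_iff_of_regularFibres (fun p _ => (hreg.2 p).2) q.asIdeal).symm

/-- For a Noetherian local ring, G-ring means regular completion map. -/
theorem isGRing_iff_isRegularHom_cpl (A : Type u) [CommRing A] [IsNoetherianRing A] [IsLocalRing A] :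
    CAlg.IsGRing A ↔ CAlg.IsRegularHom A (EGA4.Cpl A) := by
  let L := Localization.AtPrime (maximalIdeal A)
  let e : A ≃+* L := (IsLocalization.atUnits A (maximalIdeal A).primeCompl (S := L)
    (fun x hx => (IsLocalRing.notMem_maximalIdeal.1 hx : IsUnit x))).toRingEquiv
  refine ⟨fun h => EGA4Lib.Jac.isRegularHom_completion_of_ringEquiv e.symm (h.2 (maximalIdeal A)),
    fun h => EGA4Lib.isGRing_of_forall_isMaximal fun m hm => ?_⟩
  obtain rfl := IsLocalRing.eq_maximalIdeal hm
  exact EGA4Lib.Jac.isRegularHom_completion_of_ringEquiv e h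

end Groth.Agent.Hensel
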