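import Groth.Agent.Hensel.EtLike
import Groth.Agent.Hensel.FormallyCatenary
import Groth.Agent.Nagata.AnalUnram
import Groth.Agent.Nagata.Criteria

/-!
# Henselization and the Nagata property (EGA IV 18.7.3)
-/

set_option autoImplicit false
set_option linter.style.haveILetI false

universe u

open IsLocalRing TensorProduct

namespace Groth.Agent.Hensel

/-- Over a Nagata local ring, formal fibres stay reduced after algebraic extensions of residue fields. -/
theorem isReduced_tensor_cpl_of_nagata {R : Type u} [CommRing R] [IsLocalRing R] [IsNoetherianRing R]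
    (hR : CAlg.IsNagata R) (K : Type u) [Field K] [Algebra R K]
    (halg : ∀ k : K, ∃ r : R, algebraMap R K r ≠ 0 ∧ IsIntegral R (r • k)) :
    IsReduced (K ⊗[R] EGA4.Cpl R) := by
  classical
  refine ⟨fun x hx => ?_⟩
  obtain ⟨T, hT⟩ := TensorProduct.exists_finset x
  choose r hr0 hri using halg
  let s : R := ∏ i ∈ T, r i.1
  have hs : algebraMap R K s ≠ 0 := by
    rw [map_prod]; exact Finset.prod_ne_zero_iff.2 fun i _ => hr0 i.1
  have hint : ∀ i ∈ T, IsIntegral R (s • i.1) := fun i hi => by
    rw [show s = (∏ j ∈ T.erase i, r j.1) * r i.1 from (Finset.prod_erase_mul T (fun j => r j.1) hi).symm, mul_smul]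
    exact (hri i.1).smul _
  let D := Algebra.adjoin R ((T.image fun i => s • i.1 : Finset K) : Set K)
  haveI : Module.Finite R D := Module.Finite.iff_fg.2
    (fg_adjoin_of_finite (Finset.finite_toSet _) fun z hz => by
      obtain ⟨i, hi, rfl⟩ := Finset.mem_image.1 (Finset.mem_coe.1 hz)
      exact hint i hi)
  haveI := Nagata.isReduced_tensor_completion hR D
  let φ := Algebra.TensorProduct.map D.val (AlgHom.id R (EGA4.Cpl R))
  have hinj : Function.Injective φ :=
    Module.Flat.rTensor_preserves_injective_linearMap (M := EGA4.Cpl R) D.val.toLinearMap Subtype.val_injective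
  let y : D ⊗[R] EGA4.Cpl R := ∑ i ∈ T.attach, (⟨s • i.1.1, Algebra.subset_adjoin
      (Finset.mem_coe.2 (Finset.mem_image_of_mem _ i.2))⟩ : D) ⊗ₜ i.1.2
  have hy : φ y = s • x := by
    rw [hT, ← Finset.sum_attach T, Finset.smul_sum, map_sum]
    exact Finset.sum_congr rfl fun i _ => rfl
  have hy0 : y = 0 := by
    refine IsNilpotent.eq_zero ?_
    obtain ⟨n, hn⟩ := hx
    exact ⟨n, hinj (by rw [map_pow, hy, smul_pow, hn, smul_zero, map_zero])⟩
  rw [hy0, map_zero] at hy
  have hu : IsUnit (algebraMap R (K ⊗[R] EGA4.Cpl R) s) := by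
    rw [IsScalarTower.algebraMap_apply R K (K ⊗[R] EGA4.Cpl R)]
    exact hs.isUnit.map _
  exact hu.mul_right_eq_zero.1 ((Algebra.smul_def s x).symm.trans hy.symm)

/-- An absolutely flat `K ⊗[R] S` lets reducedness pass from `K ⊗[R] C` to `K ⊗[S] C`. -/
theorem isReduced_tensor_of_absFlat (R S K C : Type u) [CommRing R] [CommRing S] [CommRing K] [CommRing C]
    [Algebra R S] [Algebra R K] [Algebra S K] [IsScalarTower R S K] [Algebra R C] [Algebra S C]
    [IsScalarTower R S C] (habs : ∀ x : K ⊗[R] S, ∃ y, x * x * y = x) [IsReduced (K ⊗[R] C)] :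
    IsReduced (K ⊗[S] C) := by
  classical
  let μ : K ⊗[R] S →ₐ[R] K := Algebra.TensorProduct.lift (AlgHom.id R K) (IsScalarTower.toAlgHom R S K)
    (fun _ _ => Commute.all _ _)
  let j : K ⊗[R] S →ₐ[R] K ⊗[R] C :=
    Algebra.TensorProduct.map (AlgHom.id R K) (IsScalarTower.toAlgHom R S (C))
  let ψ : K ⊗[R] C →ₐ[R] K ⊗[S] C := Algebra.TensorProduct.lift
    ((Algebra.TensorProduct.includeLeft : K →ₐ[S] K ⊗[S] C).restrictScalars R)
    ((Algebra.TensorProduct.includeRight : C →ₐ[S] K ⊗[S] C).restrictScalars R)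
    (fun _ _ => Commute.all _ _)
  have hψ : ∀ k c, ψ (k ⊗ₜ c) = k ⊗ₜ c := fun k c => by
    show (k ⊗ₜ[S] (1 : C)) * ((1 : K) ⊗ₜ[S] c) = _
    rw [Algebra.TensorProduct.tmul_mul_tmul, mul_one, one_mul]
  have hψj : ∀ t, ψ (j t) = μ t ⊗ₜ 1 := fun t => by
    induction t using TensorProduct.induction_on with
    | zero => rw [map_zero, map_zero, map_zero, TensorProduct.zero_tmul]
    | tmul k z =>
      show ψ (k ⊗ₜ algebraMap S (C) z) = (k * algebraMap S K z) ⊗ₜ 1
      rw [hψ, Algebra.algebraMap_eq_smul_one, ← TensorProduct.smul_tmul, Algebra.smul_def, mul_comm]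
    | add a b ha hb => rw [map_add, map_add, ha, hb, map_add, TensorProduct.add_tmul]
  let I : Ideal (K ⊗[R] C) :=
    { carrier := {w | ∃ t : K ⊗[R] S, IsIdempotentElem t ∧ μ t = 0 ∧ j t * w = w}
      add_mem' := by
        rintro v w ⟨a, ha, ha0, hav⟩ ⟨b, hb, hb0, hbw⟩
        refine ⟨a + b - a * b, ?_, by rw [map_sub, map_add, map_mul, ha0, hb0]; ring, ?_⟩
        · show _ * _ = _
          linear_combination (1 - 2 * b + b * b) * ha.eq + (1 - a) * hb.eq
        · rw [map_sub, map_add, map_mul]
          linear_combination (1 - j b) * hav + (1 - j a) * hbw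
      zero_mem' := ⟨0, IsIdempotentElem.zero, map_zero _, mul_zero _⟩
      smul_mem' := by
        rintro c w ⟨a, ha, ha0, haw⟩
        exact ⟨a, ha, ha0, by rw [smul_eq_mul, mul_left_comm, haw]⟩ }
  have hδ : ∀ z : S, ((1 : K) ⊗ₜ[R] algebraMap S (C) z - algebraMap S K z ⊗ₜ[R] (1 : C)) ∈ I := by
    intro z
    let t : K ⊗[R] S := 1 ⊗ₜ z - algebraMap S K z ⊗ₜ 1
    obtain ⟨y, hy⟩ := habs t
    have ht : μ t = 0 := by
      show μ (1 ⊗ₜ z - algebraMap S K z ⊗ₜ 1) = 0
      rw [map_sub, Algebra.TensorProduct.lift_tmul, Algebra.TensorProduct.lift_tmul, map_one, one_mul,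
        map_one, mul_one]
      exact sub_self _
    have ht' : ((1 : K) ⊗ₜ[R] algebraMap S (C) z -
        algebraMap S K z ⊗ₜ[R] (1 : C)) = j t := by
      show _ = j (1 ⊗ₜ z - algebraMap S K z ⊗ₜ 1)
      rw [map_sub, Algebra.TensorProduct.map_tmul, Algebra.TensorProduct.map_tmul, map_one, map_one]
      rfl
    refine ⟨t * y, ?_, by rw [map_mul, ht, zero_mul], ?_⟩
    · show _ * _ = _
      linear_combination y * hy
    · show j (t * y) * ((1 : K) ⊗ₜ[R] algebraMap S (C) z -
        algebraMap S K z ⊗ₜ[R] (1 : C)) = _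
      rw [ht', ← map_mul, show t * y * t = t by linear_combination hy]
  have hgen : ∀ (Q : Type u) [CommRing Q] (q : K ⊗[R] C →+* Q), RingHom.ker q = I →
      ∀ w, ψ w = 0 → w ∈ I := by
    intro Q _ q hq w hw
    let iK : K →+* Q := q.comp (Algebra.TensorProduct.includeLeft : K →ₐ[R] K ⊗[R] C).toRingHom
    let iC : C →+* Q := q.comp (Algebra.TensorProduct.includeRight : C →ₐ[R] K ⊗[R] C).toRingHom
    letI : Algebra S Q := (iK.comp (algebraMap S K)).toAlgebra
    let fK : K →ₐ[S] Q := { iK with commutes' := fun _ => rfl }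
    let fC : C →ₐ[S] Q :=
      { iC with
        commutes' := fun z => by
          have h0 := hδ z
          rw [← hq, RingHom.mem_ker, map_sub, sub_eq_zero] at h0
          exact h0 }
    let χ : K ⊗[S] C →ₐ[S] Q :=
      Algebra.TensorProduct.lift fK fC (fun _ _ => Commute.all _ _)
    have h1 : ∀ v, χ (ψ v) = q v := fun v => by
      induction v using TensorProduct.induction_on with
      | zero => rw [map_zero, map_zero, map_zero]
      | tmul k c =>
        rw [hψ, Algebra.TensorProduct.lift_tmul]
        show q (k ⊗ₜ 1) * q (1 ⊗ₜ c) = _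
        rw [← map_mul, Algebra.TensorProduct.tmul_mul_tmul, mul_one, one_mul]
      | add a b ha hb => rw [map_add, map_add, ha, hb, map_add]
    rw [← hq, RingHom.mem_ker, ← h1, hw, map_zero]
  have hker := hgen _ (Ideal.Quotient.mk I) Ideal.mk_ker
  refine ⟨fun x hx => ?_⟩
  have hsurj : ∀ v, ∃ w, ψ w = v := fun v => by
    induction v using TensorProduct.induction_on with
    | zero => exact ⟨0, map_zero _⟩
    | tmul k c => exact ⟨k ⊗ₜ c, hψ k c⟩
    | add a b ha hb =>
      obtain ⟨a, rfl⟩ := ha
      obtain ⟨b, rfl⟩ := hb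
      exact ⟨a + b, map_add _ _ _⟩
  obtain ⟨x, rfl⟩ := hsurj x
  obtain ⟨n, hn⟩ := hx
  obtain ⟨t, ht, ht0, htx⟩ := hker (x ^ n) (by rw [map_pow, hn])
  have hid : IsIdempotentElem (1 - j t) := (ht.map j).one_sub
  have h2 : IsNilpotent ((1 - j t) * x) := ⟨n + 1, by
    rw [mul_pow, hid.pow_succ_eq, pow_succ x]
    linear_combination -x * htx⟩
  have h3 : x = j t * x := by linear_combination h2.eq_zero
  rw [h3, map_mul, hψj, ht0, TensorProduct.zero_tmul, zero_mul]

variable {R S : Type u} [CommRing R] [IsLocalRing R] [CommRing S] [IsLocalRing S] [Algebra R S]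

/-- Residue extensions of an ind-étale algebra, and their finite extensions, are algebraic. -/
theorem IsEtLike.exists_smul_isIntegral (h : IsEtLike R S) (K : Type u) [Field K] [Algebra R K]
    (D : Type u) [CommRing D] [IsDomain D] [Algebra S D] [Algebra.IsIntegral S D] [Algebra D K] [IsFractionRing D K]
    [Algebra S K] [IsScalarTower R S K] [IsScalarTower S D K] (k : K) :
    ∃ r : R, algebraMap R K r ≠ 0 ∧ IsIntegral R (r • k) := by
  let p := RingHom.ker (algebraMap R K)
  haveI : p.IsPrime := RingHom.ker_isPrime _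
  let φ : p.ResidueField →ₐ[R] K := Ideal.ResidueField.liftₐ p (Algebra.ofId R K) (le_of_eq rfl) (fun r hr =>
    IsUnit.mk0 _ fun h => hr h)
  letI : Algebra p.ResidueField K := φ.toRingHom.toAlgebra
  haveI : IsScalarTower R p.ResidueField K := IsScalarTower.of_algebraMap_eq fun r => (φ.commutes r).symm
  let E := algebraicClosure p.ResidueField K
  have hS : ∀ z : S, algebraMap S K z ∈ E := fun z => by
    obtain ⟨A, _, _, _, θ, a, rfl⟩ := h.exists_stage₁ z
    haveI : Module.Finite p.ResidueField (p.ResidueField ⊗[R] A) := inferInstance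
    let ψ : p.ResidueField ⊗[R] A →ₐ[p.ResidueField] K := Algebra.TensorProduct.lift (Algebra.ofId p.ResidueField K)
      ((IsScalarTower.toAlgHom R S K).comp θ) (fun _ _ => Commute.all _ _)
    have h1 : algebraMap S K (θ a) = ψ (1 ⊗ₜ a) := by
      rw [Algebra.TensorProduct.lift_tmul, map_one, one_mul]; rfl
    rw [h1, mem_algebraicClosure_iff]
    exact ((Algebra.IsIntegral.isIntegral (R := p.ResidueField) (1 ⊗ₜ[R] a)).map ψ).isAlgebraic
  have hD : ∀ d : D, algebraMap D K d ∈ E := fun d => by
    obtain ⟨q, hq, hqd⟩ := (Algebra.IsIntegral.isIntegral (R := S) d)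
    let σ : S →+* E := (algebraMap S K).codRestrict E.toSubfield.toSubring hS
    have hE : IsIntegral E (algebraMap D K d) := by
      refine ⟨q.map σ, hq.map σ, ?_⟩
      rw [Polynomial.eval₂_map, show (algebraMap E K).comp σ = algebraMap S K from rfl,
        IsScalarTower.algebraMap_eq S D K, ← Polynomial.hom_eval₂, hqd, map_zero]
    haveI : Algebra.IsIntegral p.ResidueField E := inferInstance
    rw [mem_algebraicClosure_iff]
    exact (isIntegral_trans (algebraMap D K d) hE).isAlgebraic
  have hk : k ∈ E := by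
    obtain ⟨a, b, hb, rfl⟩ := IsFractionRing.div_surjective (A := D) k
    exact div_mem (hD a) (hD b)
  -- clear denominators
  letI : Algebra (R ⧸ p) K := (Ideal.Quotient.lift p (algebraMap R K) fun a ha => ha).toAlgebra
  haveI : IsScalarTower R (R ⧸ p) K := IsScalarTower.of_algebraMap_eq fun r => rfl
  haveI : IsScalarTower (R ⧸ p) p.ResidueField K := IsScalarTower.of_algebraMap_eq fun x => by
    obtain ⟨r, rfl⟩ := Ideal.Quotient.mk_surjective x
    rw [← Ideal.Quotient.algebraMap_eq, ← IsScalarTower.algebraMap_apply R (R ⧸ p) K,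
      ← IsScalarTower.algebraMap_apply R (R ⧸ p) p.ResidueField,
      ← IsScalarTower.algebraMap_apply R p.ResidueField K]
  obtain ⟨q, hq0, hqk⟩ := (IsFractionRing.isAlgebraic_iff (R ⧸ p) p.ResidueField K).2 (mem_algebraicClosure_iff.1 hk)
  obtain ⟨r, hr⟩ := Ideal.Quotient.mk_surjective q.leadingCoeff
  refine ⟨r, fun h0 => hq0 (Polynomial.leadingCoeff_eq_zero.1 ?_), ?_⟩
  · rw [← hr, Ideal.Quotient.eq_zero_iff_mem]; exact h0
  · have h2 : IsIntegral (R ⧸ p) (r • k) := by
      rw [← IsScalarTower.algebraMap_smul (R ⧸ p) r k, Ideal.Quotient.algebraMap_eq, hr]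
      exact isIntegral_leadingCoeff_smul q k hqk
    exact isIntegral_trans (r • k) h2

/-- Henselization preserves the Nagata property. -/
theorem isNagata_henselization [IsNoetherianRing R] [IsLocalHom (algebraMap R S)]
    [_root_.Hensel.IsHenselization R S] (hR : CAlg.IsNagata R) : CAlg.IsNagata S := by
  classical
  have h := isEtLike_of_isHenselization R S
  haveI := h.isNoetherianRing_of_base
  obtain ⟨e⟩ := nonempty_completion_equiv_of_residue h exists_residue_of_isHenselization
  refine Nagata.Criteria.isNagata_of_isReduced_tensor S fun D _ _ _ _ => ?_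
  let K := FractionRing D
  letI : Algebra R K := ((algebraMap S K).comp (algebraMap R S)).toAlgebra
  haveI : IsScalarTower R S K := IsScalarTower.of_algebraMap_eq fun _ => rfl
  haveI : Algebra.IsIntegral S D := Algebra.IsIntegral.of_finite S D
  haveI := isReduced_tensor_cpl_of_nagata hR K (h.exists_smul_isIntegral K D)
  haveI : IsReduced (K ⊗[R] EGA4.Cpl S) :=
    isReduced_of_injective (Algebra.TensorProduct.congr (AlgEquiv.refl (R := R) (A₁ := K)) e.symm)
      (AlgEquiv.injective _)
  suffices IsReduced (K ⊗[S] EGA4.Cpl S) from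
    isReduced_of_injective (Algebra.TensorProduct.map (IsScalarTower.toAlgHom S D K) (AlgHom.id S (EGA4.Cpl S)))
      (Module.Flat.rTensor_preserves_injective_linearMap (M := EGA4.Cpl S)
        (IsScalarTower.toAlgHom S D K).toLinearMap (IsFractionRing.injective D K))
  exact isReduced_tensor_of_absFlat R S K (EGA4.Cpl S) (h.exists_mul_mul_eq K)

/-- Over a Nagata local ring, completions of reduced finite algebras are reduced. -/
theorem isReduced_tensor_cpl_of_finite_reduced {S : Type u} [CommRing S] [IsLocalRing S] [IsNoetherianRing S]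
    (hS : CAlg.IsNagata S) (C : Type u) [CommRing C] [Algebra S C] [Module.Finite S C] [IsReduced C] :
    IsReduced (C ⊗[S] EGA4.Cpl S) := by
  classical
  haveI : IsNoetherianRing C := IsNoetherianRing.of_finite S C
  haveI : Finite (minimalPrimes C) := (minimalPrimes.finite_of_isNoetherianRing C).to_subtype
  haveI : Fintype (minimalPrimes C) := Fintype.ofFinite _
  haveI : ∀ P : minimalPrimes C, P.1.IsPrime := fun P => P.2.1.1
  let f : C →ₗ[S] (∀ P : minimalPrimes C, C ⧸ P.1) :=
    LinearMap.pi fun P => (Ideal.Quotient.mkₐ S P.1).toLinearMap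
  have hf : Function.Injective f := by
    refine (injective_iff_map_eq_zero f).2 fun x hx => ?_
    have : x ∈ nilradical C := by
      rw [nilradical, ← Ideal.sInf_minimalPrimes, Submodule.mem_sInf]
      intro p hp
      exact Ideal.Quotient.eq_zero_iff_mem.1 (congrFun hx ⟨p, hp⟩)
    exact (mem_nilradical.1 this).eq_zero
  refine ⟨fun x hx => ?_⟩
  apply Module.Flat.rTensor_preserves_injective_linearMap (M := EGA4.Cpl S) f hf
  rw [map_zero]
  apply (TensorProduct.piLeft S (EGA4.Cpl S) (fun P : minimalPrimes C => C ⧸ P.1)).injective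
  rw [map_zero]
  funext P
  let g : C ⊗[S] EGA4.Cpl S →ₐ[S] (C ⧸ P.1) ⊗[S] EGA4.Cpl S :=
    Algebra.TensorProduct.map (Ideal.Quotient.mkₐ S P.1) (AlgHom.id S (EGA4.Cpl S))
  have key : ∀ y : C ⊗[S] EGA4.Cpl S,
      TensorProduct.piLeft S (EGA4.Cpl S) (fun P : minimalPrimes C => C ⧸ P.1) (f.rTensor (EGA4.Cpl S) y) P = g y := by
    intro y
    induction y using TensorProduct.induction_on with
    | zero => simp
    | tmul t c => simp [f, g]
    | add y z hy hz => simp only [map_add, Pi.add_apply, hy, hz]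
  haveI := Nagata.isReduced_tensor_completion hS (C ⧸ P.1)
  rw [key x]
  exact (hx.map g).eq_zero

/-- The Nagata property descends from the henselization. -/
theorem isNagata_of_henselization [IsNoetherianRing R] [IsLocalHom (algebraMap R S)]
    [_root_.Hensel.IsHenselization R S] (hS : CAlg.IsNagata S) : CAlg.IsNagata R := by
  have h := isEtLike_of_isHenselization R S
  haveI := h.isNoetherianRing_of_base
  haveI := h.flat
  obtain ⟨e⟩ := nonempty_completion_equiv_of_residue h exists_residue_of_isHenselization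
  refine Nagata.Criteria.isNagata_of_isReduced_tensor R fun D _ _ _ _ => ?_
  let K := FractionRing D
  haveI : IsReduced (D ⊗[R] S) := by
    haveI : IsReduced (K ⊗[R] S) := ⟨fun x hx => by
      obtain ⟨y, hy⟩ := h.exists_mul_mul_eq K x
      obtain ⟨n, hn⟩ := hx
      have : ∀ m, x = x ^ (m + 1) * y ^ m := fun m => by
        induction m with
        | zero => rw [pow_one, pow_zero, mul_one]
        | succ m ih =>
          calc x = x * x * y := hy.symm
            _ = x ^ (m + 1) * y ^ m * x * y := by rw [← ih]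
            _ = x ^ (m + 1 + 1) * y ^ (m + 1) := by ring
      rw [this n, pow_succ, hn, zero_mul, zero_mul]⟩
    exact isReduced_of_injective (Algebra.TensorProduct.map (IsScalarTower.toAlgHom R D K) (AlgHom.id R S))
      (Module.Flat.rTensor_preserves_injective_linearMap (M := S)
        (IsScalarTower.toAlgHom R D K).toLinearMap (IsFractionRing.injective D K))
  haveI : IsReduced (S ⊗[R] D) :=
    isReduced_of_injective (Algebra.TensorProduct.comm R S D) (AlgEquiv.injective _)
  haveI := isReduced_tensor_cpl_of_finite_reduced hS (S ⊗[R] D)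
  haveI : IsReduced (EGA4.Cpl S ⊗[S] (S ⊗[R] D)) :=
    isReduced_of_injective (Algebra.TensorProduct.comm S (EGA4.Cpl S) (S ⊗[R] D)) (AlgEquiv.injective _)
  haveI : IsReduced (EGA4.Cpl S ⊗[R] D) :=
    isReduced_of_injective (Algebra.TensorProduct.cancelBaseChange R S S (EGA4.Cpl S) D).symm (AlgEquiv.injective _)
  exact isReduced_of_injective
    ((Algebra.TensorProduct.congr (AlgEquiv.refl (R := R) (A₁ := D)) e).trans
      (Algebra.TensorProduct.comm R D (EGA4.Cpl S)))
    (AlgEquiv.injective _)

end Groth.Agent.Hensel
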