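import Groth.Agent.EtaleSite.SplitAlg
import Groth.Agent.Hensel.Local
import Groth.Prelude.Def_Hensel
import Mathlib.FieldTheory.IsSepClosed
import Mathlib.FieldTheory.PurelyInseparable.Basic
import Mathlib.FieldTheory.PurelyInseparable.Tower

/-!
Strict henselizations of finite local algebras.
-/

set_option autoImplicit false
universe u v

open IsLocalRing TensorProduct

namespace Groth.Agent.Hensel

/-- An algebraic extension of a separably closed field is separably closed. -/
theorem isSepClosed_of_isAlgebraic (F E : Type u) [Field F] [Field E] [Algebra F E] [IsSepClosed F]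
    [Algebra.IsAlgebraic F E] : IsSepClosed E := by
  let Ω := AlgebraicClosure E
  haveI : Algebra.IsAlgebraic F Ω := Algebra.IsAlgebraic.trans F E Ω
  have h1 : separableClosure F Ω = ⊥ := IntermediateField.eq_bot_of_isSepClosed_of_isSeparable _
  haveI : IsPurelyInseparable F Ω := separableClosure.eq_bot_iff.1 h1
  haveI : IsPurelyInseparable E Ω := IsPurelyInseparable.tower_top F E Ω
  exact (IsSepClosed.separableClosure_eq_bot_iff (F := E) (E := Ω)).1 (separableClosure.eq_bot_of_isPurelyInseparable E Ω)

/-- Local rings at maximal ideals of a finite algebra over a henselian local ring. -/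
theorem localization_maximal_finite {S : Type u} [CommRing S] [HenselianLocalRing S] (X : Type u) [CommRing X]
    [Algebra S X] [Module.Finite S X] (q : Ideal X) [q.IsMaximal] :
    HenselianLocalRing (Localization.AtPrime q) ∧ Module.Finite S (Localization.AtPrime q) ∧
      Function.Surjective (algebraMap X (Localization.AtPrime q)) := by
  obtain ⟨n, e, he, hloc⟩ := exists_pi_local (R := S) X
  obtain ⟨i, hi⟩ : ∃ i, e i ∉ q := by
    by_contra! hall
    exact (Ideal.IsPrime.ne_top' (I := q)) ((Ideal.eq_top_iff_one _).2 (he.complete ▸ sum_mem fun i _ => hall i))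
  let I : Ideal X := Ideal.span {1 - e i}
  let Y := X ⧸ I
  haveI : IsLocalRing Y := hloc i
  have hIq : I ≤ q := by
    rw [Ideal.span_le, Set.singleton_subset_iff]
    refine ((inferInstance : q.IsPrime).mem_or_mem (x := e i) ?_).resolve_left hi
    rw [mul_sub, mul_one, (he.idem i).eq, sub_self]
    exact zero_mem _
  have hm : q.map (Ideal.Quotient.mk I) = maximalIdeal Y :=
    IsLocalRing.eq_maximalIdeal (Ideal.IsMaximal.map_of_surjective_of_ker_le Ideal.Quotient.mk_surjective
      (by rwa [Ideal.mk_ker]))
  haveI : IsLocalization.AtPrime Y q := by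
    refine ⟨⟨?_, ?_, ?_⟩⟩
    · intro y
      by_contra hu
      have h1 : Ideal.Quotient.mk I (y : X) ∈ q.map (Ideal.Quotient.mk I) := hm ▸ hu
      exact y.2 ((Ideal.mem_quotient_iff_mem hIq).1 h1)
    · intro z
      obtain ⟨x, rfl⟩ := Ideal.Quotient.mk_surjective z
      refine ⟨⟨x, 1⟩, ?_⟩
      show Ideal.Quotient.mk I x * algebraMap X Y 1 = algebraMap X Y x
      rw [map_one, mul_one]
      rfl
    · intro a b hab
      obtain ⟨c, hc⟩ := Ideal.mem_span_singleton'.1 (Ideal.Quotient.eq.1 hab)
      refine ⟨⟨e i, hi⟩, ?_⟩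
      show e i * a = e i * b
      linear_combination -(e i) * hc - c * (he.idem i).eq
  let φ : Y ≃ₐ[X] Localization.AtPrime q := IsLocalization.algEquiv q.primeCompl _ _
  let φS := φ.restrictScalars S
  haveI hfin : Module.Finite S (Localization.AtPrime q) := Module.Finite.equiv φS.toLinearEquiv
  refine ⟨EtaleSite.henselianLocalRing_of_finite (R := S), hfin, fun z => ?_⟩
  obtain ⟨x, hx⟩ := Ideal.Quotient.mk_surjective (φ.symm z)
  exact ⟨x, by rw [← φ.commutes x]; exact (congrArg φ hx).trans (φ.apply_symm_apply z)⟩

end Groth.Agent.Hensel
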