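import Groth.Agent.Hensel.EtLike
import Groth.Agent.Hensel.EssEt
import Groth.Agent.RedNorm.Basic
import Mathlib.RingTheory.QuasiFinite.Basic
import Mathlib.RingTheory.Unramified.LocalStructure
import Mathlib.RingTheory.LocalProperties.Reduced

/-!
Essentially étale local subalgebras of an ind-étale local extension.
-/

set_option autoImplicit false
universe u

open IsLocalRing TensorProduct

namespace Groth.Agent.Hensel

variable {A S : Type u} [CommRing A] [IsLocalRing A] [CommRing S] [IsLocalRing S] [Algebra A S]

/-- A subalgebra which is a local essentially étale algebra dominated by the ambient local ring. -/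
structure IsEssSub (E : Subalgebra A S) : Prop where
  isLocalRing : IsLocalRing E
  isLocalHom : IsLocalHom (algebraMap E S)
  essEtale : EGA4loc.IsEssentiallyEtale A E

namespace IsEtLike

variable (h : IsEtLike A S)
include h

/-- An element of an étale stage whose image lies in an extended ideal lies there up to a unit. -/
theorem exists_mul_mem_of_map_mem {C : Type u} [CommRing C] [Algebra A C] [Algebra.Etale A C]
    (θ : C →ₐ[A] S) {I : Ideal A} {x : C} (hx : θ x ∈ I.map (algebraMap A S)) :
    ∃ v : C, IsUnit (θ v) ∧ v * x ∈ I.map (algebraMap A C) := by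
  haveI := h.flat
  let q : Ideal C := (maximalIdeal S).comap θ.toRingHom
  letI := θ.toRingHom.toAlgebra
  haveI : IsScalarTower A C S := .of_algebraMap_eq' θ.comp_algebraMap.symm
  haveI : Module.Flat C S := Algebra.FormallyUnramified.flat_of_restrictScalars A C S
  have hu : ∀ y : q.primeCompl, IsUnit (algebraMap C S y) := fun y => not_not.1 fun hne => y.2 hne
  let L := Localization.AtPrime q
  letI : Algebra L S := (IsLocalization.lift (S := L) hu).toAlgebra
  haveI : IsScalarTower C L S := .of_algebraMap_eq fun x => (IsLocalization.lift_eq hu x).symm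
  haveI : Module.Flat L S := (Module.flat_iff_of_isLocalization L q.primeCompl _).2 inferInstance
  haveI : IsLocalHom (algebraMap L S) := by
    constructor
    intro z hz
    obtain ⟨x, s, rfl⟩ := IsLocalization.exists_mk'_eq q.primeCompl z
    rw [IsLocalization.AtPrime.isUnit_mk'_iff]
    intro hx
    have h1 := hz.mul (hu s)
    rw [IsScalarTower.algebraMap_apply C L S, ← map_mul,
      IsLocalization.mk'_spec, ← IsScalarTower.algebraMap_apply] at h1
    exact (IsLocalRing.mem_maximalIdeal _).1 hx h1
  haveI : Module.FaithfullyFlat L S := Module.FaithfullyFlat.of_flat_of_isLocalHom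
  have h0 : algebraMap C L x ∈ (I.map (algebraMap A C)).map (algebraMap C L) := by
    rw [← Ideal.comap_map_eq_self_of_faithfullyFlat (B := S) ((I.map (algebraMap A C)).map (algebraMap C L)),
      Ideal.mem_comap, ← IsScalarTower.algebraMap_apply, Ideal.map_map, Ideal.map_map,
      ← IsScalarTower.algebraMap_eq, ← IsScalarTower.algebraMap_eq]
    exact hx
  obtain ⟨v, hv, hvx⟩ := (IsLocalization.algebraMap_mem_map_algebraMap_iff q.primeCompl _ _ _).1 h0
  exact ⟨v, hu ⟨v, hv⟩, hvx⟩

/-- Every étale stage generates an essentially étale subalgebra. -/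
theorem exists_essSub_of_algHom {C : Type u} [CommRing C] [Algebra A C] [Algebra.Etale A C]
    (θ : C →ₐ[A] S) :
    ∃ E : Subalgebra A S, IsEssSub E ∧ θ.range ≤ E ∧
      ∀ x ∈ E, ∃ c u : C, IsUnit (θ u) ∧ x * θ u = θ c := by
  let q : Ideal C := (maximalIdeal S).comap θ.toRingHom
  have hu : ∀ y : q.primeCompl, IsUnit (θ y) := fun y => not_not.1 fun hne => y.2 hne
  let L := Localization.AtPrime q
  let ψ₀ : L →+* S := IsLocalization.lift (g := θ.toRingHom) hu
  let ψ : L →ₐ[A] S :=
    { toRingHom := ψ₀
      commutes' := fun a => by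
        show ψ₀ (algebraMap A L a) = _
        rw [IsScalarTower.algebraMap_apply A C L]
        exact (IsLocalization.lift_eq hu _).trans (θ.commutes a) }
  have hψ : ∀ c, ψ (algebraMap C L c) = θ c := fun c => IsLocalization.lift_eq hu c
  have hψloc : ∀ z, IsUnit (ψ z) → IsUnit z := fun z hz => by
    obtain ⟨c, s, rfl⟩ := IsLocalization.exists_mk'_eq q.primeCompl z
    rw [IsLocalization.AtPrime.isUnit_mk'_iff]
    intro hc
    have h1 := hz.mul (hu s)
    rw [← hψ, ← map_mul, IsLocalization.mk'_spec, hψ] at h1
    exact (IsLocalRing.mem_maximalIdeal _).1 hc h1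
  have hinj : Function.Injective ψ := (injective_iff_map_eq_zero ψ).2 fun z hz => by
    obtain ⟨c, s, rfl⟩ := IsLocalization.exists_mk'_eq q.primeCompl z
    have hc : θ c = 0 := by rw [← hψ, ← IsLocalization.mk'_spec L c s, map_mul, hz, zero_mul]
    obtain ⟨v, hv, hvc⟩ := h.exists_mul_eq_zero θ hc
    rw [IsLocalization.mk'_eq_zero_iff]
    exact ⟨⟨v, fun hvq => (IsLocalRing.mem_maximalIdeal _).1 hvq hv⟩, hvc⟩
  let e : L ≃ₐ[A] ψ.range := AlgEquiv.ofInjective ψ hinj
  haveI : IsLocalRing ψ.range := e.toRingEquiv.isLocalRing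
  have hq : q.comap (algebraMap A C) = maximalIdeal A := by
    rw [Ideal.comap_comap]
    show (maximalIdeal S).comap (θ.toRingHom.comp (algebraMap A C)) = _
    rw [show θ.toRingHom.comp (algebraMap A C) = algebraMap A S from θ.comp_algebraMap]
    exact ((IsLocalRing.local_hom_TFAE (algebraMap A S)).out 0 4).1 h.isLocalHom
  refine ⟨ψ.range, ⟨inferInstance, ⟨fun x hx => ?_⟩, ⟨C, inferInstance, inferInstance, q, inferInstance,
    inferInstance, hq, ⟨e.symm⟩⟩⟩, ?_, ?_⟩
  · obtain ⟨z, rfl⟩ := e.surjective x
    exact (hψloc z hx).map e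
  · rintro _ ⟨c, rfl⟩
    exact ⟨algebraMap C L c, hψ c⟩
  · rintro _ ⟨z, rfl⟩
    obtain ⟨c, s, rfl⟩ := IsLocalization.exists_mk'_eq q.primeCompl z
    exact ⟨c, s, hu s, by
      show ψ _ * θ (s : C) = θ c
      rw [← hψ, ← map_mul, IsLocalization.mk'_spec, hψ]⟩

theorem exists_essSub (s : Finset S) : ∃ E : Subalgebra A S, IsEssSub E ∧ (s : Set S) ⊆ E := by
  obtain ⟨C, _, _, hC, θ, hθ⟩ := h.stage s
  obtain ⟨E, hE, hle, -⟩ := h.exists_essSub_of_algHom θ
  exact ⟨E, hE, fun x hx => hle (hθ x hx)⟩

theorem flat_of_isEssSub {E : Subalgebra A S} (hE : IsEssSub E) : Module.FaithfullyFlat E S := by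
  haveI := hE.isLocalRing
  haveI := hE.isLocalHom
  haveI := h.flat
  haveI := formallyEtale_of_isEssentiallyEtale hE.essEtale
  haveI := essFiniteType_of_isEssentiallyEtale hE.essEtale
  haveI : Module.Flat E S := Algebra.FormallyUnramified.flat_of_restrictScalars A E S
  exact Module.FaithfullyFlat.of_flat_of_isLocalHom

theorem mem_of_mul_mem {E : Subalgebra A S} (hE : IsEssSub E) {b x : S} (hb : b ∈ E)
    (hbreg : b ∈ nonZeroDivisors S) (hbx : b * x ∈ E) : x ∈ E := by
  haveI := h.flat_of_isEssSub hE
  have h1 : (⟨b * x, hbx⟩ : E) ∈ ((Ideal.span {(⟨b, hb⟩ : E)}).map (algebraMap E S)).comap (algebraMap E S) := by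
    rw [Ideal.mem_comap, Ideal.map_span, Set.image_singleton]
    exact Ideal.mem_span_singleton.2 ⟨x, rfl⟩
  rw [Ideal.comap_map_eq_self_of_faithfullyFlat] at h1
  obtain ⟨⟨c, hc⟩, hce⟩ := Ideal.mem_span_singleton.1 h1
  have : b * x = b * c := congrArg Subtype.val hce
  rwa [(mul_cancel_left_mem_nonZeroDivisors hbreg).1 this]

theorem algebraMap_mem_nonZeroDivisors {a : A} (ha : a ∈ nonZeroDivisors A) :
    algebraMap A S a ∈ nonZeroDivisors S := by
  haveI := h.flat
  rw [mem_nonZeroDivisors_iff_right]
  intro x hx
  have hinj : Function.Injective (LinearMap.lTensor S (LinearMap.lsmul A A a)) :=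
    Module.Flat.lTensor_preserves_injective_linearMap _ fun y z hyz =>
      (mul_cancel_left_mem_nonZeroDivisors ha).1 hyz
  have := @hinj (x ⊗ₜ 1) 0 (by
    rw [map_zero, LinearMap.lTensor_tmul, LinearMap.lsmul_apply, smul_eq_mul, mul_one]
    have h2 : TensorProduct.rid A S (x ⊗ₜ a) = 0 := by
      rw [TensorProduct.rid_tmul, Algebra.smul_def, mul_comm, hx]
    exact (TensorProduct.rid A S).map_eq_zero_iff.1 h2)
  simpa using congrArg (TensorProduct.rid A S) this

theorem subalgebraMap_mem_nonZeroDivisors (D : Subalgebra A S) {a : A} (ha : a ∈ nonZeroDivisors A) :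
    algebraMap A D a ∈ nonZeroDivisors D := by
  rw [mem_nonZeroDivisors_iff_right]
  intro x hx
  exact Subtype.ext ((mem_nonZeroDivisors_iff_right.1 (h.algebraMap_mem_nonZeroDivisors ha)) _
    (congrArg Subtype.val hx))

end IsEtLike

/-- An essentially étale local algebra looks like a henselization. -/
theorem isEtLike_of_isEssentiallyEtale {A E : Type u} [CommRing A] [IsLocalRing A] [CommRing E]
    [IsLocalRing E] [Algebra A E] (hE : EGA4loc.IsEssentiallyEtale A E) : IsEtLike A E := by
  classical
  have hmm := map_maximalIdeal_of_isEssentiallyEtale hE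
  obtain ⟨C, _, _, q, _, hC, -, ⟨e⟩⟩ := hE
  haveI : Algebra.Etale A C := hC
  haveI : Module.Flat A C := inferInstance
  haveI : Module.Flat C (Localization.AtPrime q) := IsLocalization.flat _ q.primeCompl
  haveI : Module.Flat A (Localization.AtPrime q) := Module.Flat.trans A C _
  refine ⟨Module.Flat.of_linearEquiv e.toLinearEquiv, hmm, fun s => ?_⟩
  obtain ⟨⟨b, hb⟩, hint⟩ := IsLocalization.exist_integer_multiples_of_finset q.primeCompl (s.image e)
  haveI : Algebra.FinitePresentation A (Localization.Away b) :=
    Algebra.FinitePresentation.trans A C (Localization.Away b)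
  haveI : Algebra.Etale C (Localization.Away b) := Algebra.Etale.of_isLocalizationAway b
  haveI : Algebra.Etale A (Localization.Away b) := Algebra.Etale.comp A C _
  have hbu : IsUnit (algebraMap C (Localization.AtPrime q) b) := IsLocalization.map_units _ ⟨b, hb⟩
  let f : Localization.Away b →+* Localization.AtPrime q := IsLocalization.Away.lift b hbu
  let f' : Localization.Away b →ₐ[A] Localization.AtPrime q :=
    { toRingHom := f
      commutes' := fun a => by
        show f (algebraMap A _ a) = _
        rw [IsScalarTower.algebraMap_apply A C (Localization.Away b), IsLocalization.Away.lift_eq,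
          ← IsScalarTower.algebraMap_apply] }
  refine ⟨Localization.Away b, inferInstance, inferInstance, inferInstance, e.symm.toAlgHom.comp f',
    fun z hz => ?_⟩
  obtain ⟨c, hc⟩ := hint (e z) (Finset.mem_image_of_mem _ hz)
  refine ⟨IsLocalization.Away.invSelf (S := Localization.Away b) b * algebraMap C (Localization.Away b) c, ?_⟩
  show e.symm (f (IsLocalization.Away.invSelf (S := Localization.Away b) b * algebraMap C (Localization.Away b) c)) = z
  rw [AlgEquiv.symm_apply_eq]
  apply hbu.mul_left_cancel
  rw [← IsLocalization.Away.lift_eq (S := Localization.Away b) b hbu b, ← map_mul, ← mul_assoc, IsLocalization.Away.mul_invSelf,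
    one_mul, IsLocalization.Away.lift_eq]
  rw [hc, Algebra.smul_def, IsLocalization.Away.lift_eq]

section Artinian

variable [IsReduced A] (h : IsEtLike A S)

omit [IsLocalRing A] in
theorem isArtinianRing_fractionRing (hmin : (minimalPrimes A).Finite) : IsArtinianRing (FractionRing A) := by
  haveI : Finite ↥(minimalPrimes A) := hmin.to_subtype
  cases nonempty_fintype ↥(minimalPrimes A)
  exact (RedNorm.piEquiv A).symm.toRingEquiv.isArtinianRing

omit [IsReduced A] in
/-- The generic fibre of an essentially étale algebra is finite over the total ring of fractions. -/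
theorem finite_genericFibre [IsArtinianRing (FractionRing A)] {E : Type u} [CommRing E] [Algebra A E]
    (hE : EGA4loc.IsEssentiallyEtale A E) :
    Module.Finite (FractionRing A) (FractionRing A ⊗[A] E) := by
  obtain ⟨C, _, _, q, _, hC, -, ⟨e⟩⟩ := hE
  haveI : Algebra.Etale A C := hC
  haveI : Algebra.QuasiFinite A E := (Algebra.QuasiFinite.iff_of_algEquiv e).2 inferInstance
  exact Module.Finite.of_quasiFinite

end Artinian

end Groth.Agent.Hensel
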