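import Groth.Agent.Hensel.Pair
import Mathlib.RingTheory.ZariskisMainTheorem
import Mathlib.RingTheory.Etale.Basic
import Mathlib.RingTheory.Etale.Kaehler
import Mathlib.RingTheory.Etale.StandardEtale
import Mathlib.RingTheory.Smooth.Flat
import Mathlib.RingTheory.Unramified.LocalStructure

/-!
Etale algebras over henselian pairs: finite parts, lifting of points.
-/

namespace Groth.Agent.Hensel

open Polynomial

universe u v

variable {A : Type*} [CommRing A] {I : Ideal A}

/-- Over a henselian pair, an algebra of finite type, quasi-finite at all primes over `I` and finite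
modulo `I`, splits off a finite factor containing all of the reduction. -/
theorem exists_isIdempotentElem_finite [HenselianRing A I] (S : Type*) [CommRing S] [Algebra A S]
    [Algebra.FiniteType A S] [Module.Finite A (S ⧸ I.map (algebraMap A S))]
    (hqf : ∀ (Q : Ideal S) [Q.IsPrime], I.map (algebraMap A S) ≤ Q → Algebra.QuasiFiniteAt A Q) :
    ∃ E : S, IsIdempotentElem E ∧ E - 1 ∈ I.map (algebraMap A S) ∧
      Module.Finite A (S ⧸ Ideal.span {1 - E}) := by
  classical
  set C := integralClosure A S with hC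
  let IC := I.map (algebraMap A C)
  let IS := I.map (algebraMap A S)
  let π : C →ₐ[A] S ⧸ IS := (Ideal.Quotient.mkₐ A IS).comp C.val
  set K := RingHom.ker π.toRingHom with hKdef
  let G : Set C := {g | ∀ x : S, ∃ m, IsIntegral A ((g : S) ^ m * x)}
  have hIC : IC ≤ Ideal.jacobson ⊥ := map_le_jacobson_bot_of_isIntegral HenselianRing.jac
  have hIle : IC ≤ K := Ideal.map_le_iff_le_comap.2 fun a ha ↦ by
    rw [Ideal.mem_comap, hKdef, RingHom.mem_ker, AlgHom.toRingHom_eq_coe, RingHom.coe_coe,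
      AlgHom.commutes, IsScalarTower.algebraMap_apply A S, Ideal.Quotient.algebraMap_eq,
      Ideal.Quotient.eq_zero_iff_mem]
    exact Ideal.mem_map_of_mem _ ha
  have hL0 : Ideal.span G ⊔ K = ⊤ := by
    by_contra hne
    obtain ⟨M, hM, hle⟩ := Ideal.exists_le_maximal _ hne
    letI := π.toRingHom.toAlgebra
    haveI : IsScalarTower A C (S ⧸ IS) := .of_algebraMap_eq fun a ↦ (π.commutes a).symm
    haveI : Algebra.IsIntegral C (S ⧸ IS) := Algebra.IsIntegral.tower_top (R := A)
    obtain ⟨Q, hQ, hQM⟩ := Ideal.exists_ideal_over_maximal_of_isIntegral (S := S ⧸ IS) M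
      (le_sup_right.trans hle)
    let Q' : Ideal S := Q.comap (Ideal.Quotient.mk IS)
    have hQ'le : IS ≤ Q' := fun x hx ↦ by
      rw [Ideal.mem_comap, Ideal.Quotient.eq_zero_iff_mem.2 hx]; exact zero_mem _
    haveI : Q.IsPrime := hQ.isPrime
    haveI := hqf Q' hQ'le
    obtain ⟨r, hr, hri, hrx⟩ := Algebra.zariskisMainProperty_iff.1
      (Algebra.ZariskisMainProperty.of_finiteType (R := A) Q')
    refine hr ?_
    have h1 : (⟨r, hri⟩ : C) ∈ M := hle (Ideal.mem_sup_left (Ideal.subset_span hrx))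
    rw [← hQM] at h1
    exact h1
  obtain ⟨u, hu, k, hk, huk⟩ := Submodule.mem_sup.1 ((Ideal.eq_top_iff_one _).1 hL0)
  have hGle : ∀ (J : Ideal C) (z : C → C), (∀ g ∈ G, ∃ n : ℕ, g ^ n ∈ J) → Ideal.span G ≤ J.radical :=
    fun J _ h ↦ Ideal.span_le.2 fun g hg ↦ h g hg
  have hKkill : ∀ x ∈ K, ∀ g ∈ G, ∃ n : ℕ, g ^ n * x ∈ IC := by
    intro x hx g hg
    have hx' : (x : S) ∈ Submodule.span S (algebraMap A S '' (I : Set A)) :=
      Ideal.Quotient.eq_zero_iff_mem.1 hx
    rw [Submodule.mem_span_set'] at hx'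
    obtain ⟨n, a, s, hs⟩ := hx'
    choose m hm using fun i ↦ hg (a i)
    refine ⟨∑ i, m i, ?_⟩
    have hdvd : ∀ i, ∃ c : C, (c : S) = (g : S) ^ (∑ i, m i) * a i := fun i ↦ by
      obtain ⟨d, hd⟩ := pow_dvd_pow g (Finset.single_le_sum (fun _ _ ↦ Nat.zero_le _) (Finset.mem_univ i) : m i ≤ ∑ i, m i)
      refine ⟨d * ⟨_, hm i⟩, ?_⟩
      have hd' := congr(($hd : S))
      simp only [MulMemClass.coe_mul, SubmonoidClass.coe_pow] at hd' ⊢
      rw [hd']; ring
    choose c hc using hdvd
    choose b hb hbs using fun i ↦ (s i).2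
    have : g ^ (∑ i, m i) * x = ∑ i, c i * algebraMap A C (b i) := by
      apply Subtype.ext
      push_cast
      rw [← hs, Finset.mul_sum]
      refine Finset.sum_congr rfl fun i _ ↦ ?_
      rw [hc, ← hbs, smul_eq_mul]; ring
    rw [this]
    exact Ideal.sum_mem _ fun i _ ↦ Ideal.mul_mem_left _ _ (Ideal.mem_map_of_mem _ (hb i))
  obtain ⟨N, hN⟩ : ∃ N : ℕ, u ^ N * k ∈ IC := by
    have h : Ideal.span G ≤ (IC.colon {k}).radical := hGle _ id fun g hg ↦ by
      obtain ⟨n, hn⟩ := hKkill k hk g hg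
      exact ⟨n, Submodule.mem_colon_singleton.2 hn⟩
    obtain ⟨N, hN⟩ := h hu
    exact ⟨N, Submodule.mem_colon_singleton.1 hN⟩
  obtain ⟨p, hp⟩ : k ∣ 1 - (1 - k) ^ N := by
    simpa using sub_dvd_pow_sub_pow 1 (1 - k) N
  have hke : k - k * (k * p) ∈ IC := by
    rw [← hp, mul_sub, mul_one, sub_sub_cancel]
    rwa [show u = 1 - k by linear_combination huk, mul_comm] at hN
  have he : (1 - k * p) * (1 - k * p) - (1 - k * p) ∈ IC := by
    convert! IC.mul_mem_left (-p) hke using 1; ring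
  obtain ⟨E, hE, hEe⟩ := exists_isIdempotentElem_lift' (I := I) he
  refine ⟨E, hE.map C.val, ?_, ?_⟩
  · have h1 : E - 1 ∈ K := by
      have := add_mem (hIle hEe) (K.neg_mem (K.mul_mem_right p hk))
      convert! this using 1; ring
    exact Ideal.Quotient.eq.1 ((sub_eq_zero.1 ((map_sub π E 1).symm.trans h1)).trans
      (map_one π) : Ideal.Quotient.mk IS (E : S) = Ideal.Quotient.mk IS 1)
  · have hint : ∀ y : S, IsIntegral A ((E : S) * y) := by
      intro y
      let L : Ideal C :=
        { carrier := {c | IsIntegral A ((c : S) * ((E : S) * y))}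
          add_mem' := fun {a b} ha hb ↦ by
            change IsIntegral A _; rw [AddMemClass.coe_add, add_mul]; exact ha.add hb
          zero_mem' := by
            change IsIntegral A _; rw [ZeroMemClass.coe_zero, zero_mul]; exact isIntegral_zero
          smul_mem' := fun a b hb ↦ by
            change IsIntegral A _
            rw [smul_eq_mul, MulMemClass.coe_mul, mul_assoc]; exact IsIntegral.mul a.2 hb }
      have h1 : Ideal.span G ≤ L.radical := hGle _ id fun g hg ↦ by
        obtain ⟨m, hm⟩ := hg ((E : S) * y)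
        refine ⟨m, ?_⟩
        change IsIntegral A _
        rwa [SubmonoidClass.coe_pow]
      have h2 : 1 - E ∈ L := by
        change IsIntegral A _
        rw [← mul_assoc, ← MulMemClass.coe_mul, sub_mul, one_mul, hE.eq, sub_self,
          ZeroMemClass.coe_zero, zero_mul]
        exact isIntegral_zero
      have htop : L.radical = ⊤ := by
        by_contra hne
        obtain ⟨M, hM, hle⟩ := Ideal.exists_le_maximal _ hne
        refine hM.ne_top ((Ideal.eq_top_iff_one M).2 ?_)
        have hICM : IC ≤ M := hIC.trans (sInf_le ⟨bot_le, hM⟩)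
        have hkp : k * p ∈ M := by
          have := add_mem (hle (Ideal.le_radical h2)) (hICM hEe)
          convert! this using 1; ring
        have hkM : k ∈ M := by
          have := add_mem (hICM hke) (M.mul_mem_left k hkp)
          convert! this using 1; ring
        rw [← huk]
        exact add_mem (hle (h1 hu)) hkM
      obtain ⟨n, hn⟩ := htop.ge (Submodule.mem_top (x := (1 : C)))
      change IsIntegral A _ at hn
      rwa [one_pow, OneMemClass.coe_one, one_mul] at hn
    have : Algebra.IsIntegral A (S ⧸ Ideal.span {1 - (E : S)}) := ⟨fun z ↦ by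
      obtain ⟨y, rfl⟩ := Ideal.Quotient.mk_surjective z
      have : Ideal.Quotient.mk (Ideal.span {1 - (E : S)}) y =
          Ideal.Quotient.mk _ ((E : S) * y) := by
        rw [Ideal.Quotient.eq]
        exact Ideal.mem_span_singleton.2 ⟨y, by ring⟩
      rw [this]
      exact (hint y).map (Ideal.Quotient.mkₐ A (Ideal.span {1 - (E : S)}))⟩
    exact Algebra.IsIntegral.finite

/-- The quotient by `1 - e` for an idempotent `e` is etale. -/
lemma etale_quotient_of_isIdempotentElem {S : Type*} [CommRing S] [Algebra A S] [Algebra.Etale A S]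
    {E : S} (hE : IsIdempotentElem E) : Algebra.Etale A (S ⧸ Ideal.span {1 - E}) := by
  have : IsLocalization.Away E (S ⧸ Ideal.span {1 - E}) :=
    IsLocalization.away_of_isIdempotentElem hE (by rw [Ideal.Quotient.algebraMap_eq, Ideal.mk_ker])
      Ideal.Quotient.mk_surjective
  have : Algebra.Etale S (S ⧸ Ideal.span {1 - E}) := Algebra.Etale.of_isLocalizationAway E
  exact Algebra.Etale.comp A S _

/-- A flat algebra with a point modulo an ideal in the radical has injective structure map. -/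
lemma eq_zero_of_algebraMap_eq_zero {T : Type*} [CommRing T] [Algebra A T] [Module.Flat A T]
    (hI : I ≤ Ideal.jacobson ⊥) (σ : T →ₐ[A] A ⧸ I) {c : A} (hc : algebraMap A T c = 0) :
    c = 0 := by
  have h0 : ∑ i : Fin 1, (fun _ ↦ c) i • (fun _ ↦ (1 : T)) i = 0 := by
    simp [Algebra.smul_def, hc]
  obtain ⟨κ, b, y, hy, hb⟩ := Module.Flat.isTrivialRelation_of_sum_smul_eq_zero h0
  choose w hw using fun j ↦ Ideal.Quotient.mk_surjective (I := I) (σ (y j))
  have h1 : IsUnit (∑ j, b 0 j * w j) := by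
    refine isUnit_of_mk hI ?_
    have := congr(σ $(hy 0))
    rw [map_one, map_sum] at this
    simp only [Algebra.smul_def, map_mul, AlgHom.commutes, Ideal.Quotient.algebraMap_eq] at this
    simp only [map_sum, map_mul, hw, ← this, isUnit_one]
  have h2 : c * (∑ j, b 0 j * w j) = 0 := by
    simp only [Finset.mul_sum, ← mul_assoc]
    refine Finset.sum_eq_zero fun j _ ↦ ?_
    have := hb j
    simp at this
    simp [this]
  exact h1.mul_left_eq_zero.1 h2

/-- Points of etale algebras lift along henselian pairs. -/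
theorem exists_algHom_lift [HenselianRing A I] (S : Type*) [CommRing S] [Algebra A S]
    [Algebra.Etale A S] (σ : S →ₐ[A] A ⧸ I) :
    ∃ τ : S →ₐ[A] A, (Ideal.Quotient.mkₐ A I).comp τ = σ := by
  let IS := I.map (algebraMap A S)
  let ψ : A ⧸ I →ₐ[A] S ⧸ IS := Ideal.quotientMapₐ IS (Algebra.ofId A S) Ideal.le_comap_map
  let φ : TensorProduct A S S →ₐ[A] S ⧸ IS :=
    Algebra.TensorProduct.productMap (ψ.comp σ) (Ideal.Quotient.mkₐ A IS)
  obtain ⟨f, hf⟩ := Ideal.Quotient.mk_surjective (φ (Algebra.FormallyUnramified.elem A S))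
  have hfe : ∀ z, Ideal.Quotient.mk IS (z * f) = ψ (σ z) * Ideal.Quotient.mk IS f := fun z ↦ by
    rw [map_mul, hf]
    simpa [φ] using congr(φ $(Algebra.FormallyUnramified.one_tmul_mul_elem (R := A) z))
  have hIS : IS ≤ RingHom.ker σ.toRingHom := Ideal.map_le_iff_le_comap.2 fun a ha ↦ by
    simp [Ideal.Quotient.eq_zero_iff_mem, ha]
  have hσf : σ f = 1 := by
    let σ' : S ⧸ IS →ₐ[A] A ⧸ I := Ideal.Quotient.liftₐ IS σ fun z hz ↦ hIS hz
    have hσψ : σ'.comp ψ = AlgHom.id A _ := Ideal.Quotient.algHom_ext A (by ext)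
    have h1 : σ'.comp φ = σ.comp (Algebra.TensorProduct.lmul' A) := by
      refine Algebra.TensorProduct.ext ?_ ?_
      · ext s; simpa [φ] using DFunLike.congr_fun hσψ (σ s)
      · ext s; simp [φ, σ']
    have h2 := DFunLike.congr_fun h1 (Algebra.FormallyUnramified.elem A S)
    rw [AlgHom.comp_apply, AlgHom.comp_apply, Algebra.FormallyUnramified.lmul_elem, map_one,
      ← hf] at h2
    exact h2
  let S₁ := Localization.Away f
  let σ₁ : S₁ →ₐ[A] A ⧸ I := IsLocalization.Away.liftAlgHom f (f := σ) (by rw [hσf]; exact isUnit_one)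
  have hσ₁ : ∀ x, σ₁ (algebraMap S S₁ x) = σ x := fun x ↦ IsLocalization.lift_eq _ x
  let IS₁ := I.map (algebraMap A S₁)
  have hmod : ∀ x : S, ∃ w : A, Ideal.Quotient.mk IS₁ (algebraMap S S₁ x) =
      Ideal.Quotient.mk IS₁ (algebraMap A S₁ w) := fun x ↦ by
    obtain ⟨w, hw⟩ := Ideal.Quotient.mk_surjective (σ x)
    have h1 : x * f - algebraMap A S w * f ∈ IS := Ideal.Quotient.eq.1 (by
      rw [hfe, ← hw, map_mul]
      rfl)
    have h2 := Ideal.mem_map_of_mem (algebraMap S S₁) h1
    rw [Ideal.map_map, ← IsScalarTower.algebraMap_eq, ← sub_mul, map_mul,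
      map_sub, ← IsScalarTower.algebraMap_apply] at h2
    exact ⟨w, Ideal.Quotient.eq.2 ((Ideal.unit_mul_mem_iff_mem _
      (IsLocalization.Away.algebraMap_isUnit (S := S₁) f)).1 (by rwa [mul_comm] at h2))⟩
  have hsurj : Function.Surjective (algebraMap A (S₁ ⧸ IS₁)) := by
    intro z
    obtain ⟨z, rfl⟩ := Ideal.Quotient.mk_surjective z
    obtain ⟨w, hw⟩ := Ideal.Quotient.mk_surjective (σ₁ z)
    obtain ⟨⟨x, ⟨_, n, rfl⟩⟩, hx⟩ := IsLocalization.surj (Submonoid.powers f) z
    obtain ⟨a, ha⟩ := hmod x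
    obtain ⟨b, hb⟩ := hmod (f ^ n)
    have hIS₁ : IS₁ ≤ RingHom.ker σ₁.toRingHom := Ideal.map_le_iff_le_comap.2 fun c hc ↦ by
      simp [Ideal.Quotient.eq_zero_iff_mem, hc]
    have hb1 : Ideal.Quotient.mk I b = 1 := by
      have h1 : σ₁ (algebraMap S S₁ (f ^ n) - algebraMap A S₁ b) = 0 := hIS₁ (Ideal.Quotient.eq.1 hb)
      rw [map_sub, hσ₁, map_pow, hσf, one_pow, AlgHom.commutes, sub_eq_zero] at h1
      exact h1.symm
    have hb2 : Ideal.Quotient.mk IS₁ (algebraMap A S₁ b) = 1 := by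
      rw [← map_one (Ideal.Quotient.mk IS₁), Ideal.Quotient.eq, ← map_one (algebraMap A S₁), ← map_sub]
      exact Ideal.mem_map_of_mem _ (Ideal.Quotient.eq.1 (hb1.trans (map_one _).symm))
    refine ⟨a, ?_⟩
    have := congr(Ideal.Quotient.mk IS₁ $hx)
    dsimp only at this
    rw [map_mul, hb, hb2, mul_one, ha] at this
    rw [this]; rfl
  haveI : Module.Finite A (S₁ ⧸ IS₁) :=
    Module.Finite.of_surjective (Algebra.linearMap A (S₁ ⧸ IS₁)) hsurj
  obtain ⟨E, hE, hE1, hfin⟩ := exists_isIdempotentElem_finite (I := I) S₁ fun Q _ _ ↦ inferInstance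
  let T := S₁ ⧸ Ideal.span {1 - E}
  haveI := etale_quotient_of_isIdempotentElem (A := A) hE
  let σT : T →ₐ[A] A ⧸ I := Ideal.Quotient.liftₐ _ σ₁ fun z hz ↦ by
    obtain ⟨t, rfl⟩ := Ideal.mem_span_singleton.1 hz
    have h1 : σ₁ (E - 1) = 0 := by
      have : IS₁ ≤ RingHom.ker σ₁.toRingHom := Ideal.map_le_iff_le_comap.2 fun c hc ↦ by
        simp [Ideal.Quotient.eq_zero_iff_mem, hc]
      exact this hE1
    rw [map_sub] at h1
    rw [map_mul, map_sub, ← neg_sub, h1, neg_zero, zero_mul]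
  have hTsurj : Function.Surjective (algebraMap A T) := by
    rw [← Algebra.coe_linearMap, ← LinearMap.range_eq_top, eq_top_iff]
    refine Submodule.le_of_le_smul_of_le_jacobson_bot Module.Finite.fg_top (I := I)
      HenselianRing.jac fun z _ ↦ ?_
    obtain ⟨z, rfl⟩ := Ideal.Quotient.mk_surjective z
    obtain ⟨w, hw⟩ := hsurj (Ideal.Quotient.mk IS₁ z)
    refine Submodule.mem_sup.2 ⟨_, ⟨w, rfl⟩, _, ?_, add_sub_cancel _ _⟩
    rw [IsScalarTower.algebraMap_apply A S₁, Ideal.Quotient.algebraMap_eq, eq_comm,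
      Ideal.Quotient.eq] at hw
    rw [Ideal.smul_top_eq_map, Algebra.coe_linearMap, IsScalarTower.algebraMap_apply A S₁ T,
      IsScalarTower.algebraMap_eq A S₁ T, ← Ideal.map_map, Ideal.Quotient.algebraMap_eq, ← map_sub]
    exact Ideal.mem_map_of_mem _ hw
  have hTinj : Function.Injective (algebraMap A T) :=
    (injective_iff_map_eq_zero _).2 fun c hc ↦ eq_zero_of_algebraMap_eq_zero HenselianRing.jac σT hc
  let e : A ≃ₐ[A] T := AlgEquiv.ofBijective (Algebra.ofId A T) ⟨hTinj, hTsurj⟩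
  refine ⟨e.symm.toAlgHom.comp ((Ideal.Quotient.mkₐ A _).comp (IsScalarTower.toAlgHom A S S₁)),
    AlgHom.ext fun x ↦ ?_⟩
  obtain ⟨c, hc⟩ := hTsurj (Ideal.Quotient.mk _ (algebraMap S S₁ x))
  change Ideal.Quotient.mk I (e.symm (Ideal.Quotient.mk _ (algebraMap S S₁ x))) = σ x
  rw [← hc, AlgEquiv.commutes, Algebra.algebraMap_self_apply, ← hσ₁]
  have := congr(σT $hc)
  rwa [AlgHom.commutes, Ideal.Quotient.algebraMap_eq] at this

/-- Points of etale algebras lift uniquely along henselian pairs. -/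
theorem existsUnique_algHom_lift [HenselianRing A I] (S : Type*) [CommRing S] [Algebra A S]
    [Algebra.Etale A S] (σ : S →ₐ[A] A ⧸ I) :
    ∃! τ : S →ₐ[A] A, (Ideal.Quotient.mkₐ A I).comp τ = σ := by
  obtain ⟨τ, hτ⟩ := exists_algHom_lift S σ
  exact ⟨τ, hτ, fun τ' hτ' ↦ algHom_eq_of_sub_mem HenselianRing.jac fun s ↦
    Ideal.Quotient.eq.1 ((DFunLike.congr_fun hτ' s).trans (DFunLike.congr_fun hτ s).symm)⟩

/-- Etale lifting gives henselian pairs. -/
theorem henselianRing_of_etale_lift {A : Type u} [CommRing A] {I : Ideal A}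
    (h : ∀ (A' : Type u) [CommRing A'] [Algebra A A'] [Algebra.Etale A A'] (σ : A' →ₐ[A] A ⧸ I),
      ∃ τ : A' →ₐ[A] A, (Ideal.Quotient.mkₐ A I).comp τ = σ) :
    HenselianRing A I := by
  refine ⟨fun x hx ↦ Ideal.mem_jacobson_bot.2 fun y ↦ ?_, fun f hf a₀ h₁ h₂ ↦ ?_⟩
  · let σ : Localization.Away (x * y + 1) →ₐ[A] A ⧸ I :=
      IsLocalization.Away.liftAlgHom (x * y + 1) (f := Algebra.ofId A (A ⧸ I)) (by
        simp [Ideal.Quotient.eq_zero_iff_mem.2 hx])
    obtain ⟨τ, -⟩ := h _ σ
    simpa using (IsLocalization.Away.algebraMap_isUnit (S := Localization.Away (x * y + 1))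
      (x * y + 1)).map τ
  · let P : StandardEtalePair A :=
      { f := f, monic_f := hf, g := derivative f, cond := ⟨1, 0, 1, by simp⟩ }
    have hP : P.HasMap (Ideal.Quotient.mk I a₀) := by
      refine ⟨?_, ?_⟩
      · rw [← Ideal.Quotient.algebraMap_eq, aeval_algebraMap_apply, coe_aeval_eq_eval,
          Ideal.Quotient.algebraMap_eq, Ideal.Quotient.eq_zero_iff_mem]
        exact h₁
      · rw [← Ideal.Quotient.algebraMap_eq, aeval_algebraMap_apply, coe_aeval_eq_eval]
        exact h₂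
    obtain ⟨τ, hτ⟩ := h P.Ring (P.lift _ hP)
    refine ⟨τ P.X, ?_, ?_⟩
    · rw [IsRoot.def, ← coe_aeval_eq_eval, aeval_algHom_apply, P.hasMap_X.1, map_zero]
    · have := DFunLike.congr_fun hτ P.X
      rw [StandardEtalePair.lift_X] at this
      exact Ideal.Quotient.eq.1 this

end Groth.Agent.Hensel
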