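import Mathlib.RingTheory.Henselian
import Mathlib.RingTheory.Unramified.Finite
import Mathlib.RingTheory.IntegralClosure.IntegralRestrict
import Mathlib.RingTheory.Ideal.GoingUp

/-!
Basic facts on henselian pairs: the Gabber condition, uniqueness of lifts along ideals inside
the Jacobson radical, kernels of sections of unramified algebras.
-/

namespace Groth.Agent.Hensel

open Polynomial TensorProduct

universe u

/-- Gabber's condition for a pair `(A, I)`. -/
def GabberRoots (A : Type*) [CommRing A] (I : Ideal A) : Prop :=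
  ∀ (n : ℕ), 0 < n → ∀ p : A[X], p.natDegree ≤ n → (∀ i, p.coeff i ∈ I) →
    ∃ α : A, α - 1 ∈ I ∧ (X ^ n * (X - 1) + p).IsRoot α

variable {A : Type*} [CommRing A] {I : Ideal A}

lemma isUnit_of_mk {J : Ideal A} (hJ : J ≤ Ideal.jacobson ⊥) {a : A}
    (h : IsUnit (Ideal.Quotient.mk J a)) : IsUnit a :=
  (isLocalHom_of_le_jacobson_bot J hJ).map_nonunit a h

lemma isUnit_of_sub_one_mem {J : Ideal A} (hJ : J ≤ Ideal.jacobson ⊥) {a : A}
    (h : a - 1 ∈ J) : IsUnit a := by
  refine isUnit_of_mk hJ ?_
  rw [(Ideal.Quotient.eq.2 h : Ideal.Quotient.mk J a = Ideal.Quotient.mk J 1), map_one]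
  exact isUnit_one

lemma eq_zero_of_mem_jacobson_of_isIdempotentElem {e : A}
    (he : IsIdempotentElem e) (h : e ∈ Ideal.jacobson (⊥ : Ideal A)) : e = 0 := by
  have h1 : IsUnit (1 - e) := isUnit_of_sub_one_mem le_rfl (by simpa using h)
  have h2 : (1 - e) * e = 0 := by rw [sub_mul, one_mul, he.eq, sub_self]
  exact h1.mul_right_eq_zero.1 h2

/-- Two idempotents congruent modulo the Jacobson radical are equal. -/
lemma isIdempotentElem_eq_of_sub_mem {J : Ideal A} (hJ : J ≤ Ideal.jacobson ⊥) {e f : A}
    (he : IsIdempotentElem e) (hf : IsIdempotentElem f) (h : e - f ∈ J) : e = f := by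
  have h1 : e * (1 - f) = 0 := eq_zero_of_mem_jacobson_of_isIdempotentElem
    (he.mul hf.one_sub) (hJ (by
      have : e * (1 - f) = (1 - f) * (e - f) := by linear_combination -hf.eq
      rw [this]; exact J.mul_mem_left _ h))
  have h2 : f * (1 - e) = 0 := eq_zero_of_mem_jacobson_of_isIdempotentElem
    (hf.mul he.one_sub) (hJ (by
      have : f * (1 - e) = (1 - e) * (-(e - f)) := by linear_combination -he.eq
      rw [this]; exact J.mul_mem_left _ (J.neg_mem h)))
  linear_combination h1 - h2

lemma map_le_jacobson_bot_of_isIntegral {B : Type*} [CommRing B] [Algebra A B]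
    [Algebra.IsIntegral A B] (hI : I ≤ Ideal.jacobson ⊥) :
    I.map (algebraMap A B) ≤ Ideal.jacobson ⊥ := by
  refine le_sInf ?_
  rintro M ⟨-, hM⟩
  rw [Ideal.map_le_iff_le_comap]
  refine hI.trans (sInf_le ⟨bot_le, ?_⟩)
  exact Ideal.isMaximal_comap_of_isIntegral_of_isMaximal M

/-- Gabber's condition holds in a henselian pair. -/
lemma gabberRoots_of_henselianRing [hA : HenselianRing A I] : GabberRoots A I := by
  intro n hn p hdeg hp
  obtain hsub | hnt := subsingleton_or_nontrivial A
  · exact ⟨1, by simp, Subsingleton.elim _ _⟩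
  have hm : (X ^ n * (X - 1) + p).Monic := by
    refine Monic.add_of_left ((monic_X_pow n).mul (monic_X_sub_C (1 : A))) ?_
    calc p.degree ≤ p.natDegree := degree_le_natDegree
      _ ≤ (n : WithBot ℕ) := by exact_mod_cast hdeg
      _ < _ := by
        rw [← map_one C, degree_eq_natDegree ((monic_X_pow n).mul (monic_X_sub_C (1 : A))).ne_zero,
          (monic_X_pow n).natDegree_mul' (monic_X_sub_C (1 : A)).ne_zero, natDegree_X_pow,
          natDegree_X_sub_C]
        exact_mod_cast Nat.lt_succ_self n
  have hmap : p.map (Ideal.Quotient.mk I) = 0 := by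
    ext i; simp [Ideal.Quotient.eq_zero_iff_mem, hp i]
  have hev : ∀ a : A, Ideal.Quotient.mk I (p.eval a) = 0 := fun a ↦ by
    rw [← eval₂_at_apply, ← eval_map, hmap, eval_zero]
  have hev' : Ideal.Quotient.mk I (p.derivative.eval 1) = 0 := by
    rw [← eval₂_at_apply, ← eval_map, ← derivative_map, hmap, derivative_zero, eval_zero]
  obtain ⟨a, ha, ha'⟩ := HenselianRing.is_henselian (I := I) _ hm 1
    (Ideal.Quotient.eq_zero_iff_mem.1 (by simp [hev]))
    (by simp [hev'])
  exact ⟨a, ha', ha⟩

/-- A root of a polynomial with unit derivative is unique in its congruence class. -/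
lemma root_eq_of_sub_mem {J : Ideal A} (hJ : J ≤ Ideal.jacobson ⊥) {f : A[X]} {a b : A}
    (ha : f.IsRoot a) (hb : f.IsRoot b) (h' : IsUnit (f.derivative.eval a)) (h : b - a ∈ J) :
    a = b := by
  obtain ⟨c, hc⟩ := exists_mul_sq_add_linear_part_eq_eval_add f a (b - a)
  rw [add_sub_cancel, hb.eq_zero, ha.eq_zero] at hc
  have hu : IsUnit (c * (b - a) + f.derivative.eval a) := by
    refine isUnit_of_mk hJ ?_
    rw [map_add, Ideal.Quotient.eq_zero_iff_mem.2 (J.mul_mem_left c h), zero_add]
    exact h'.map _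
  have h0 : (c * (b - a) + f.derivative.eval a) * (b - a) = 0 := by linear_combination hc
  exact (sub_eq_zero.1 (hu.mul_right_eq_zero.1 h0)).symm

section Unramified

variable {R S T : Type*} [CommRing R] [CommRing S] [CommRing T] [Algebra R S] [Algebra R T]
  [Algebra.FormallyUnramified R S] [Algebra.EssFiniteType R S]

/-- Two maps out of an unramified algebra that agree modulo an ideal in the radical are equal. -/
lemma algHom_eq_of_sub_mem {J : Ideal T} (hJ : J ≤ Ideal.jacobson ⊥) {f g : S →ₐ[R] T}
    (h : ∀ s, f s - g s ∈ J) : f = g := by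
  let ψ : S ⊗[R] S →ₐ[R] T := Algebra.TensorProduct.productMap f g
  let q : T →ₐ[R] T ⧸ J := Ideal.Quotient.mkₐ R J
  have hψ : q.comp ψ = (q.comp f).comp (Algebra.TensorProduct.lmul' R) := by
    refine Algebra.TensorProduct.ext ?_ ?_
    · ext s; simp [ψ, q]
    · ext s; simpa [ψ, q] using (Ideal.Quotient.eq.2 (h s)).symm
  have hu : IsUnit (ψ (Algebra.FormallyUnramified.elem R S)) := by
    refine isUnit_of_mk hJ ?_
    have := DFunLike.congr_fun hψ (Algebra.FormallyUnramified.elem R S)
    simp only [AlgHom.comp_apply, Algebra.FormallyUnramified.lmul_elem, map_one] at this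
    exact this ▸ isUnit_one
  ext s
  have h0 := congr(ψ $(Algebra.FormallyUnramified.one_tmul_sub_tmul_one_mul_elem (R := R) s))
  simp only [map_mul, map_sub, map_zero] at h0
  have h1 := hu.mul_left_eq_zero.1 h0
  simp [ψ, sub_eq_zero] at h1
  exact h1.symm

/-- The kernel of a section of an unramified algebra is cut out by an idempotent. -/
lemma exists_isIdempotentElem_section (σ : S →ₐ[R] R) :
    ∃ f : S, IsIdempotentElem f ∧ σ f = 1 ∧ ∀ x, x * f = algebraMap R S (σ x) * f := by
  let φ : S ⊗[R] S →ₐ[R] S :=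
    Algebra.TensorProduct.productMap ((Algebra.ofId R S).comp σ) (AlgHom.id R S)
  have key : ∀ x, x * φ (Algebra.FormallyUnramified.elem R S) =
      algebraMap R S (σ x) * φ (Algebra.FormallyUnramified.elem R S) := by
    intro x
    simpa [φ] using congr(φ $(Algebra.FormallyUnramified.one_tmul_mul_elem (R := R) x))
  have h1 : σ (φ (Algebra.FormallyUnramified.elem R S)) = 1 := by
    have : σ.comp φ = σ.comp (Algebra.TensorProduct.lmul' R) := by
      refine Algebra.TensorProduct.ext ?_ ?_ <;> ext s <;> simp [φ]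
    have h2 := DFunLike.congr_fun this (Algebra.FormallyUnramified.elem R S)
    rwa [AlgHom.comp_apply, AlgHom.comp_apply, Algebra.FormallyUnramified.lmul_elem, map_one] at h2
  refine ⟨_, ?_, h1, key⟩
  rw [IsIdempotentElem, key, h1, map_one, one_mul]

end Unramified

end Groth.Agent.Hensel
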