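import Groth.Agent.Hensel.EssEt
import Mathlib.RingTheory.Etale.Locus
import Mathlib.RingTheory.MvPolynomial.Localization
import Mathlib.RingTheory.Localization.LocalizationLocalization

/-!
Composition of essentially étale local algebras.
-/

set_option autoImplicit false
universe u

open IsLocalRing MvPolynomial

namespace Groth.Agent.Hensel

/-- A finitely presented algebra over a localization is the localization of a finitely presented algebra. -/
theorem exists_finitePresentation_isLocalization {R : Type u} [CommRing R] (M : Submonoid R) (B : Type u)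
    [CommRing B] [Algebra R B] [IsLocalization M B] (D : Type u) [CommRing D] [Algebra B D] [Algebra R D]
    [IsScalarTower R B D] [Algebra.FinitePresentation B D] :
    ∃ (D₁ : Type u) (_ : CommRing D₁) (_ : Algebra R D₁) (_ : Algebra D₁ D) (_ : IsScalarTower R D₁ D)
      (M' : Submonoid D₁), Algebra.FinitePresentation R D₁ ∧ IsLocalization M' D := by
  classical
  obtain ⟨n, f, hf, hker⟩ := Algebra.FinitePresentation.out (R := B) (A := D)
  letI : Algebra (MvPolynomial (Fin n) R) (MvPolynomial (Fin n) B) := algebraMvPolynomial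
  let N : Submonoid (MvPolynomial (Fin n) R) := M.map C
  obtain ⟨s, hs⟩ := hker
  choose r hr using fun g : MvPolynomial (Fin n) B => IsLocalization.surj N g
  let I : Ideal (MvPolynomial (Fin n) R) := Ideal.span (s.image fun g => (r g).1)
  let j := algebraMap (MvPolynomial (Fin n) R) (MvPolynomial (Fin n) B)
  have hunit : ∀ g, IsUnit (j (r g).2) := fun g => IsLocalization.map_units _ (r g).2
  have hIker : I.map j = RingHom.ker f.toRingHom := by
    show I.map j = RingHom.ker f
    rw [show RingHom.ker f = Ideal.span (s : Set _) from hs.symm, Ideal.map_span, Finset.coe_image,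
      Set.image_image]
    apply le_antisymm <;> refine Ideal.span_le.2 ?_
    · rintro _ ⟨g, hg, rfl⟩
      simp only [j, ← hr g]
      exact Ideal.mul_mem_right _ _ (Ideal.subset_span hg)
    · intro g hg
      refine (Ideal.mul_unit_mem_iff_mem _ (hunit g)).1 ?_
      rw [hr g]
      exact Ideal.subset_span ⟨g, hg, rfl⟩
  have hI : ∀ x ∈ I, (f.toRingHom.comp j) x = 0 := fun x hx => by
    rw [RingHom.comp_apply, ← RingHom.mem_ker, ← hIker]
    exact Ideal.mem_map_of_mem j hx
  let q : MvPolynomial (Fin n) R ⧸ I →+* D := Ideal.Quotient.lift I (f.toRingHom.comp j) hI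
  letI : Algebra (MvPolynomial (Fin n) R ⧸ I) D := q.toAlgebra
  haveI : IsScalarTower R (MvPolynomial (Fin n) R ⧸ I) D := .of_algebraMap_eq fun a => by
    show algebraMap R D a = q (Ideal.Quotient.mk I (C a))
    rw [Ideal.Quotient.lift_mk, RingHom.comp_apply]
    show algebraMap R D a = f (MvPolynomial.map (algebraMap R B) (C a))
    rw [map_C, ← algebraMap_eq, f.commutes, ← IsScalarTower.algebraMap_apply]
  refine ⟨_, inferInstance, inferInstance, inferInstance, inferInstance, N.map (Ideal.Quotient.mk I),
    Algebra.FinitePresentation.quotient ⟨_, rfl⟩, ?_⟩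
  refine IsLocalization.of_surjective (S := MvPolynomial (Fin n) B) N (Ideal.Quotient.mk I)
    Ideal.Quotient.mk_surjective f.toRingHom hf rfl ?_
  rw [Ideal.mk_ker]
  exact hIker.ge

/-- Essentially étale local algebras compose. -/
theorem isEssentiallyEtale_trans {A B C : Type u} [CommRing A] [IsLocalRing A] [CommRing B] [IsLocalRing B]
    [Algebra A B] [CommRing C] [Algebra B C] [Algebra A C] [IsScalarTower A B C]
    (hB : EGA4loc.IsEssentiallyEtale A B) (hC : EGA4loc.IsEssentiallyEtale B C) :
    EGA4loc.IsEssentiallyEtale A C := by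
  haveI := formallyEtale_of_isEssentiallyEtale hB
  haveI hlocal := isLocalHom_of_isEssentiallyEtale hB
  obtain ⟨C₁, _, _, q₁, _, hC₁, -, ⟨e₁⟩⟩ := hB
  obtain ⟨D, _, _, q₂, _, hD, hq₂, ⟨e₂⟩⟩ := hC
  let ι : C₁ →ₐ[A] B := e₁.symm.toAlgHom.comp (IsScalarTower.toAlgHom A C₁ _)
  letI : Algebra C₁ B := ι.toRingHom.toAlgebra
  haveI : IsScalarTower A C₁ B := .of_algebraMap_eq' ι.comp_algebraMap.symm
  let e₁' : Localization.AtPrime q₁ ≃ₐ[C₁] B := AlgEquiv.ofRingEquiv (f := e₁.symm.toRingEquiv) fun _ => rfl
  haveI : IsLocalization.AtPrime B q₁ := IsLocalization.isLocalization_of_algEquiv q₁.primeCompl e₁'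
  letI : Algebra C₁ D := ((algebraMap B D).comp (algebraMap C₁ B)).toAlgebra
  haveI : IsScalarTower C₁ B D := .of_algebraMap_eq' rfl
  letI : Algebra A D := ((algebraMap B D).comp (algebraMap A B)).toAlgebra
  haveI : IsScalarTower A B D := .of_algebraMap_eq' rfl
  haveI : IsScalarTower A C₁ D := .of_algebraMap_eq fun a => by
    show algebraMap B D (algebraMap A B a) = algebraMap B D (algebraMap C₁ B (algebraMap A C₁ a))
    rw [← IsScalarTower.algebraMap_apply A C₁ B]
  obtain ⟨D₁, _, _, _, _, M', hFP, hloc⟩ := exists_finitePresentation_isLocalization q₁.primeCompl B D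
  letI : Algebra A D₁ := ((algebraMap C₁ D₁).comp (algebraMap A C₁)).toAlgebra
  haveI : IsScalarTower A C₁ D₁ := .of_algebraMap_eq' rfl
  haveI : IsScalarTower A D₁ D := .of_algebraMap_eq fun a => by
    show _ = algebraMap D₁ D (algebraMap C₁ D₁ (algebraMap A C₁ a))
    rw [← IsScalarTower.algebraMap_apply C₁ D₁ D, ← IsScalarTower.algebraMap_apply A C₁ D]
  haveI : Algebra.FinitePresentation A D₁ := Algebra.FinitePresentation.trans A C₁ D₁
  let P := q₂.comap (algebraMap D₁ D)
  let L := Localization.AtPrime q₂
  haveI : IsLocalization.AtPrime L P :=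
    IsLocalization.isLocalization_isLocalization_atPrime_isLocalization M' L q₂
  haveI : Algebra.FormallyEtale B L := by
    haveI : Algebra.FormallyEtale D L := .of_isLocalization q₂.primeCompl
    exact Algebra.FormallyEtale.comp B D L
  haveI : Algebra.FormallyEtale A L := Algebra.FormallyEtale.comp A B L
  let eP : L ≃ₐ[A] Localization.AtPrime P :=
    ((IsLocalization.algEquiv P.primeCompl L (Localization.AtPrime P)).restrictScalars A)
  haveI : Algebra.IsEtaleAt A P := Algebra.FormallyEtale.of_equiv eP
  obtain ⟨g, hg, hgE⟩ := Algebra.exists_etale_of_isEtaleAt (R := A) P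
  have hdisj : Disjoint (Submonoid.powers g : Set D₁) P := (Ideal.disjoint_powers_iff_notMem g
    ((inferInstance : P.IsPrime).isRadical)).2 hg
  let Q := P.map (algebraMap D₁ (Localization.Away g))
  haveI : Q.IsPrime := IsLocalization.isPrime_of_isPrime_disjoint (Submonoid.powers g) _ P inferInstance hdisj
  have hQ : Q.comap (algebraMap D₁ (Localization.Away g)) = P :=
    IsLocalization.comap_map_of_isPrime_disjoint _ _ inferInstance hdisj
  refine ⟨Localization.Away g, inferInstance, inferInstance, Q, inferInstance, hgE, ?_, ?_⟩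
  · rw [IsScalarTower.algebraMap_eq A D₁ (Localization.Away g), ← Ideal.comap_comap, hQ]
    show (q₂.comap (algebraMap D₁ D)).comap (algebraMap A D₁) = _
    rw [Ideal.comap_comap, ← IsScalarTower.algebraMap_eq, IsScalarTower.algebraMap_eq A B D,
      ← Ideal.comap_comap, hq₂]
    exact ((local_hom_TFAE (algebraMap A B)).out 0 4).1 hlocal
  · haveI h1 : IsLocalization.AtPrime (Localization.AtPrime Q) (Q.comap (algebraMap D₁ (Localization.Away g))) :=
      IsLocalization.isLocalization_isLocalization_atPrime_isLocalization (Submonoid.powers g) _ Q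
    haveI : IsLocalization.AtPrime (Localization.AtPrime Q) P := by
      unfold IsLocalization.AtPrime at h1 ⊢
      convert h1 using 2
      exact hQ.symm
    exact ⟨((e₂.restrictScalars A).trans eP).trans
      ((IsLocalization.algEquiv P.primeCompl (Localization.AtPrime P) (Localization.AtPrime Q)).restrictScalars A)⟩

end Groth.Agent.Hensel
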