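import Groth.Agent.Hensel.EssSubFrac
import Groth.Agent.Hensel.Local
import Groth.Agent.EtStruct.Core
import Mathlib.RingTheory.Unramified.LocalRing
import Mathlib.RingTheory.Filtration
import Mathlib.FieldTheory.PrimitiveElement
import Mathlib.RingTheory.Etale.StandardEtale

/-!
Unramified local subrings of strict henselizations are essentially étale.
-/

set_option autoImplicit false
universe u

open IsLocalRing TensorProduct

namespace Groth.Agent.Hensel.IsEtLike

variable {A S : Type u} [CommRing A] [IsLocalRing A] [CommRing S] [IsLocalRing S] [Algebra A S]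
variable (h : IsEtLike A S) [IsLocalHom (algebraMap A S)]
variable [Algebra.IsSeparable (ResidueField A) (ResidueField S)]
include h

/-- An unramified local subring essentially of finite type is essentially étale. -/
theorem isEssentiallyEtale_of_essFiniteType (D : Subalgebra A S) [IsLocalRing D] [IsLocalHom (algebraMap D S)]
    [Algebra.EssFiniteType A D] (hm : Ideal.map (algebraMap A D) (maximalIdeal A) = maximalIdeal D) :
    EGA4loc.IsEssentiallyEtale A D := by
  haveI : IsLocalHom (algebraMap A D) := ⟨fun a ha => isUnit_of_map_unit (algebraMap A S) a (ha.map D.val)⟩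
  haveI : Algebra.IsSeparable (ResidueField A) (ResidueField D) :=
    Algebra.isSeparable_tower_bot_of_isSeparable (ResidueField A) (ResidueField D) (ResidueField S)
  haveI : Algebra.FormallyUnramified A D := Algebra.FormallyUnramified.iff_map_maximalIdeal_eq.2 ⟨inferInstance, hm⟩
  let P := Algebra.EssFiniteType.subalgebra A D
  let q : Ideal P := (maximalIdeal D).comap (algebraMap P D)
  have hq : q.primeCompl = Algebra.EssFiniteType.submonoid A D := by
    ext x
    show ¬ (algebraMap P D x ∈ maximalIdeal D) ↔ IsUnit (algebraMap P D x)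
    exact not_not
  haveI : IsLocalization.AtPrime D q := by
    show IsLocalization q.primeCompl D
    rw [hq]; infer_instance
  let e : Localization.AtPrime q ≃ₐ[A] D :=
    (IsLocalization.algEquiv q.primeCompl (Localization.AtPrime q) D).restrictScalars A
  haveI : Algebra.IsUnramifiedAt A q := Algebra.FormallyUnramified.of_equiv e.symm
  obtain ⟨C, _, _, hC, Q, _, ψ, hψ, -, -⟩ := EtStruct.exists_etale_localRing_surjection (A := A) q
  haveI := hC
  let ψ' : Localization.AtPrime Q →ₐ[A] D := e.toAlgHom.comp ψ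
  have hψ' : Function.Surjective ψ' := e.surjective.comp hψ
  let θ : C →ₐ[A] S := D.val.comp (ψ'.comp (IsScalarTower.toAlgHom A C _))
  haveI : IsLocalHom ψ'.toRingHom := .of_surjective _ hψ'
  haveI : IsLocalHom (algebraMap A (Localization.AtPrime Q)) := ⟨fun a ha => isUnit_of_map_unit (algebraMap A D) a
    (by rw [← ψ'.commutes]; exact ha.map ψ')⟩
  have hinj : Function.Injective ψ' := (injective_iff_map_eq_zero ψ').2 fun z hz => by
    obtain ⟨c, s, rfl⟩ := IsLocalization.exists_mk'_eq Q.primeCompl z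
    have hc : θ c = 0 := by
      show ((ψ' (algebraMap C _ c) : D) : S) = 0
      rw [← IsLocalization.mk'_spec (Localization.AtPrime Q) c s, map_mul, hz, zero_mul, ZeroMemClass.coe_zero]
    obtain ⟨v, hv, hvc⟩ := h.exists_mul_eq_zero θ hc
    rw [IsLocalization.mk'_eq_zero_iff]
    refine ⟨⟨v, fun hvQ => ?_⟩, hvc⟩
    have h1 : IsUnit (ψ' (algebraMap C (Localization.AtPrime Q) v)) :=
      isUnit_of_map_unit (algebraMap D S) _ hv
    exact (IsLocalization.AtPrime.isUnit_to_map_iff (Localization.AtPrime Q) Q v).1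
      (isUnit_of_map_unit ψ'.toRingHom _ h1) hvQ
  refine ⟨C, inferInstance, inferInstance, Q, inferInstance, inferInstance, ?_,
    ⟨(AlgEquiv.ofBijective ψ' ⟨hinj, hψ'⟩).symm⟩⟩
  have h2 := ((IsLocalRing.local_hom_TFAE (algebraMap A (Localization.AtPrime Q))).out 0 4).1 (inferInstance : IsLocalHom (algebraMap A (Localization.AtPrime Q)))
  rw [IsScalarTower.algebraMap_eq A C (Localization.AtPrime Q), ← Ideal.comap_comap,
    show (maximalIdeal (Localization.AtPrime Q)).comap (algebraMap C _) = Q from
      IsLocalization.AtPrime.under_maximalIdeal (Localization.AtPrime Q) Q] at h2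
  exact h2

/-- A Noetherian unramified local subring with finitely generated fraction ring is essentially of
finite type. -/
theorem essFiniteType_of_isNoetherianRing [IsReduced A] [IsNoetherianRing A] [HenselianLocalRing S]
    (D : Subalgebra A S) [IsLocalRing D] [IsLocalHom (algebraMap D S)] [IsNoetherianRing D]
    (hfg : ∃ t : Finset (FractionRing D), ∀ x : FractionRing D, ∃ a ∈ nonZeroDivisors A,
      algebraMap A (FractionRing D) a * x ∈ Algebra.adjoin A (t : Set (FractionRing D)))
    (hm : Ideal.map (algebraMap A D) (maximalIdeal A) = maximalIdeal D) :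
    Algebra.EssFiniteType A D := by
  classical
  have hmin : (minimalPrimes A).Finite := minimalPrimes.finite_of_isNoetherianRing A
  haveI : IsLocalHom (algebraMap A D) := ⟨fun a ha => isUnit_of_map_unit (algebraMap A S) a (ha.map D.val)⟩
  obtain ⟨E, hE, hDE, -⟩ := h.exists_essSub_le_of_fg hmin D hfg ∅
  haveI := hE.isLocalRing
  haveI := hE.isLocalHom
  haveI : IsLocalHom (algebraMap A E) := ⟨fun a ha => isUnit_of_map_unit (algebraMap A S) a (ha.map E.val)⟩
  haveI := formallyEtale_of_isEssentiallyEtale hE.essEtale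
  haveI := essFiniteType_of_isEssentiallyEtale hE.essEtale
  -- the residue field
  let kA := ResidueField A
  let kD := ResidueField D
  haveI : Algebra.IsSeparable kA kD := Algebra.isSeparable_tower_bot_of_isSeparable kA kD (ResidueField S)
  haveI : Module.Finite kA (ResidueField E) := inferInstance
  haveI : Module.Finite kA kD := by
    let i : D →ₐ[A] E := Subalgebra.inclusion hDE
    haveI : IsLocalHom i.toRingHom := ⟨fun d hd => isUnit_of_map_unit (algebraMap D S) d (hd.map E.val)⟩
    let i' : kD →ₐ[kA] ResidueField E :=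
      { toRingHom := ResidueField.map i.toRingHom
        commutes' := fun c => by
          obtain ⟨a, rfl⟩ := residue_surjective c
          show ResidueField.map i.toRingHom (residue D (algebraMap A D a)) = residue E (algebraMap A E a)
          rw [ResidueField.map_residue]
          exact congrArg _ (i.commutes a) }
    exact Module.Finite.of_injective i'.toLinearMap i'.toRingHom.injective
  obtain ⟨θ, hθ⟩ := Field.exists_primitive_element kA kD
  have hθi : IsIntegral kA θ := Algebra.IsIntegral.isIntegral θ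
  obtain ⟨f, hf, -, hfmon⟩ := Polynomial.lifts_and_natDegree_eq_and_monic
    (Polynomial.map_surjective (residue A) residue_surjective (minpoly kA θ)) (minpoly.monic hθi)
  let SP : StandardEtalePair A :=
    { f := f, monic_f := hfmon, g := Polynomial.derivative f, cond := ⟨1, 0, 1, by simp⟩ }
  have haev : ∀ p : Polynomial A, Polynomial.aeval θ p = Polynomial.aeval θ (p.map (residue A)) := fun p => by
    rw [← Polynomial.aeval_map_algebraMap (A := kA) θ p]
    rfl
  have hmap : SP.HasMap θ := by
    refine ⟨by rw [haev, hf, minpoly.aeval], isUnit_iff_ne_zero.2 ?_⟩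
    rw [haev]
    show Polynomial.aeval θ ((Polynomial.derivative f).map (residue A)) ≠ 0
    rw [← Polynomial.derivative_map, hf]
    exact Polynomial.Separable.aeval_derivative_ne_zero (Algebra.IsSeparable.isSeparable kA θ) (minpoly.aeval _ _)
  let τ : SP.Ring →ₐ[A] kD := SP.lift θ hmap
  have hτ : Function.Surjective τ := fun c => by
    have hc : c ∈ Algebra.adjoin kA {θ} := by
      rw [← IntermediateField.adjoin_simple_toSubalgebra_of_isAlgebraic hθi.isAlgebraic, hθ]
      trivial
    rw [Algebra.adjoin_singleton_eq_range_aeval] at hc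
    obtain ⟨p, rfl⟩ := hc
    obtain ⟨p, rfl⟩ := Polynomial.map_surjective (residue A) residue_surjective p
    refine ⟨Polynomial.aeval SP.X p, ?_⟩
    rw [← Polynomial.aeval_algHom_apply, show τ SP.X = θ from SP.lift_X θ hmap, haev]
    rfl
  let jres : kD →ₐ[A] ResidueField S :=
    { toRingHom := ResidueField.map (algebraMap D S)
      commutes' := fun a => by
        show ResidueField.map (algebraMap D S) (residue D (algebraMap A D a)) = residue S (algebraMap A S a)
        rw [ResidueField.map_residue]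
        rfl }
  obtain ⟨θS, hθS, -⟩ := existsUnique_algHom_residue SP.Ring (jres.comp τ)
  -- a chart of `E`
  obtain ⟨C, _, _, qC, _, hC, -, ⟨e⟩⟩ := hE.essEtale
  haveI := hC
  let θC : C →ₐ[A] S := E.val.comp (e.symm.toAlgHom.comp (IsScalarTower.toAlgHom A C _))
  have hsurjE : ∀ x ∈ E, ∃ c u : C, IsUnit (θC u) ∧ x * θC u = θC c := fun x hx => by
    obtain ⟨c, u, hcu⟩ := IsLocalization.exists_mk'_eq qC.primeCompl (e ⟨x, hx⟩)
    refine ⟨c, u, ((IsLocalization.map_units (Localization.AtPrime qC) u).map e.symm).map E.val, ?_⟩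
    have h1 := congrArg (E.val ∘ e.symm) (IsLocalization.mk'_spec (Localization.AtPrime qC) c u)
    simp only [Function.comp_apply, map_mul, hcu, e.symm_apply_apply] at h1
    exact h1
  let μ : D ⊗[A] C →ₐ[A] S := Algebra.TensorProduct.productMap D.val θC
  let μ' : SP.Ring ⊗[A] C →ₐ[A] S := Algebra.TensorProduct.productMap θS θC
  haveI : Algebra.Etale A (SP.Ring ⊗[A] C) := Algebra.Etale.comp A SP.Ring (SP.Ring ⊗[A] C)
  -- relations are killed by units
  have hkill : ∀ x : D ⊗[A] C, μ x = 0 → ∃ v, IsUnit (μ v) ∧ v * x = 0 := by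
    intro x hx
    haveI : IsNoetherianRing (D ⊗[A] C) := Algebra.FiniteType.isNoetherianRing D (D ⊗[A] C)
    let q' : Ideal (D ⊗[A] C) := (maximalIdeal S).comap μ.toRingHom
    have hstep : ∀ n : ℕ, ∃ v, IsUnit (μ v) ∧
        v * x ∈ (maximalIdeal A ^ (n + 1)).map (algebraMap A (D ⊗[A] C)) := by
      intro n
      let 𝔫 : Ideal D := (maximalIdeal A ^ (n + 1)).map (algebraMap A D)
      have h𝔫 : 𝔫 = maximalIdeal D ^ (n + 1) := by
        show Ideal.map _ _ = _
        rw [Ideal.map_pow, hm]
      have h𝔫le : 𝔫 ≤ maximalIdeal D := h𝔫.le.trans (Ideal.pow_le_self (Nat.succ_ne_zero n))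
      let g : (D ⧸ 𝔫) →ₐ[A] kD := Ideal.Quotient.liftₐ 𝔫 (IsScalarTower.toAlgHom A D kD) fun a ha =>
        (residue_eq_zero_iff a).2 (h𝔫le ha)
      have hg : Function.Surjective g := fun c => by
        obtain ⟨d, rfl⟩ := residue_surjective c
        exact ⟨Ideal.Quotient.mk 𝔫 d, rfl⟩
      have hker : IsNilpotent (RingHom.ker g.toRingHom) := by
        refine ⟨n + 1, le_bot_iff.1 ?_⟩
        have h1 : RingHom.ker g.toRingHom ≤ (maximalIdeal D).map (Ideal.Quotient.mk 𝔫) := fun z hz => by
          obtain ⟨d, rfl⟩ := Ideal.Quotient.mk_surjective z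
          exact Ideal.mem_map_of_mem _ ((residue_eq_zero_iff d).1 hz)
        refine (Ideal.pow_right_mono h1 _).trans ?_
        rw [← Ideal.map_pow, ← h𝔫, Ideal.map_quotient_self]
      let σ : SP.Ring →ₐ[A] D ⧸ 𝔫 := Algebra.FormallySmooth.liftOfSurjective τ g hg hker
      have hσ : ∀ b, g (σ b) = τ b := fun b =>
        AlgHom.congr_fun (Algebra.FormallySmooth.comp_liftOfSurjective τ g hg hker) b
      have hσs : Function.Surjective σ := by
        have key : ∀ k, ∀ z : D ⧸ 𝔫, ∃ b, z - σ b ∈ (maximalIdeal A ^ k).map (algebraMap A (D ⧸ 𝔫)) := by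
          intro k
          induction k with
          | zero => exact fun z => ⟨0, by rw [pow_zero, Ideal.one_eq_top, Ideal.map_top]; trivial⟩
          | succ k ih =>
            intro z
            obtain ⟨b, hb⟩ := ih z
            suffices H : ∀ w ∈ (maximalIdeal A ^ k).map (algebraMap A (D ⧸ 𝔫)),
                ∃ c, w - σ c ∈ (maximalIdeal A ^ (k + 1)).map (algebraMap A (D ⧸ 𝔫)) by
              obtain ⟨c, hc⟩ := H _ hb
              exact ⟨b + c, by rwa [map_add, ← sub_sub]⟩
            intro w hw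
            refine Submodule.span_induction ?_ ?_ ?_ ?_ hw
            · rintro _ ⟨a, ha, rfl⟩
              refine ⟨algebraMap A _ a, ?_⟩
              rw [σ.commutes, sub_self]
              exact zero_mem _
            · exact ⟨0, by simp⟩
            · rintro w₁ w₂ _ _ ⟨c₁, h₁⟩ ⟨c₂, h₂⟩
              exact ⟨c₁ + c₂, by rw [map_add, add_sub_add_comm]; exact add_mem h₁ h₂⟩
            · rintro r w₁ hw₁ ⟨c₁, h₁⟩
              obtain ⟨d, rfl⟩ := Ideal.Quotient.mk_surjective r
              obtain ⟨b', hb'⟩ := hτ (residue D d)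
              refine ⟨b' * c₁, ?_⟩
              have h2 : Ideal.Quotient.mk 𝔫 d - σ b' ∈ (maximalIdeal A).map (algebraMap A (D ⧸ 𝔫)) := by
                obtain ⟨d', hd'⟩ := Ideal.Quotient.mk_surjective (σ b')
                have h3 : d - d' ∈ maximalIdeal D := by
                  rw [← residue_eq_zero_iff, map_sub, sub_eq_zero, ← hb', ← hσ b', ← hd']
                  rfl
                rw [← hm] at h3
                have h4 := Ideal.mem_map_of_mem (Ideal.Quotient.mk 𝔫) h3
                rw [Ideal.map_map, map_sub, hd'] at h4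
                exact h4
              rw [show Ideal.Quotient.mk 𝔫 d • w₁ - σ (b' * c₁) =
                (Ideal.Quotient.mk 𝔫 d - σ b') * w₁ + σ b' * (w₁ - σ c₁) by rw [smul_eq_mul, map_mul]; ring]
              refine add_mem ?_ (Ideal.mul_mem_left _ _ h₁)
              rw [pow_succ', Ideal.map_mul]
              exact Ideal.mul_mem_mul h2 hw₁
        intro z
        obtain ⟨b, hb⟩ := key (n + 1) z
        rw [IsScalarTower.algebraMap_eq A D (D ⧸ 𝔫), ← Ideal.map_map] at hb
        change z - σ b ∈ 𝔫.map (Ideal.Quotient.mk 𝔫) at hb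
        rw [Ideal.map_quotient_self, Ideal.mem_bot, sub_eq_zero] at hb
        exact ⟨b, hb.symm⟩
      let 𝔫S : Ideal S := (maximalIdeal A ^ (n + 1)).map (algebraMap A S)
      have h𝔫S : 𝔫S ≤ maximalIdeal S := by
        show Ideal.map _ _ ≤ _
        rw [Ideal.map_pow, h.map_max]
        exact Ideal.pow_le_self (Nat.succ_ne_zero n)
      let T := S ⧸ 𝔫S
      haveI : Nontrivial T := Ideal.Quotient.nontrivial_iff.2
        (ne_top_of_le_ne_top (maximalIdeal.isMaximal S).ne_top h𝔫S)
      haveI : IsLocalRing T := .of_surjective' (Ideal.Quotient.mk 𝔫S) Ideal.Quotient.mk_surjective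
      haveI : IsLocalHom (Ideal.Quotient.mk 𝔫S) := .of_surjective _ Ideal.Quotient.mk_surjective
      let π : S →ₐ[A] T := Ideal.Quotient.mkₐ A 𝔫S
      let j : (D ⧸ 𝔫) →ₐ[A] T := Ideal.Quotient.liftₐ 𝔫 (π.comp D.val) fun d hd => by
        refine Ideal.Quotient.eq_zero_iff_mem.2 ?_
        have h5 := Ideal.mem_map_of_mem D.val.toRingHom hd
        rwa [Ideal.map_map, show D.val.toRingHom.comp (algebraMap A D) = algebraMap A S from D.val.comp_algebraMap] at h5
      have hcompat : π.comp θS = j.comp σ := by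
        refine algHom_eq_of_sub_mem (J := maximalIdeal T) (maximalIdeal_le_jacobson ⊥) fun b => ?_
        obtain ⟨d, hd⟩ := Ideal.Quotient.mk_surjective (σ b)
        show Ideal.Quotient.mk 𝔫S (θS b) - j (σ b) ∈ maximalIdeal T
        rw [← hd]
        show Ideal.Quotient.mk 𝔫S (θS b) - Ideal.Quotient.mk 𝔫S (d : S) ∈ maximalIdeal T
        rw [← map_sub, mem_maximalIdeal, mem_nonunits_iff, isUnit_map_iff]
        refine (mem_maximalIdeal _).1 ?_
        rw [← residue_eq_zero_iff, map_sub, hθS, sub_eq_zero]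
        show ResidueField.map (algebraMap D S) (τ b) = _
        rw [← hσ, ← hd]
        rfl
      let mkD : D →ₐ[A] D ⧸ 𝔫 := Ideal.Quotient.mkₐ A 𝔫
      let QD := Algebra.TensorProduct.map mkD (AlgHom.id A C)
      let Qσ := Algebra.TensorProduct.map σ (AlgHom.id A C)
      obtain ⟨ξ, hξ⟩ := Algebra.TensorProduct.map_surjective σ (AlgHom.id A C) hσs Function.surjective_id (QD x)
      let μb : (D ⧸ 𝔫) ⊗[A] C →ₐ[A] T := Algebra.TensorProduct.productMap j (π.comp θC)
      have hc1 : ∀ z, μb (QD z) = π (μ z) := fun z => by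
        induction z using TensorProduct.induction_on with
        | zero => simp
        | add a b ha hb => simp only [map_add, ha, hb]
        | tmul a c =>
          simp only [μb, μ, QD, Algebra.TensorProduct.map_tmul, Algebra.TensorProduct.productMap_apply_tmul,
            map_mul, AlgHom.id_apply]
          rfl
      have hc2 : ∀ z, μb (Qσ z) = π (μ' z) := fun z => by
        induction z using TensorProduct.induction_on with
        | zero => simp
        | add a b ha hb => simp only [map_add, ha, hb]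
        | tmul a c =>
          simp only [μb, μ', Qσ, Algebra.TensorProduct.map_tmul, Algebra.TensorProduct.productMap_apply_tmul,
            map_mul, AlgHom.id_apply]
          rw [← AlgHom.comp_apply j σ, ← hcompat]
          rfl
      have hξ0 : μ' ξ ∈ 𝔫S := Ideal.Quotient.eq_zero_iff_mem.1 (by
        show π (μ' ξ) = 0
        rw [← hc2]
        show μb (Algebra.TensorProduct.map σ (AlgHom.id A C) ξ) = 0
        rw [hξ, hc1, hx, map_zero])
      obtain ⟨v, hv, hvξ⟩ := h.exists_mul_mem_of_map_mem μ' hξ0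
      have hQD : Function.Surjective QD :=
        Algebra.TensorProduct.map_surjective mkD _ Ideal.Quotient.mk_surjective Function.surjective_id
      obtain ⟨v', hv'⟩ := hQD (Qσ v)
      refine ⟨v', ?_, ?_⟩
      · refine isUnit_of_map_unit (Ideal.Quotient.mk 𝔫S) _ ?_
        show IsUnit (π (μ v'))
        rw [← hc1, hv', hc2]
        exact hv.map π
      · have h6 : QD (v' * x) = 0 := by
          rw [map_mul, hv', ← hξ]
          show Qσ v * Qσ ξ = 0
          rw [← map_mul]
          have h7 := Ideal.mem_map_of_mem Qσ.toRingHom hvξ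
          rw [Ideal.map_map, show Qσ.toRingHom.comp (algebraMap A _) = algebraMap A ((D ⧸ 𝔫) ⊗[A] C) from
            Qσ.comp_algebraMap, IsScalarTower.algebraMap_eq A (D ⧸ 𝔫) ((D ⧸ 𝔫) ⊗[A] C), ← Ideal.map_map,
            IsScalarTower.algebraMap_eq A D (D ⧸ 𝔫), ← Ideal.map_map] at h7
          change _ ∈ (𝔫.map (Ideal.Quotient.mk 𝔫)).map _ at h7
          rw [Ideal.map_quotient_self, Ideal.map_bot, Ideal.mem_bot] at h7
          exact h7
        have h8 := (Algebra.TensorProduct.rTensor_ker (C := C) mkD Ideal.Quotient.mk_surjective).le h6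
        rw [show RingHom.ker mkD = 𝔫 from Ideal.mk_ker] at h8
        rw [IsScalarTower.algebraMap_eq A D (D ⊗[A] C), ← Ideal.map_map]
        exact h8
    let X := Localization.AtPrime q'
    haveI : IsNoetherianRing X := IsLocalization.isNoetherianRing q'.primeCompl _ inferInstance
    have hmX : (maximalIdeal A).map (algebraMap A X) ≠ ⊤ := by
      refine ne_top_of_le_ne_top (maximalIdeal.isMaximal X).ne_top ?_
      rw [IsScalarTower.algebraMap_eq A (D ⊗[A] C) X, ← Ideal.map_map, ← Localization.AtPrime.map_eq_maximalIdeal]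
      refine Ideal.map_mono (Ideal.map_le_iff_le_comap.2 fun a ha => ?_)
      show μ (algebraMap A _ a) ∈ maximalIdeal S
      rw [μ.commutes, ← h.map_max]
      exact Ideal.mem_map_of_mem _ ha
    have h0 : algebraMap (D ⊗[A] C) X x = 0 := by
      have h1 : algebraMap (D ⊗[A] C) X x ∈ ⨅ i : ℕ, ((maximalIdeal A).map (algebraMap A X)) ^ i := by
        refine Ideal.mem_iInf.2 fun i => ?_
        obtain ⟨v, hv, hvx⟩ := hstep i
        refine Ideal.pow_le_pow_right (Nat.le_succ i) ?_
        rw [← Ideal.map_pow, IsScalarTower.algebraMap_eq A (D ⊗[A] C) X, ← Ideal.map_map,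
          IsLocalization.algebraMap_mem_map_algebraMap_iff q'.primeCompl]
        exact ⟨v, fun hvq => (mem_maximalIdeal _).1 hvq hv, hvx⟩
      exact (Submodule.mem_bot X).1
        ((Ideal.iInf_pow_eq_bot_of_isLocalRing ((maximalIdeal A).map (algebraMap A X)) hmX).le h1)
    obtain ⟨⟨v, hv⟩, hvx⟩ := (IsLocalization.map_eq_zero_iff q'.primeCompl X x).1 h0
    exact ⟨v, not_not.1 fun hne => hv hne, hvx⟩
  haveI : IsNoetherianRing (D ⊗[A] C) := Algebra.FiniteType.isNoetherianRing D (D ⊗[A] C)
  obtain ⟨gens, hgens⟩ := IsNoetherian.noetherian (RingHom.ker μ.toRingHom)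
  choose v hv hvx using fun g : gens => hkill g (show μ g = 0 from hgens.le (Submodule.subset_span g.2))
  let v₀ := ∏ g, v g
  have hv₀ : IsUnit (μ v₀) := by
    rw [map_prod]
    exact IsUnit.prod_univ_iff.2 hv
  have hv₀x : ∀ x, μ x = 0 → v₀ * x = 0 := by
    intro x hx
    refine Submodule.span_induction (p := fun z _ => v₀ * z = 0) ?_ (mul_zero _)
      (fun a b _ _ ha hb => by rw [mul_add, ha, hb, add_zero])
      (fun r a _ ha => by rw [smul_eq_mul, mul_left_comm, ha, mul_zero]) (hgens.ge hx)
    intro g hg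
    show v₀ * g = 0
    rw [show v₀ = v ⟨g, hg⟩ * ∏ g' ∈ Finset.univ.erase ⟨g, hg⟩, v g' from
      (Finset.mul_prod_erase _ _ (Finset.mem_univ _)).symm, mul_right_comm, hvx, zero_mul]
  obtain ⟨R₀, hR₀⟩ := TensorProduct.exists_finset v₀
  obtain ⟨t, ht⟩ := hfg
  choose a ha d hd using fun x : FractionRing D => h.exists_fraction hmin D x
  let s : Finset D := R₀.image Prod.fst ∪ t.image d
  rw [Algebra.essFiniteType_iff]
  refine ⟨s, fun x => ?_⟩
  let P₀ := Algebra.adjoin A (s : Set D)
  have key : ∀ z ∈ Algebra.adjoin A (t : Set (FractionRing D)), ∃ b ∈ nonZeroDivisors A, ∃ y ∈ P₀,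
      algebraMap A (FractionRing D) b * z = algebraMap D (FractionRing D) y := by
    intro z hz
    induction hz using Algebra.adjoin_induction with
    | mem y hy => exact ⟨a y, ha y, d y, Algebra.subset_adjoin (Finset.mem_coe.2
        (Finset.mem_union_right _ (Finset.mem_image_of_mem _ hy))), hd y⟩
    | algebraMap r =>
      exact ⟨1, one_mem _, algebraMap A D r, P₀.algebraMap_mem r, by
        rw [map_one, one_mul, ← IsScalarTower.algebraMap_apply]⟩
    | add y z _ _ hy hz =>
      obtain ⟨b, hb, e, heE, he⟩ := hy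
      obtain ⟨c, hc, f, hfE, hf⟩ := hz
      refine ⟨b * c, mul_mem hb hc, algebraMap A D c * e + algebraMap A D b * f,
        P₀.add_mem (P₀.mul_mem (P₀.algebraMap_mem c) heE) (P₀.mul_mem (P₀.algebraMap_mem b) hfE), ?_⟩
      rw [map_add, map_mul, map_mul, map_mul, ← he, ← hf, ← IsScalarTower.algebraMap_apply,
        ← IsScalarTower.algebraMap_apply]
      ring
    | mul y z _ _ hy hz =>
      obtain ⟨b, hb, e, heE, he⟩ := hy
      obtain ⟨c, hc, f, hfE, hf⟩ := hz
      refine ⟨b * c, mul_mem hb hc, e * f, P₀.mul_mem heE hfE, ?_⟩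
      rw [map_mul, map_mul, ← he, ← hf]
      ring
  obtain ⟨c, hc, hcx⟩ := ht (algebraMap D (FractionRing D) x)
  obtain ⟨b, hb, y, hy, hyx⟩ := key _ hcx
  rw [← mul_assoc, ← map_mul, IsScalarTower.algebraMap_apply A D (FractionRing D), ← map_mul] at hyx
  have hyx' : algebraMap A D (b * c) * x = y := IsFractionRing.injective D (FractionRing D) hyx
  let bc := algebraMap A P₀ (b * c)
  let yP : P₀ := ⟨y, hy⟩
  obtain ⟨c₁, u₁, hu₁, hcu₁⟩ := hsurjE (x : S) (hDE x.2)
  let ιP : P₀ ⊗[A] C →ₐ[A] D ⊗[A] C := Algebra.TensorProduct.map P₀.val (AlgHom.id A C)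
  have hιP : Function.Injective ιP :=
    Module.Flat.rTensor_preserves_injective_linearMap (M := C) P₀.val.toLinearMap Subtype.val_injective
  obtain ⟨v₁, hv₁⟩ : ∃ v₁, ιP v₁ = v₀ := by
    rw [hR₀]
    show _ ∈ ιP.range
    refine sum_mem fun p hp => ?_
    exact ⟨(⟨p.1, Algebra.subset_adjoin (Finset.mem_coe.2 (Finset.mem_union_left _
      (Finset.mem_image_of_mem _ hp)))⟩ : P₀) ⊗ₜ p.2, rfl⟩
  have hrel : v₁ * (yP ⊗ₜ u₁ - bc ⊗ₜ c₁) = 0 := by
    apply hιP
    rw [map_mul, hv₁, map_zero]
    refine hv₀x _ ?_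
    show μ (ιP (yP ⊗ₜ u₁ - bc ⊗ₜ c₁)) = 0
    rw [map_sub, map_sub]
    show μ (y ⊗ₜ u₁) - μ (algebraMap A D (b * c) ⊗ₜ c₁) = 0
    rw [Algebra.TensorProduct.productMap_apply_tmul, Algebra.TensorProduct.productMap_apply_tmul, ← hyx',
      map_mul, ← hcu₁, mul_assoc]
    exact sub_self _
  let Ib : Ideal P₀ := Ideal.span {bc}
  let Ann : Submodule A P₀ :=
    LinearMap.ker ((Ideal.Quotient.mkₐ A Ib).toLinearMap.comp (LinearMap.mulLeft A yP))
  have hex : Function.Exact (Ann.subtype.rTensor C)
      (((Ideal.Quotient.mkₐ A Ib).toLinearMap.comp (LinearMap.mulLeft A yP)).rTensor C) :=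
    Module.Flat.rTensor_exact C (LinearMap.exact_subtype_ker_map _)
  let Qb := Algebra.TensorProduct.map (Ideal.Quotient.mkₐ A Ib) (AlgHom.id A C)
  have hQ : ∀ z, (((Ideal.Quotient.mkₐ A Ib).toLinearMap.comp (LinearMap.mulLeft A yP)).rTensor C) z =
      Qb ((yP ⊗ₜ 1) * z) := fun z => by
    induction z using TensorProduct.induction_on with
    | zero => simp
    | add p q hp hq => simp only [mul_add, map_add, hp, hq]
    | tmul p q => simp [Qb]
  have hmem : v₁ * ((1 : P₀) ⊗ₜ u₁) ∈ LinearMap.range (Ann.subtype.rTensor C) := by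
    refine (hex _).1 ?_
    rw [hQ]
    have h1 : (yP ⊗ₜ 1 : P₀ ⊗[A] C) * (v₁ * ((1 : P₀) ⊗ₜ u₁)) = v₁ * (bc ⊗ₜ c₁) := by
      rw [mul_left_comm, Algebra.TensorProduct.tmul_mul_tmul, mul_one, one_mul]
      exact sub_eq_zero.1 ((mul_sub v₁ _ _).symm.trans hrel)
    rw [h1, map_mul]
    show Qb v₁ * (Ideal.Quotient.mk Ib bc ⊗ₜ c₁) = 0
    rw [Ideal.Quotient.eq_zero_iff_mem.2 (Ideal.mem_span_singleton_self bc), TensorProduct.zero_tmul, mul_zero]
  let ν : P₀ ⊗[A] C →ₐ[A] S := μ.comp ιP
  obtain ⟨w, hwA, hwu⟩ : ∃ w ∈ Ann, IsUnit ((w : D) : S) := by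
    by_contra hne
    obtain ⟨z, hz⟩ := hmem
    have h1 : ∀ z, ν (Ann.subtype.rTensor C z) ∈ maximalIdeal S := fun z => by
      induction z using TensorProduct.induction_on with
      | zero => rw [map_zero, map_zero]; exact zero_mem _
      | add p q hp hq => rw [map_add, map_add]; exact add_mem hp hq
      | tmul p q =>
        show μ (((p : P₀) : D) ⊗ₜ q) ∈ _
        rw [Algebra.TensorProduct.productMap_apply_tmul]
        exact Ideal.mul_mem_right _ _ fun hu => hne ⟨p, p.2, hu⟩
    have h2 := h1 z
    rw [hz, map_mul] at h2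
    refine (mem_maximalIdeal _).1 h2 (IsUnit.mul ?_ ?_)
    · show IsUnit (μ (ιP v₁))
      rw [hv₁]; exact hv₀
    · show IsUnit (μ ((1 : D) ⊗ₜ u₁))
      rw [Algebra.TensorProduct.productMap_apply_tmul, map_one, one_mul]
      exact hu₁
  obtain ⟨p, hp⟩ := Ideal.mem_span_singleton.1
    (show yP * w ∈ Ib from Ideal.Quotient.eq_zero_iff_mem.1 hwA)
  refine ⟨(w : D), w.2, isUnit_of_map_unit (algebraMap D S) _ hwu, ?_⟩
  have h1 : y * (w : D) = algebraMap A D (b * c) * (p : D) := congrArg Subtype.val hp
  have h2 : x * (w : D) = (p : D) := by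
    rw [← hyx', mul_assoc] at h1
    exact (mul_cancel_left_mem_nonZeroDivisors
      (h.subalgebraMap_mem_nonZeroDivisors D (mul_mem hb hc))).1 h1
  rw [h2]
  exact p.2

end Groth.Agent.Hensel.IsEtLike
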