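import Groth.Agent.Hensel.EssSub

/-!
Total rings of fractions of subalgebras of ind-étale local extensions.
-/

set_option autoImplicit false
universe u

open IsLocalRing TensorProduct

namespace Groth.Agent.Hensel

variable {A : Type u} [CommRing A]

/-- Elements of the generic fibre are fractions with denominators from the base. -/
theorem exists_smul_eq_one_tmul {E : Type u} [CommRing E] [Algebra A E] (z : FractionRing A ⊗[A] E) :
    ∃ a ∈ nonZeroDivisors A, ∃ e : E, a • z = (1 : FractionRing A) ⊗ₜ[A] e := by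
  induction z using TensorProduct.induction_on with
  | zero => exact ⟨1, one_mem _, 0, by simp⟩
  | tmul k e =>
    obtain ⟨⟨r, a⟩, hra⟩ := IsLocalization.surj (nonZeroDivisors A) k
    refine ⟨a, a.2, r • e, ?_⟩
    rw [TensorProduct.smul_tmul', Algebra.smul_def, mul_comm, hra, TensorProduct.tmul_smul,
      TensorProduct.smul_tmul', Algebra.smul_def, mul_one]
  | add x y hx hy =>
    obtain ⟨a, ha, e, he⟩ := hx
    obtain ⟨b, hb, f, hf⟩ := hy
    refine ⟨a * b, mul_mem ha hb, b • e + a • f, ?_⟩
    rw [smul_add, TensorProduct.tmul_add, TensorProduct.tmul_smul, TensorProduct.tmul_smul, ← he, ← hf,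
      mul_smul, mul_smul, smul_comm a b x]

variable [IsLocalRing A]

/-- The base change to the total ring of fractions contains an ind-étale extension. -/
theorem one_tmul_injective {E : Type u} [CommRing E] [Algebra A E] [Module.Flat A E] :
    Function.Injective fun e : E => (1 : FractionRing A) ⊗ₜ[A] e :=
  Algebra.TensorProduct.includeRight_injective (A := FractionRing A) (IsFractionRing.injective A (FractionRing A))

namespace IsEtLike

variable {S : Type u} [CommRing S] [IsLocalRing S] [Algebra A S] [IsReduced A]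
variable (h : IsEtLike A S) (hmin : (minimalPrimes A).Finite)
include h hmin

/-- Every element regular in a subalgebra divides a regular element of the base. -/
theorem exists_mul_eq_algebraMap (D : Subalgebra A S) {d : D} (hd : d ∈ nonZeroDivisors D) :
    ∃ a ∈ nonZeroDivisors A, ∃ d' : D, d * d' = algebraMap A D a := by
  classical
  obtain ⟨E, hE, hdE⟩ := h.exists_essSub {(d : S)}
  haveI := hE.isLocalRing
  have hdE' : (d : S) ∈ E := hdE (Finset.mem_singleton_self _)
  haveI := isArtinianRing_fractionRing hmin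
  haveI := finite_genericFibre hE.essEtale
  haveI := (isEtLike_of_isEssentiallyEtale hE.essEtale).flat
  let K := FractionRing A
  haveI : IsArtinianRing K := isArtinianRing_fractionRing hmin
  let x : K ⊗[A] E := (1 : K) ⊗ₜ[A] (⟨d, hdE'⟩ : E)
  let T := Algebra.adjoin K {x}
  haveI : Module.Finite K T := Module.Finite.iff_fg.2 (IsNoetherian.noetherian (Subalgebra.toSubmodule T))
  haveI : IsArtinianRing T := IsArtinianRing.of_finite K T
  let xT : T := ⟨x, Algebra.subset_adjoin rfl⟩
  obtain ⟨n, t, ht⟩ := IsArtinian.exists_pow_succ_smul_dvd xT (1 : T)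
  rw [smul_eq_mul, smul_eq_mul, mul_one] at ht
  have key : ∀ z ∈ T, ∃ a ∈ nonZeroDivisors A, ∃ q : Polynomial A, a • z = Polynomial.aeval x q := by
    intro z hz
    induction hz using Algebra.adjoin_induction with
    | mem y hy => exact ⟨1, one_mem _, Polynomial.X, by rw [hy, one_smul, Polynomial.aeval_X]⟩
    | algebraMap k =>
      obtain ⟨⟨r, a⟩, hra⟩ := IsLocalization.surj (nonZeroDivisors A) k
      refine ⟨a, a.2, Polynomial.C r, ?_⟩
      rw [Polynomial.aeval_C, Algebra.algebraMap_eq_smul_one k, ← smul_assoc, Algebra.smul_def (a : A) k,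
        mul_comm, hra, algebraMap_smul, ← Algebra.algebraMap_eq_smul_one]
    | add y z _ _ hy hz =>
      obtain ⟨a, ha, q, hq⟩ := hy
      obtain ⟨b, hb, r, hr⟩ := hz
      refine ⟨a * b, mul_mem ha hb, b • q + a • r, ?_⟩
      rw [map_add, map_smul, map_smul, ← hq, ← hr, smul_add, mul_smul, mul_smul, smul_comm a b y]
    | mul y z _ _ hy hz =>
      obtain ⟨a, ha, q, hq⟩ := hy
      obtain ⟨b, hb, r, hr⟩ := hz
      refine ⟨a * b, mul_mem ha hb, q * r, ?_⟩
      rw [map_mul, ← hq, ← hr, smul_mul_smul_comm]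
  obtain ⟨a, ha, q, hq⟩ := key t t.2
  refine ⟨a, ha, Polynomial.aeval d q, ?_⟩
  have ht' : x ^ (n + 1) * (t : K ⊗[A] E) = x ^ n := congrArg Subtype.val ht
  have hE1 : (1 : K) ⊗ₜ[A] ((⟨d, hdE'⟩ : E) ^ (n + 1) * Polynomial.aeval (⟨d, hdE'⟩ : E) q) =
      (1 : K) ⊗ₜ[A] (algebraMap A E a * (⟨d, hdE'⟩ : E) ^ n) := by
    let ι : E →ₐ[A] K ⊗[A] E := Algebra.TensorProduct.includeRight
    show ι _ = ι _
    rw [map_mul, map_mul, map_pow, map_pow, ι.commutes, ← Polynomial.aeval_algHom_apply]
    show x ^ (n + 1) * Polynomial.aeval x q = algebraMap A _ a * x ^ n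
    rw [← hq, ← ht', mul_smul_comm]
    rw [Algebra.algebraMap_eq_smul_one, smul_mul_assoc, one_mul]
  have hS : (d : S) ^ (n + 1) * Polynomial.aeval (d : S) q = algebraMap A S a * (d : S) ^ n := by
    have := congrArg E.val (one_tmul_injective hE1)
    rw [map_mul, map_mul, map_pow, map_pow, E.val.commutes, ← Polynomial.aeval_algHom_apply] at this
    exact this
  have hD : d ^ n * (d * Polynomial.aeval d q) = d ^ n * algebraMap A D a := by
    apply Subtype.ext
    show (d : S) ^ n * ((d : S) * ((Polynomial.aeval d q : D) : S)) = (d : S) ^ n * algebraMap A S a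
    rw [show ((Polynomial.aeval d q : D) : S) = Polynomial.aeval (d : S) q from
      (Polynomial.aeval_algHom_apply D.val d q).symm, ← mul_assoc, ← pow_succ, hS, mul_comm]
  exact (mul_cancel_left_mem_nonZeroDivisors (pow_mem hd n)).1 hD

theorem isLocalization_fractionRing (D : Subalgebra A S) :
    IsLocalization ((nonZeroDivisors A).map (algebraMap A D)) (FractionRing D) := by
  refine ⟨⟨fun y => ?_, fun z => ?_, fun {x y} hxy => ⟨1, by rw [IsFractionRing.injective D (FractionRing D) hxy]⟩⟩⟩
  · obtain ⟨a, ha, hy⟩ := y.2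
    exact IsLocalization.map_units (FractionRing D)
      (⟨y, hy ▸ h.subalgebraMap_mem_nonZeroDivisors D ha⟩ : nonZeroDivisors D)
  · obtain ⟨⟨d, ⟨n, hn⟩⟩, hz⟩ := IsLocalization.surj (nonZeroDivisors D) z
    obtain ⟨a, ha, n', hn'⟩ := h.exists_mul_eq_algebraMap hmin D hn
    refine ⟨⟨d * n', ⟨_, a, ha, rfl⟩⟩, ?_⟩
    show z * algebraMap D (FractionRing D) (algebraMap A D a) = algebraMap D (FractionRing D) (d * n')
    rw [← hn', map_mul, ← mul_assoc, hz, map_mul]

theorem exists_fraction (D : Subalgebra A S) (x : FractionRing D) :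
    ∃ a ∈ nonZeroDivisors A, ∃ d : D, algebraMap A (FractionRing D) a * x = algebraMap D (FractionRing D) d := by
  haveI := h.isLocalization_fractionRing hmin D
  obtain ⟨⟨d, ⟨_, a, ha, rfl⟩⟩, hd⟩ := IsLocalization.surj ((nonZeroDivisors A).map (algebraMap A D)) x
  exact ⟨a, ha, d, by rw [mul_comm, IsScalarTower.algebraMap_apply A D (FractionRing D)]; exact hd⟩

/-- A subalgebra with finitely generated total ring of fractions lies in an essentially étale subalgebra. -/
theorem exists_essSub_le_of_fg (D : Subalgebra A S)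
    (hfg : ∃ t : Finset (FractionRing D), ∀ x : FractionRing D, ∃ a ∈ nonZeroDivisors A,
      algebraMap A (FractionRing D) a * x ∈ Algebra.adjoin A (t : Set (FractionRing D))) (s : Finset S) :
    ∃ E : Subalgebra A S, IsEssSub E ∧ D ≤ E ∧ (s : Set S) ⊆ E := by
  classical
  obtain ⟨t, ht⟩ := hfg
  choose a ha d hd using fun x : FractionRing D => h.exists_fraction hmin D x
  obtain ⟨E, hE, hsE⟩ := h.exists_essSub (s ∪ t.image fun x => (d x : S))
  rw [Finset.coe_union, Set.union_subset_iff] at hsE
  refine ⟨E, hE, fun x hx => ?_, hsE.1⟩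
  have key : ∀ z ∈ Algebra.adjoin A (t : Set (FractionRing D)), ∃ b ∈ nonZeroDivisors A, ∃ e : D,
      (e : S) ∈ E ∧ algebraMap A (FractionRing D) b * z = algebraMap D (FractionRing D) e := by
    intro z hz
    induction hz using Algebra.adjoin_induction with
    | mem y hy => exact ⟨a y, ha y, d y, hsE.2 (Finset.mem_coe.2 (Finset.mem_image_of_mem _ hy)), hd y⟩
    | algebraMap r =>
      exact ⟨1, one_mem _, algebraMap A D r, E.algebraMap_mem r, by
        rw [map_one, one_mul, ← IsScalarTower.algebraMap_apply]⟩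
    | add y z _ _ hy hz =>
      obtain ⟨b, hb, e, heE, he⟩ := hy
      obtain ⟨c, hc, f, hfE, hf⟩ := hz
      refine ⟨b * c, mul_mem hb hc, algebraMap A D c * e + algebraMap A D b * f,
        E.add_mem (E.mul_mem (E.algebraMap_mem c) heE) (E.mul_mem (E.algebraMap_mem b) hfE), ?_⟩
      rw [map_add, map_mul, map_mul, map_mul, ← he, ← hf, ← IsScalarTower.algebraMap_apply,
        ← IsScalarTower.algebraMap_apply]
      ring
    | mul y z _ _ hy hz =>
      obtain ⟨b, hb, e, heE, he⟩ := hy
      obtain ⟨c, hc, f, hfE, hf⟩ := hz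
      refine ⟨b * c, mul_mem hb hc, e * f, E.mul_mem heE hfE, ?_⟩
      rw [map_mul, map_mul, ← he, ← hf]
      ring
  obtain ⟨c, hc, hcx⟩ := ht (algebraMap D (FractionRing D) ⟨x, hx⟩)
  obtain ⟨b, hb, e, heE, he⟩ := key _ hcx
  rw [← mul_assoc, ← map_mul, IsScalarTower.algebraMap_apply A D (FractionRing D), ← map_mul] at he
  have he' : algebraMap A S (b * c) * x = (e : S) :=
    congrArg Subtype.val (IsFractionRing.injective D (FractionRing D) he)
  exact h.mem_of_mul_mem hE (E.algebraMap_mem (b * c)) (h.algebraMap_mem_nonZeroDivisors (mul_mem hb hc))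
    (by rw [he']; exact heE)

/-- Subalgebras of essentially étale subalgebras have finite generic fibres. -/
theorem exists_finset_span_of_le {D E : Subalgebra A S} (hle : D ≤ E) (hE : EGA4loc.IsEssentiallyEtale A E)
    [IsLocalRing E] :
    ∃ t : Finset (FractionRing D), ∀ x : FractionRing D, ∃ a ∈ nonZeroDivisors A,
      algebraMap A (FractionRing D) a * x ∈ Submodule.span A (t : Set (FractionRing D)) := by
  classical
  haveI := isArtinianRing_fractionRing hmin
  haveI := finite_genericFibre hE
  haveI := (isEtLike_of_isEssentiallyEtale hE).flat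
  let K := FractionRing A
  let φ : D → K ⊗[A] E := fun d => (1 : K) ⊗ₜ[A] Subalgebra.inclusion hle d
  obtain ⟨s₀, hs₀sub, hs₀⟩ := Submodule.fg_span_iff_fg_span_finset_subset (Set.range φ) |>.1
    (IsNoetherian.noetherian (Submodule.span K (Set.range φ)))
  choose g hg using fun y : s₀ => hs₀sub y.2
  refine ⟨(Finset.univ.image g).image (algebraMap D (FractionRing D)), fun x => ?_⟩
  obtain ⟨a, ha, d, hd⟩ := h.exists_fraction hmin D x
  have hd' : φ d ∈ Submodule.span K (s₀ : Set (K ⊗[A] E)) := hs₀ ▸ Submodule.subset_span ⟨d, rfl⟩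
  have key : ∀ z ∈ Submodule.span K (s₀ : Set (K ⊗[A] E)), ∃ b ∈ nonZeroDivisors A, ∃ e : D,
      e ∈ Submodule.span A (Set.range g) ∧ b • z = φ e := by
    intro z hz
    induction hz using Submodule.span_induction with
    | mem y hy => exact ⟨1, one_mem _, g ⟨y, hy⟩, Submodule.subset_span ⟨_, rfl⟩, by rw [one_smul, hg ⟨y, hy⟩]⟩
    | zero => exact ⟨1, one_mem _, 0, zero_mem _, by simp [φ]⟩
    | add y z _ _ hy hz =>
      obtain ⟨b, hb, e, hes, he⟩ := hy
      obtain ⟨c, hc, f, hfs, hf⟩ := hz
      refine ⟨b * c, mul_mem hb hc, c • e + b • f, add_mem (Submodule.smul_mem _ c hes) (Submodule.smul_mem _ b hfs), ?_⟩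
      simp only [φ] at he hf ⊢
      rw [map_add, map_smul, map_smul, TensorProduct.tmul_add, TensorProduct.tmul_smul, TensorProduct.tmul_smul,
        ← he, ← hf, smul_add, mul_smul, mul_smul, smul_comm b c y]
    | smul k y _ hy =>
      obtain ⟨b, hb, e, hes, he⟩ := hy
      obtain ⟨⟨r, c⟩, hrc⟩ := IsLocalization.surj (nonZeroDivisors A) k
      refine ⟨c * b, mul_mem c.2 hb, r • e, Submodule.smul_mem _ r hes, ?_⟩
      simp only [φ] at he ⊢
      rw [map_smul, TensorProduct.tmul_smul, ← he, mul_smul, smul_comm b k y, ← smul_assoc,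
        Algebra.smul_def (c : A) k, mul_comm, hrc, algebraMap_smul]
  obtain ⟨b, hb, e, hes, he⟩ := key _ hd'
  refine ⟨b * a, mul_mem hb ha, ?_⟩
  have hbd : b • d = e := by
    apply Subalgebra.inclusion_injective hle
    apply one_tmul_injective (A := A)
    show (1 : K) ⊗ₜ[A] Subalgebra.inclusion hle (b • d) = φ e
    rw [map_smul, TensorProduct.tmul_smul]
    exact he
  rw [map_mul, mul_assoc, hd, ← Algebra.smul_def, ← IsScalarTower.coe_toAlgHom' A D (FractionRing D),
    ← map_smul, hbd, Finset.coe_image, Finset.coe_image, Finset.coe_univ, Set.image_univ]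
  exact Submodule.span_image (IsScalarTower.toAlgHom A D (FractionRing D)).toLinearMap |>.ge
    (Submodule.mem_map_of_mem hes)

end IsEtLike

end Groth.Agent.Hensel
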