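import Groth.Agent.Hensel.RankOne
import Mathlib.RingTheory.Polynomial.UniversalFactorizationRing
import Mathlib.RingTheory.Etale.Basic
import Mathlib.RingTheory.Smooth.Flat

/-!
Lifting coprime monic factorisations along henselian pairs.
-/

namespace Groth.Agent.Hensel

open Polynomial TensorProduct

variable {A : Type*} [CommRing A] {I : Ideal A}

/-- A point of `U / IU` which becomes open after inverting `r` is cut out by some `e₀`. -/
lemma exists_rankOne_of_away {U U' : Type*} [CommRing U] [Algebra A U] [Module.Finite A U]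
    [CommRing U'] [Algebra A U'] [Algebra U U'] [IsScalarTower A U U']
    (r : U) [IsLocalization.Away r U'] [Algebra.FormallyUnramified A U']
    [Algebra.EssFiniteType A U'] (σ' : U' →ₐ[A] A ⧸ I) :
    ∃ e₀ : U, σ' (algebraMap U U' e₀) = 1 ∧ ∀ x : U, σ' (algebraMap U U' x) = 0 →
      e₀ * x ∈ I.map (algebraMap A U) := by
  let J' := I.map (algebraMap A U')
  let ψ : A ⧸ I →ₐ[A] U' ⧸ J' := Ideal.quotientMapₐ J' (Algebra.ofId A U') Ideal.le_comap_map
  let φ : U' ⊗[A] U' →ₐ[A] U' ⧸ J' :=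
    Algebra.TensorProduct.productMap (ψ.comp σ') (Ideal.Quotient.mkₐ A J')
  have hJ' : ∀ z ∈ J', σ' z = 0 := fun z hz ↦ by
    have : J' ≤ RingHom.ker σ'.toRingHom := Ideal.map_le_iff_le_comap.2 fun a ha ↦ by
      simp [Ideal.Quotient.eq_zero_iff_mem, ha]
    exact this hz
  obtain ⟨f, hf⟩ := Ideal.Quotient.mk_surjective (φ (Algebra.FormallyUnramified.elem A U'))
  have hφe : ∀ z, Ideal.Quotient.mk J' (z * f) = ψ (σ' z) * Ideal.Quotient.mk J' f := fun z ↦ by
    rw [map_mul, hf]
    simpa [φ] using congr(φ $(Algebra.FormallyUnramified.one_tmul_mul_elem (R := A) z))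
  have hσf : σ' f = 1 := by
    let σ'' : U' ⧸ J' →ₐ[A] A ⧸ I := Ideal.Quotient.liftₐ J' σ' hJ'
    have hσψ : σ''.comp ψ = AlgHom.id A _ := Ideal.Quotient.algHom_ext A (by ext)
    have h1 : σ''.comp φ = σ'.comp (Algebra.TensorProduct.lmul' A) := by
      refine Algebra.TensorProduct.ext ?_ ?_
      · ext s
        simpa [φ] using DFunLike.congr_fun hσψ (σ' s)
      · ext s; simp [φ, σ'']
    have h2 := DFunLike.congr_fun h1 (Algebra.FormallyUnramified.elem A U')
    rw [AlgHom.comp_apply, AlgHom.comp_apply, Algebra.FormallyUnramified.lmul_elem, map_one,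
      ← hf] at h2
    exact h2
  obtain ⟨⟨a, s⟩, has⟩ := IsLocalization.surj (Submonoid.powers r) f
  dsimp only at has
  set σ : U →ₐ[A] A ⧸ I := σ'.comp (IsScalarTower.toAlgHom A U U') with hσdef
  have hr : IsUnit (σ r) :=
    (IsLocalization.Away.algebraMap_isUnit (S := U') r).map σ'
  have hs : IsUnit (σ s) := by
    obtain ⟨n, hn⟩ := s.2
    rw [← hn, map_pow]; exact hr.pow n
  have hσa : σ a = σ s := by
    have := congr(σ' $has)
    simpa [hσf, σ] using this.symm
  have hkey : ∀ x : U, σ x = 0 → ∃ m : ℕ, r ^ m * (a * x) ∈ I.map (algebraMap A U) := by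
    intro x hx
    have h1 : algebraMap U U' (a * x) ∈ (I.map (algebraMap A U)).map (algebraMap U U') := by
      rw [Ideal.map_map, ← IsScalarTower.algebraMap_eq, map_mul, ← has,
        show f * algebraMap U U' s * algebraMap U U' x =
          algebraMap U U' s * (algebraMap U U' x * f) by ring]
      refine Ideal.mul_mem_left _ _ (Ideal.Quotient.eq_zero_iff_mem.1 ?_)
      rw [hφe]
      change ψ (σ x) * _ = 0
      rw [hx, map_zero, zero_mul]
    obtain ⟨⟨⟨y, hy⟩, ⟨_, m, rfl⟩⟩, hxy⟩ :=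
      (IsLocalization.mem_map_algebraMap_iff (Submonoid.powers r) U').1 h1
    rw [← map_mul, IsLocalization.eq_iff_exists (Submonoid.powers r) U'] at hxy
    obtain ⟨⟨_, m', rfl⟩, hm'⟩ := hxy
    dsimp only at hm'
    refine ⟨m' + m, ?_⟩
    rw [pow_add, mul_assoc, show r ^ m * (a * x) = a * x * r ^ m by ring, hm']
    exact Ideal.mul_mem_left _ _ hy
  obtain ⟨N, g, hg⟩ := Module.Finite.exists_fin (R := A) (M := U)
  choose w hw using fun x : U ↦ Ideal.Quotient.mk_surjective (I := I) (σ x)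
  choose m hm using fun j ↦ hkey (g j - algebraMap A U (w (g j))) (by simp [hw])
  obtain ⟨c, hc⟩ := Ideal.Quotient.mk_surjective (I := I)
    (↑((hr.pow (∑ j, m j)).mul (hσa ▸ hs)).unit⁻¹ : A ⧸ I)
  refine ⟨algebraMap A U c * (r ^ (∑ j, m j) * a), ?_, fun x hx ↦ ?_⟩
  · change σ _ = 1
    rw [map_mul, map_mul, map_pow, AlgHom.commutes, Ideal.Quotient.algebraMap_eq, hc]
    exact ((hr.pow (∑ j, m j)).mul (hσa ▸ hs)).val_inv_mul
  · obtain ⟨b, hb⟩ := (Submodule.mem_span_range_iff_exists_fun A).1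
      (hg ▸ Submodule.mem_top : x ∈ _)
    change σ x = 0 at hx
    have hbI : ∑ j, b j * w (g j) ∈ I := by
      rw [← Ideal.Quotient.eq_zero_iff_mem, map_sum, ← hx, ← hb, map_sum]
      simp [hw, Algebra.smul_def]
    have : x = ∑ j, algebraMap A U (b j) * (g j - algebraMap A U (w (g j))) +
        algebraMap A U (∑ j, b j * w (g j)) := by
      rw [← hb, map_sum, ← Finset.sum_add_distrib]
      exact Finset.sum_congr rfl fun j _ ↦ by rw [Algebra.smul_def, map_mul]; ring
    rw [this, mul_add, Finset.mul_sum]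
    refine Ideal.add_mem _ (Ideal.sum_mem _ fun j _ ↦ ?_)
      (Ideal.mul_mem_left _ _ (Ideal.mem_map_of_mem _ hbI))
    obtain ⟨d, hd⟩ : r ^ m j ∣ r ^ (∑ j, m j) :=
      pow_dvd_pow r (Finset.single_le_sum (fun _ _ ↦ Nat.zero_le _) (Finset.mem_univ j))
    rw [hd, show algebraMap A U c * (r ^ m j * d * a) *
        (algebraMap A U (b j) * (g j - algebraMap A U (w (g j)))) =
      (algebraMap A U c * d * algebraMap A U (b j)) *
        (r ^ m j * (a * (g j - algebraMap A U (w (g j))))) by ring]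
    exact Ideal.mul_mem_left _ _ (hm j)

/-- Monic polynomials which are coprime modulo an ideal in the radical are coprime. -/
lemma isCoprime_of_map (hI : I ≤ Ideal.jacobson ⊥) {g h : A[X]} (hg : g.Monic)
    (hc : IsCoprime (g.map (Ideal.Quotient.mk I)) (h.map (Ideal.Quotient.mk I))) :
    IsCoprime g h := by
  obtain ⟨u, v, huv⟩ := hc
  obtain ⟨u, rfl⟩ := Polynomial.map_surjective _ Ideal.Quotient.mk_surjective u
  obtain ⟨v, rfl⟩ := Polynomial.map_surjective _ Ideal.Quotient.mk_surjective v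
  haveI := hg.finite_adjoinRoot
  have h1 : AdjoinRoot.mk g (u * g + v * h - 1) ∈ I.map (algebraMap A (AdjoinRoot g)) := by
    have h0 : u * g + v * h - 1 ∈ I.map (C : A →+* A[X]) := by
      rw [Ideal.mem_map_C_iff]
      intro i
      rw [← Ideal.Quotient.eq_zero_iff_mem, ← coeff_map]
      simp [huv]
    have := Ideal.mem_map_of_mem (AdjoinRoot.mk g) h0
    rwa [Ideal.map_map] at this
  have h2 : IsUnit (AdjoinRoot.mk g (v * h)) := by
    refine isUnit_of_sub_one_mem (map_le_jacobson_bot_of_isIntegral (I := I) hI) ?_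
    simpa using h1
  obtain ⟨z, hz⟩ := h2.exists_right_inv
  obtain ⟨z, rfl⟩ := AdjoinRoot.mk_surjective z
  rw [← map_mul, ← map_one (AdjoinRoot.mk g), AdjoinRoot.mk_eq_mk] at hz
  obtain ⟨t, ht⟩ := hz
  exact ⟨-t, v * z, by linear_combination ht⟩

/-- Coprime monic factorisations lift, given Gabber's condition. -/
theorem exists_factorization_lift (hG : GabberRoots A I) (hI : I ≤ Ideal.jacobson ⊥) {f : A[X]}
    (hf : f.Monic) {g₀ h₀ : (A ⧸ I)[X]} (hg₀ : g₀.Monic) (hh₀ : h₀.Monic) (hc : IsCoprime g₀ h₀)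
    (hfg : f.map (Ideal.Quotient.mk I) = g₀ * h₀) :
    ∃ g h : A[X], g.Monic ∧ h.Monic ∧ f = g * h ∧ IsCoprime g h ∧
      g.map (Ideal.Quotient.mk I) = g₀ ∧ h.map (Ideal.Quotient.mk I) = h₀ := by
  obtain hsub | hnt := subsingleton_or_nontrivial (A ⧸ I)
  · have : Subsingleton A := by
      refine subsingleton_of_zero_eq_one (isUnit_zero_iff.1 ?_)
      exact isUnit_of_mk hI (isUnit_of_subsingleton _)
    exact ⟨1, 1, monic_one, monic_one, Subsingleton.elim _ _, isCoprime_one_left,
      Subsingleton.elim _ _, Subsingleton.elim _ _⟩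
  let m := g₀.natDegree
  let k := h₀.natDegree
  have hn : f.natDegree = m + k := by
    rw [← hg₀.natDegree_mul hh₀, ← hfg, hf.natDegree_map]
  let p : MonicDegreeEq A f.natDegree := .mk f hf rfl
  let U := UniversalFactorizationRing m k hn p
  let U' := UniversalCoprimeFactorizationRing m k hn p
  let q : { q : MonicDegreeEq (A ⧸ I) m × MonicDegreeEq (A ⧸ I) k //
      q.1.1 * q.2.1 = p.1.map (algebraMap A (A ⧸ I)) ∧ IsCoprime q.1.1 q.2.1 } :=
    ⟨(.mk g₀ hg₀ rfl, .mk h₀ hh₀ rfl), hfg.symm, hc⟩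
  let σ' : U' →ₐ[A] A ⧸ I := (UniversalCoprimeFactorizationRing.homEquiv _ m k hn p).symm q
  obtain ⟨e₀, he₀, hker⟩ := exists_rankOne_of_away (U := U) (U' := U')
    (UniversalFactorizationRing.presentation m k hn p).jacobian σ'
  obtain ⟨τ, hτ⟩ := exists_algHom_of_rankOne hG hI (IsScalarTower.toAlgHom A U U') σ' e₀
    (σ'.comp (IsScalarTower.toAlgHom A U U')) rfl he₀ hker
  rcases hfac : UniversalFactorizationRing.homEquiv A m k hn p τ with ⟨⟨g, h⟩, hgh⟩
  have hgh' : g.1 * h.1 = f := by rw [hgh]; exact Polynomial.map_id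
  have hσ : UniversalFactorizationRing.homEquiv (A ⧸ I) m k hn p
      ((Ideal.Quotient.mkₐ A I).comp τ) = ⟨q.1, q.2.1⟩ := by
    rw [hτ]
    have h1 : UniversalCoprimeFactorizationRing.homEquiv (A ⧸ I) m k hn p σ' = q :=
      Equiv.apply_symm_apply _ _
    exact Subtype.ext (congrArg Subtype.val h1 : _)
  have h1 : g.1.map (Ideal.Quotient.mk I) = g₀ := by
    have h1 := congr(($hσ).1.1.1)
    have h2 : g = (UniversalFactorizationRing.homEquiv A m k hn p τ).1.1 := by rw [hfac]
    rw [h2]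
    simpa [UniversalFactorizationRing.homEquiv, Polynomial.map_map, q] using! h1
  have h2 : h.1.map (Ideal.Quotient.mk I) = h₀ := by
    have h1 := congr(($hσ).1.2.1)
    have h2 : h = (UniversalFactorizationRing.homEquiv A m k hn p τ).1.2 := by rw [hfac]
    rw [h2]
    simpa [UniversalFactorizationRing.homEquiv, Polynomial.map_map, q] using! h1
  exact ⟨g.1, h.1, g.monic, h.monic, hgh'.symm,
    isCoprime_of_map hI g.monic (by rw [h1, h2]; exact hc), h1, h2⟩

end Groth.Agent.Hensel
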