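import Groth.Agent.Hensel.EssSub
import Groth.Agent.Hensel.Local
import Groth.Agent.Hensel.EssEt
import Mathlib.RingTheory.Etale.StandardEtale
import Mathlib.RingTheory.Henselian
import Mathlib.RingTheory.Flat.Basic
import Mathlib.LinearAlgebra.TensorProduct.Finiteness

/-!
# The ind-étale part of a henselian local subring of an ind-étale extension

For a henselian local subalgebra `H` of `S` dominated by `S`, `indSub H` is the union of the étale stages
with values in `H`: a henselian ind-étale local algebra with the residue field of `H`.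
-/

set_option autoImplicit false
set_option linter.style.haveILetI false

universe u

open IsLocalRing TensorProduct

namespace Groth.Agent.Hensel.IndSub

variable {A S : Type u} [CommRing A] [CommRing S] [Algebra A S]

/-- Elements coming from étale stages with values in `H`. -/
def indSub (H : Subalgebra A S) : Subalgebra A S where
  carrier := {x | ∃ (C : Type u) (_ : CommRing C) (_ : Algebra A C), Algebra.Etale A C ∧
    ∃ θ : C →ₐ[A] S, θ.range ≤ H ∧ x ∈ θ.range}
  mul_mem' := by
    rintro x y ⟨C, _, _, hC, θ, hθ, c, rfl⟩ ⟨C', _, _, hC', θ', hθ', c', rfl⟩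
    haveI := hC
    haveI := hC'
    refine ⟨C ⊗[A] C', inferInstance, inferInstance, Algebra.Etale.comp A C (C ⊗[A] C'),
      Algebra.TensorProduct.productMap θ θ', ?_, c ⊗ₜ c', by simp⟩
    rw [Algebra.TensorProduct.productMap_range]
    exact sup_le hθ hθ'
  add_mem' := by
    rintro x y ⟨C, _, _, hC, θ, hθ, c, rfl⟩ ⟨C', _, _, hC', θ', hθ', c', rfl⟩
    haveI := hC
    haveI := hC'
    refine ⟨C ⊗[A] C', inferInstance, inferInstance, Algebra.Etale.comp A C (C ⊗[A] C'),
      Algebra.TensorProduct.productMap θ θ', ?_, c ⊗ₜ 1 + 1 ⊗ₜ c', by simp⟩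
    rw [Algebra.TensorProduct.productMap_range]
    exact sup_le hθ hθ'
  algebraMap_mem' a := ⟨A, inferInstance, inferInstance, inferInstance, Algebra.ofId A S,
    fun x ⟨b, hb⟩ => hb ▸ H.algebraMap_mem b, a, rfl⟩

variable {H : Subalgebra A S}

theorem indSub_le : indSub H ≤ H := fun _ ⟨_, _, _, _, _, hθ, hx⟩ => hθ hx

theorem range_le_indSub {C : Type u} [CommRing C] [Algebra A C] [Algebra.Etale A C] (θ : C →ₐ[A] S)
    (hθ : θ.range ≤ H) : θ.range ≤ indSub H :=
  fun _ hx => ⟨C, inferInstance, inferInstance, inferInstance, θ, hθ, hx⟩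

/-- Finitely many elements lie in a common stage. -/
theorem exists_stage (s : Finset S) (hs : (s : Set S) ⊆ indSub H) :
    ∃ (C : Type u) (_ : CommRing C) (_ : Algebra A C), Algebra.Etale A C ∧
      ∃ θ : C →ₐ[A] S, θ.range ≤ H ∧ (s : Set S) ⊆ θ.range := by
  classical
  induction s using Finset.induction_on with
  | empty => exact ⟨A, inferInstance, inferInstance, inferInstance, Algebra.ofId A S,
      fun x ⟨b, hb⟩ => hb ▸ H.algebraMap_mem b, by simp⟩
  | @insert x t _ ih =>
    rw [Finset.coe_insert, Set.insert_subset_iff] at hs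
    obtain ⟨C, _, _, hC, θ, hθ, ht⟩ := ih hs.2
    obtain ⟨C', _, _, hC', θ', hθ', hx⟩ := hs.1
    haveI := hC
    haveI := hC'
    refine ⟨C ⊗[A] C', inferInstance, inferInstance, Algebra.Etale.comp A C (C ⊗[A] C'),
      Algebra.TensorProduct.productMap θ θ', ?_, ?_⟩
    · rw [Algebra.TensorProduct.productMap_range]
      exact sup_le hθ hθ'
    · rw [Finset.coe_insert, Algebra.TensorProduct.productMap_range, Set.insert_subset_iff]
      exact ⟨(le_sup_right : θ'.range ≤ θ.range ⊔ θ'.range) hx,
        fun z hz => (le_sup_left : θ.range ≤ θ.range ⊔ θ'.range) (ht hz)⟩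

variable [IsLocalRing S] [IsLocalHom (algebraMap H S)]

theorem inv_mem {x y : S} (hx : x ∈ indSub H) (hxy : x * y = 1) : y ∈ indSub H := by
  obtain ⟨C, _, _, hC, θ, hθ, c, rfl⟩ := hx
  haveI := hC
  replace hxy : θ c * y = 1 := hxy
  let θ' : Localization.Away c →ₐ[A] S :=
    IsLocalization.liftAlgHom (M := Submonoid.powers c) (f := θ) fun u => by
      obtain ⟨n, hn⟩ := u.2
      rw [← hn, map_pow]
      exact (IsUnit.of_mul_eq_one y hxy).pow n
  have hθ' : ∀ v, θ' (algebraMap C (Localization.Away c) v) = θ v := fun v =>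
    IsLocalization.lift_eq (M := Submonoid.powers c) _ v
  have hyH : y ∈ H := by
    obtain ⟨w, hw⟩ := (isUnit_of_map_unit (algebraMap H S) ⟨θ c, hθ ⟨c, rfl⟩⟩
      (IsUnit.of_mul_eq_one y hxy)).exists_right_inv
    have h1 : θ c * (w : S) = 1 := congrArg Subtype.val hw
    rw [show y = (w : S) by linear_combination (w : S) * hxy - y * h1]
    exact w.2
  refine ⟨Localization.Away c, inferInstance, inferInstance, inferInstance, θ', ?_, ?_⟩
  · rintro _ ⟨z, rfl⟩
    obtain ⟨v, u, rfl⟩ := IsLocalization.exists_mk'_eq (Submonoid.powers c) z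
    obtain ⟨n, hn⟩ := u.2
    have h1 : θ' (IsLocalization.mk' _ v u) * θ c ^ n = θ v := by
      rw [← map_pow, show c ^ n = (u : C) from hn, ← hθ', ← hθ', ← map_mul, IsLocalization.mk'_spec]
    show θ' _ ∈ H
    rw [show θ' (IsLocalization.mk' _ v u) = θ v * y ^ n by
      rw [← h1, mul_assoc, ← mul_pow, hxy, one_pow, mul_one]]
    exact mul_mem (hθ ⟨v, rfl⟩) (pow_mem hyH n)
  · obtain ⟨d, hd⟩ := (IsLocalization.map_units (Localization.Away c)
      (⟨c, Submonoid.mem_powers c⟩ : Submonoid.powers c)).exists_right_inv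
    refine ⟨d, ?_⟩
    show θ' d = y
    have h1 : θ c * θ' d = 1 := by rw [← hθ', ← map_mul, hd, map_one]
    linear_combination y * h1 - θ' d * hxy

theorem isLocalHom : IsLocalHom (algebraMap (indSub H) S) := ⟨fun x hx => by
  obtain ⟨y, hy⟩ := hx.exists_right_inv
  exact IsUnit.of_mul_eq_one ⟨y, inv_mem x.2 hy⟩ (Subtype.ext hy)⟩

theorem isLocalRing : IsLocalRing (indSub H) := by
  haveI := isLocalHom (H := H)
  exact IsLocalRing.of_isUnit_or_isUnit_one_sub_self fun x =>
    (IsLocalRing.isUnit_or_isUnit_one_sub_self (x : S)).imp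
      (fun hu => isUnit_of_map_unit (algebraMap (indSub H) S) x hu)
      (fun hu => isUnit_of_map_unit (algebraMap (indSub H) S) (1 - x) hu)

/-- Simple roots in `H` of polynomials over a stage lie in `indSub H`. -/
theorem mem_of_simple_root {C : Type u} [CommRing C] [Algebra A C] [Algebra.Etale A C] (θ : C →ₐ[A] S)
    (hθ : θ.range ≤ H) (f : Polynomial C) (hf : f.Monic) {x : S} (hxH : x ∈ H)
    (hx : f.eval₂ θ.toRingHom x = 0) (hu : IsUnit ((Polynomial.derivative f).eval₂ θ.toRingHom x)) :
    x ∈ indSub H := by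
  letI : Algebra C H := (θ.codRestrict H fun c => hθ ⟨c, rfl⟩).toRingHom.toAlgebra
  haveI : IsScalarTower A C H := IsScalarTower.of_algebraMap_eq fun a => Subtype.ext (θ.commutes a).symm
  let SP : StandardEtalePair C :=
    { f := f, monic_f := hf, g := Polynomial.derivative f, cond := ⟨1, 0, 1, by simp⟩ }
  have hval : ∀ p : Polynomial C,
      ((Polynomial.aeval (⟨x, hxH⟩ : H) p : H) : S) = p.eval₂ θ.toRingHom x := fun p => by
    rw [Polynomial.aeval_def]
    exact Polynomial.hom_eval₂ p (algebraMap C H) H.val.toRingHom ⟨x, hxH⟩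
  have hmap : SP.HasMap (⟨x, hxH⟩ : H) := ⟨Subtype.ext ((hval f).trans hx),
    isUnit_of_map_unit (algebraMap H S) _
      (show IsUnit ((Polynomial.aeval (⟨x, hxH⟩ : H) (Polynomial.derivative f) : H) : S) by rw [hval]; exact hu)⟩
  letI : Algebra A SP.Ring := ((algebraMap C SP.Ring).comp (algebraMap A C)).toAlgebra
  haveI : IsScalarTower A C SP.Ring := IsScalarTower.of_algebraMap_eq fun _ => rfl
  haveI : Algebra.Etale A SP.Ring := Algebra.Etale.comp A C SP.Ring
  exact ⟨SP.Ring, inferInstance, inferInstance, inferInstance, H.val.comp ((SP.lift _ hmap).restrictScalars A),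
    fun z ⟨w, hw⟩ => hw ▸ (SP.lift _ hmap w).2, SP.X, congrArg Subtype.val (SP.lift_X _ hmap)⟩

variable [HenselianLocalRing H]

theorem henselianLocalRing : HenselianLocalRing (indSub H) := by
  classical
  haveI := isLocalRing (H := H)
  haveI := isLocalHom (H := H)
  refine { is_henselian := fun f hf a₀ hfa hf' => ?_ }
  let i : indSub H →+* H := (Subalgebra.inclusion indSub_le).toRingHom
  obtain ⟨a, ha, haa⟩ := HenselianLocalRing.is_henselian (f.map i) (hf.map i) (i a₀)
    (by
      rw [Polynomial.eval_map, Polynomial.eval₂_at_apply, mem_maximalIdeal, mem_nonunits_iff]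
      intro hu
      exact (mem_maximalIdeal _).1 hfa (isUnit_of_map_unit (algebraMap (indSub H) S) _ (hu.map H.val)))
    (by rw [Polynomial.derivative_map, Polynomial.eval_map, Polynomial.eval₂_at_apply]; exact hf'.map i)
  obtain ⟨C, _, _, hC, θ, hθ, hsC⟩ := exists_stage ((f.map (indSub H).val.toRingHom).coeffs) fun z hz => by
    obtain ⟨m, -, rfl⟩ := Polynomial.mem_coeffs_iff.1 hz
    rw [Polynomial.coeff_map]
    exact (f.coeff m).2
  haveI := hC
  obtain ⟨fC, hfC, -, hfCm⟩ := Polynomial.lifts_and_natDegree_eq_and_monic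
    ((Polynomial.lifts_iff_coeff_lifts (f := θ.toRingHom) (f.map (indSub H).val.toRingHom)).2 fun m => by
      by_cases hm : (f.map (indSub H).val.toRingHom).coeff m = 0
      · exact ⟨0, by rw [map_zero, hm]⟩
      · exact hsC (Polynomial.coeff_mem_coeffs hm)) (hf.map _)
  have hev : ∀ p : Polynomial (indSub H), (((p.map i).eval a : H) : S) = (p.map (indSub H).val.toRingHom).eval (a : S) :=
    fun p => by
    rw [Polynomial.eval_map, Polynomial.eval_map]
    exact Polynomial.hom_eval₂ p i H.val.toRingHom a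
  have hx : (a : S) ∈ indSub H := by
    refine mem_of_simple_root θ hθ fC hfCm a.2 ?_ ?_
    · rw [Polynomial.eval₂_eq_eval_map, hfC, ← hev]
      exact congrArg Subtype.val ha
    · rw [Polynomial.eval₂_eq_eval_map, ← Polynomial.derivative_map, hfC, Polynomial.derivative_map, ← hev]
      refine (?_ : IsUnit (((Polynomial.derivative f).map i).eval a)).map H.val
      by_contra hnu
      have h1 : ((Polynomial.derivative f).map i).eval (i a₀) ∈ maximalIdeal H := by
        obtain ⟨q, hq⟩ := Polynomial.sub_dvd_eval_sub a (i a₀) ((Polynomial.derivative f).map i)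
        rw [show ((Polynomial.derivative f).map i).eval (i a₀) =
          ((Polynomial.derivative f).map i).eval a - (a - i a₀) * q by rw [← hq]; ring]
        exact sub_mem ((mem_maximalIdeal _).2 hnu) (Ideal.mul_mem_right _ _ haa)
      rw [Polynomial.eval_map, Polynomial.eval₂_at_apply] at h1
      exact (mem_maximalIdeal _).1 h1 (hf'.map i)
  refine ⟨⟨a, hx⟩, ?_, ?_⟩
  · apply Subtype.ext
    rw [show ((Polynomial.eval (⟨(a : S), hx⟩ : indSub H) f : indSub H) : S) =
      (f.map (indSub H).val.toRingHom).eval (a : S) from (Polynomial.eval_map_apply (indSub H).val.toRingHom _).symm,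
      ← hev]
    exact congrArg Subtype.val ha
  · rw [mem_maximalIdeal, mem_nonunits_iff]
    exact fun hu => (mem_maximalIdeal _).1 haa (by
      have h2 := hu.map i
      rwa [map_sub, show i ⟨(a : S), hx⟩ = a from Subtype.ext rfl] at h2)

variable [IsLocalRing A]

theorem exists_essSub (h : IsEtLike A S) (s : Finset S) (hs : (s : Set S) ⊆ indSub H) :
    ∃ E : Subalgebra A S, IsEssSub E ∧ (s : Set S) ⊆ E ∧ E ≤ indSub H := by
  obtain ⟨C, _, _, hC, θ, hθ, hsC⟩ := exists_stage s hs
  haveI := hC
  obtain ⟨E, hE, hle, hE'⟩ := h.exists_essSub_of_algHom θ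
  refine ⟨E, hE, fun z hz => hle (hsC hz), fun x hx => ?_⟩
  obtain ⟨c, u, hu, hxu⟩ := hE' x hx
  obtain ⟨y, hy⟩ := hu.exists_right_inv
  rw [show x = θ c * y by rw [← hxu, mul_assoc, hy, mul_one]]
  exact mul_mem (range_le_indSub θ hθ ⟨c, rfl⟩) (inv_mem (range_le_indSub θ hθ ⟨u, rfl⟩) hy)

/-- `indSub H` is saturated for regular elements of `A`. -/
theorem mem_of_mul_mem (h : IsEtLike A S) {a : A} (ha : a ∈ nonZeroDivisors A) {x : S}
    (hax : algebraMap A S a * x ∈ indSub H) : x ∈ indSub H := by
  classical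
  obtain ⟨E, hE, hsE, hEU⟩ := exists_essSub h {algebraMap A S a * x} (by simpa using hax)
  exact hEU (h.mem_of_mul_mem hE (E.algebraMap_mem a) (h.algebraMap_mem_nonZeroDivisors ha)
    (hsE (by simp)))

/-- The residue field is that of `H`. -/
theorem exists_sub_mem [IsLocalHom (algebraMap A S)] [Algebra.IsSeparable (ResidueField A) (ResidueField S)]
    (x : S) (hx : x ∈ H) : ∃ u ∈ indSub H, x - u ∈ maximalIdeal S := by
  have hθi : IsIntegral (ResidueField A) (residue S x) := Algebra.IsIntegral.isIntegral _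
  obtain ⟨f, hf, -, hfmon⟩ := Polynomial.lifts_and_natDegree_eq_and_monic
    (Polynomial.map_surjective (residue A) residue_surjective (minpoly (ResidueField A) (residue S x)))
    (minpoly.monic hθi)
  have haev : ∀ (z : S) (p : Polynomial A), residue S (Polynomial.aeval z p) =
      Polynomial.aeval (residue S z) (p.map (residue A)) := fun z p => by
    rw [Polynomial.aeval_def, Polynomial.aeval_def, Polynomial.eval₂_map, Polynomial.hom_eval₂]
    rfl
  have hHS : ∀ z : H, residue S (z : S) = 0 → z ∈ maximalIdeal H := fun z hz => by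
    rw [mem_maximalIdeal, mem_nonunits_iff]
    exact fun hu => (residue_ne_zero_iff_isUnit _).2 (hu.map H.val) hz
  have hval : ∀ (p : Polynomial A) (z : H), (((p.map (algebraMap A H)).eval z : H) : S) = Polynomial.aeval (z : S) p :=
    fun p z => by
    rw [Polynomial.eval_map, Polynomial.aeval_def]
    exact Polynomial.hom_eval₂ p (algebraMap A H) H.val.toRingHom z
  have hsep : IsUnit (Polynomial.aeval x (Polynomial.derivative f)) := by
    rw [← residue_ne_zero_iff_isUnit, haev, ← Polynomial.derivative_map, hf]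
    exact Polynomial.Separable.aeval_derivative_ne_zero
      (Algebra.IsSeparable.isSeparable (ResidueField A) (residue S x)) (minpoly.aeval _ _)
  obtain ⟨a, ha, haa⟩ := HenselianLocalRing.is_henselian (f.map (algebraMap A H)) (hfmon.map _) ⟨x, hx⟩
    (hHS _ (by rw [hval, haev, hf, minpoly.aeval]))
    (by
      refine isUnit_of_map_unit (algebraMap H S) _ ?_
      rw [Polynomial.derivative_map]
      show IsUnit (((((Polynomial.derivative f).map (algebraMap A H)).eval (⟨x, hx⟩ : H) : H)) : S)
      rw [hval]; exact hsep)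
  have hax : residue S (a : S) = residue S x := by
    rw [← sub_eq_zero, ← map_sub, residue_eq_zero_iff, mem_maximalIdeal, mem_nonunits_iff]
    exact fun hu => (mem_maximalIdeal _).1 haa (isUnit_of_map_unit (algebraMap H S) (a - ⟨x, hx⟩) hu)
  refine ⟨a, mem_of_simple_root (Algebra.ofId A S) (fun z ⟨b, hb⟩ => hb ▸ H.algebraMap_mem b) f hfmon a.2 ?_ ?_, ?_⟩
  · show Polynomial.eval₂ (algebraMap A S) (a : S) f = 0
    rw [← Polynomial.aeval_def, ← hval]
    exact congrArg Subtype.val ha
  · show IsUnit (Polynomial.eval₂ (algebraMap A S) (a : S) (Polynomial.derivative f))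
    rw [← Polynomial.aeval_def, ← residue_ne_zero_iff_isUnit, haev, hax, ← haev, residue_ne_zero_iff_isUnit]
    exact hsep
  · rw [← residue_eq_zero_iff, map_sub, hax, sub_self]

/-- `indSub H` is ind-étale. -/
theorem isEtLike (h : IsEtLike A S) [IsLocalRing (indSub H)] : IsEtLike A (indSub H) := by
  classical
  haveI hUS := isLocalHom (H := H)
  have hess : ∀ s : Finset (indSub H), ∃ E : Subalgebra A S, IsEssSub E ∧ E ≤ indSub H ∧ ∀ z ∈ s, (z : S) ∈ E :=
    fun s => by
    obtain ⟨E, hE, hsE, hEU⟩ := exists_essSub h (s.image fun z : indSub H => (z : S)) (by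
      rw [Finset.coe_image]; rintro _ ⟨z, -, rfl⟩; exact z.2)
    exact ⟨E, hE, hEU, fun z hz => hsE (Finset.mem_coe.2 (Finset.mem_image_of_mem _ hz))⟩
  refine ⟨?_, le_antisymm (Ideal.map_le_iff_le_comap.2 fun a ha => ?_) fun x hx => ?_, fun s => ?_⟩
  · refine Module.Flat.iff_lift_lsmul_comp_subtype_injective.2 fun I _ =>
      (injective_iff_map_eq_zero _).2 fun z hz => ?_
    obtain ⟨G, hG⟩ := TensorProduct.exists_finset z
    obtain ⟨E, hE, hEU, hGE⟩ := hess (G.image Prod.snd)
    haveI := hE.isLocalRing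
    haveI := (isEtLike_of_isEssentiallyEtale hE.essEtale).flat
    let i : E →ₗ[A] indSub H := (Subalgebra.inclusion hEU).toLinearMap
    let w : I ⊗[A] E := ∑ p ∈ G.attach, p.1.1 ⊗ₜ ⟨(p.1.2 : S), hGE _ (Finset.mem_image_of_mem _ p.2)⟩
    have hw : i.lTensor I w = z := by
      rw [hG, ← Finset.sum_attach G, map_sum]
      exact Finset.sum_congr rfl fun p _ => rfl
    have hcomm : ∀ v, i (TensorProduct.lift ((LinearMap.lsmul A E).comp I.subtype) v) =
        TensorProduct.lift ((LinearMap.lsmul A (indSub H)).comp I.subtype) (i.lTensor I v) := fun v => by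
      induction v using TensorProduct.induction_on with
      | zero => simp
      | tmul a e => simp
      | add p q hp hq => simp only [map_add, hp, hq]
    have h0 : TensorProduct.lift ((LinearMap.lsmul A E).comp I.subtype) w = 0 := by
      refine Subalgebra.inclusion_injective hEU ?_
      show i _ = i 0
      rw [hcomm, hw, hz, map_zero]
    rw [← hw, Module.Flat.iff_lift_lsmul_comp_subtype_injective.1 inferInstance (I := I) ‹_› (h0.trans (map_zero _).symm),
      map_zero]
  · rw [Ideal.mem_comap, mem_maximalIdeal, mem_nonunits_iff]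
    intro hu
    haveI := h.isLocalHom
    exact (mem_maximalIdeal _).1 ha (isUnit_of_map_unit (algebraMap A S) a (hu.map (indSub H).val))
  · obtain ⟨E, hE, hEU, hxE⟩ := hess {x}
    haveI := hE.isLocalRing
    have hm : (⟨(x : S), hxE x (Finset.mem_singleton_self x)⟩ : E) ∈ maximalIdeal E := by
      rw [mem_maximalIdeal, mem_nonunits_iff]
      exact fun hu => (mem_maximalIdeal _).1 hx (isUnit_of_map_unit (algebraMap (indSub H) S) x (hu.map E.val))
    rw [← (isEtLike_of_isEssentiallyEtale hE.essEtale).map_max] at hm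
    have h1 := Ideal.mem_map_of_mem (Subalgebra.inclusion hEU).toRingHom hm
    rw [Ideal.map_map, show (Subalgebra.inclusion hEU).toRingHom.comp (algebraMap A E) = algebraMap A (indSub H) from
      (Subalgebra.inclusion hEU).comp_algebraMap] at h1
    exact h1
  · obtain ⟨C, _, _, hC, θ, hθ, hsC⟩ := exists_stage (s.image fun z : indSub H => (z : S)) (by
      rw [Finset.coe_image]; rintro _ ⟨z, -, rfl⟩; exact z.2)
    haveI := hC
    refine ⟨C, inferInstance, inferInstance, hC, θ.codRestrict (indSub H) fun c => range_le_indSub θ hθ ⟨c, rfl⟩,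
      fun z hz => ?_⟩
    obtain ⟨c, hc⟩ := hsC (Finset.mem_coe.2 (Finset.mem_image_of_mem _ hz))
    exact ⟨c, Subtype.ext hc⟩

end Groth.Agent.Hensel.IndSub
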