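import Mathlib.RingTheory.Ideal.GoingUp
import Mathlib.RingTheory.Adjoin.FG
import Mathlib.RingTheory.EssentialFiniteness
import Mathlib.RingTheory.LocalRing.MaximalIdeal.Basic
import Mathlib.RingTheory.Jacobson.Ideal
import Mathlib.RingTheory.Nilpotent.Lemmas
import Mathlib.RingTheory.Polynomial.Basic
import Mathlib.Algebra.Polynomial.Lifts

/-!
# Local rings below semilocal integral extensions generated up to localization (Artin–Tate)
-/

set_option autoImplicit false
set_option linter.style.haveILetI false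

universe u v

open IsLocalRing

namespace Groth.Agent.Hensel.SemilocalFG

variable {A : Type u} {F : Type v} [CommRing A] [CommRing F] [Algebra A F] {D0 D' : Subalgebra A F}

/-- Integrality uses only finitely many coefficients. -/
theorem exists_finset_isIntegral {x : F} (hx : IsIntegral D0 x) :
    ∃ G : Finset F, (G : Set F) ⊆ D0 ∧ ∀ B : Subalgebra A F, (G : Set F) ⊆ B → IsIntegral B x := by
  classical
  obtain ⟨p, hp, hpx⟩ := hx
  refine ⟨(p.map (algebraMap D0 F)).coeffs, fun z hz => ?_, fun B hB => ?_⟩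
  · obtain ⟨n, -, rfl⟩ := Polynomial.mem_coeffs_iff.1 hz
    rw [Polynomial.coeff_map]
    exact (p.coeff n).2
  · have hq : p.map (algebraMap D0 F) ∈ Polynomial.lifts (algebraMap B F) :=
      (Polynomial.lifts_iff_coeff_lifts _).2 fun n => by
        by_cases hn : (p.map (algebraMap D0 F)).coeff n = 0
        · exact ⟨0, by rw [map_zero, hn]⟩
        · exact ⟨⟨_, hB (Polynomial.coeff_mem_coeffs hn)⟩, rfl⟩
    obtain ⟨q, hq', -, hqm⟩ := Polynomial.lifts_and_natDegree_eq_and_monic hq (hp.map _)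
    refine ⟨q, hqm, ?_⟩
    rw [Polynomial.eval₂_eq_eval_map, hq', ← Polynomial.eval₂_eq_eval_map]
    exact hpx

/-- Lying over and incomparability: denominators can be moved down along integral extensions. -/
theorem exists_notMem_mul_mem [IsLocalRing D0] {B0 B2 C1 C2 : Subalgebra A F} (hB02 : B0 ≤ B2) (hB2 : B2 ≤ D0)
    (hB0C1 : B0 ≤ C1) (hB2C2 : B2 ≤ C2) (hC12 : C1 ≤ C2) (hC1 : C1 ≤ D') (hDD' : D0 ≤ D')
    (hC1int : ∀ c ∈ C1, IsIntegral B0 c) (hC2int : ∀ c ∈ C2, IsIntegral B2 c)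
    {ι : Type*} [Fintype ι] (N : ι → Ideal D') (hNprime : ∀ i, (N i).IsPrime)
    (hNm : ∀ i, (N i).comap (Subalgebra.inclusion hDD').toRingHom = maximalIdeal D0)
    (hrad : (⨅ i, (N i).comap (Subalgebra.inclusion hC1).toRingHom : Ideal C1) ≤
      ((((maximalIdeal D0).comap (Subalgebra.inclusion hB2).toRingHom).map
        (Subalgebra.inclusion hB2C2).toRingHom).radical).comap (Subalgebra.inclusion hC12).toRingHom)
    (d : F) (hloc : ∃ t, ∃ ht : t ∈ C1, t * d ∈ C1 ∧ ∀ i, (⟨t, hC1 ht⟩ : D') ∉ N i) :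
    ∃ s, ∃ hs : s ∈ B2, (⟨s, hB2 hs⟩ : D0) ∉ maximalIdeal D0 ∧ s * d ∈ C2 := by
  classical
  obtain ⟨t, ht, htd, htN⟩ := hloc
  letI : Algebra B2 C2 := (Subalgebra.inclusion hB2C2).toRingHom.toAlgebra
  haveI : IsScalarTower B2 C2 F := IsScalarTower.of_algebraMap_eq fun x => rfl
  letI : Algebra B0 C1 := (Subalgebra.inclusion hB0C1).toRingHom.toAlgebra
  haveI : IsScalarTower B0 C1 F := IsScalarTower.of_algebraMap_eq fun x => rfl
  haveI : Algebra.IsIntegral B2 C2 := ⟨fun c =>
    (isIntegral_algebraMap_iff (A := C2) (B := F) Subtype.val_injective).1 (hC2int c c.2)⟩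
  let J : Ideal C2 :=
    { carrier := {t | (t : F) * d ∈ C2}
      add_mem' := fun {a b} (ha : (a : F) * d ∈ C2) (hb : (b : F) * d ∈ C2) => by
        show ((a + b : C2) : F) * d ∈ C2
        rw [Subalgebra.coe_add, add_mul]; exact add_mem ha hb
      zero_mem' := by show ((0 : C2) : F) * d ∈ C2; rw [Subalgebra.coe_zero, zero_mul]; exact zero_mem _
      smul_mem' := fun c a (ha : (a : F) * d ∈ C2) => by
        show ((c * a : C2) : F) * d ∈ C2
        rw [Subalgebra.coe_mul, mul_assoc]; exact mul_mem c.2 ha }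
  haveI hM2 : ((maximalIdeal D0).comap (Subalgebra.inclusion hB2).toRingHom).IsPrime := Ideal.IsPrime.comap _
  by_contra hne
  obtain ⟨Q, hJQ, hQ, hQ2⟩ :=
    Ideal.exists_ideal_over_prime_of_isIntegral ((maximalIdeal D0).comap (Subalgebra.inclusion hB2).toRingHom) J
      fun s hs => by
        by_contra hsM
        exact hne ⟨s, s.2, hsM, hs⟩
  have hQ' : (((maximalIdeal D0).comap (Subalgebra.inclusion hB2).toRingHom).map
      (Subalgebra.inclusion hB2C2).toRingHom).radical ≤ Q :=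
    (Ideal.IsPrime.radical_le_iff hQ).2 (Ideal.map_le_iff_le_comap.2 hQ2.ge)
  haveI : (Q.comap (Subalgebra.inclusion hC12).toRingHom).IsPrime := Ideal.IsPrime.comap _
  obtain ⟨i, -, hNQ⟩ : ∃ i ∈ (Finset.univ : Finset ι),
      (N i).comap (Subalgebra.inclusion hC1).toRingHom ≤ Q.comap (Subalgebra.inclusion hC12).toRingHom := by
    refine (Ideal.IsPrime.inf_le' (by assumption)).1 ?_
    rw [Finset.inf_univ_eq_iInf]
    exact hrad.trans (Ideal.comap_mono hQ')
  haveI := hNprime i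
  haveI : ((N i).comap (Subalgebra.inclusion hC1).toRingHom).IsPrime := Ideal.IsPrime.comap _
  refine htN i ?_
  by_contra hxN
  have hxQ : (⟨t, ht⟩ : C1) ∈ Q.comap (Subalgebra.inclusion hC12).toRingHom := hJQ (hC12 htd)
  have hlt := Ideal.comap_lt_comap_of_integral_mem_sdiff (R := B0) hNQ ⟨hxQ, hxN⟩
    ((isIntegral_algebraMap_iff (A := C1) (B := F) Subtype.val_injective).1 (hC1int t ht))
  refine hlt.not_ge fun b hb => ?_
  have h1 : (⟨b.1, hB02 b.2⟩ : B2) ∈ Q.comap (algebraMap B2 C2) := hb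
  rw [hQ2] at h1
  have h2 : (⟨b.1, hB2 (hB02 b.2)⟩ : D0) ∈ (N i).comap (Subalgebra.inclusion hDD').toRingHom := by
    rw [hNm i]; exact h1
  exact h2

/-- Radical membership is witnessed by finitely many elements. -/
theorem exists_finset_pow_mem [IsLocalRing D0] (hDD' : D0 ≤ D') (x : D')
    (hint : ∀ z ∈ D', IsIntegral D0 z) (hx : ∀ P : Ideal D', P.IsMaximal → x ∈ P) :
    ∃ (n : ℕ) (T X : Finset F), (T : Set F) ⊆ D0 ∧ (X : Set F) ⊆ D' ∧
      ∀ (B C : Subalgebra A F) (hB : B ≤ D0) (hBC : B ≤ C) (_ : C ≤ D') (_ : (T : Set F) ⊆ B) (_ : (X : Set F) ⊆ C)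
        (hxC : (x : F) ∈ C),
        (⟨x, hxC⟩ : C) ^ n ∈ ((maximalIdeal D0).comap (Subalgebra.inclusion hB).toRingHom).map
          (Subalgebra.inclusion hBC).toRingHom := by
  classical
  letI : Algebra D0 D' := (Subalgebra.inclusion hDD').toRingHom.toAlgebra
  haveI : IsScalarTower D0 D' F := IsScalarTower.of_algebraMap_eq fun z => rfl
  haveI : Algebra.IsIntegral D0 D' :=
    ⟨fun z => (isIntegral_algebraMap_iff (A := D') (B := F) Subtype.val_injective).1 (hint z z.2)⟩
  have hy : x ∈ ((maximalIdeal D0).map (algebraMap D0 D')).radical := by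
    rw [Ideal.radical_eq_sInf, Submodule.mem_sInf]
    rintro P ⟨hPle, hP⟩
    haveI := hP
    have hPc : Ideal.comap (algebraMap D0 D') P = maximalIdeal D0 :=
      ((IsLocalRing.maximalIdeal.isMaximal D0).eq_of_le (Ideal.IsPrime.comap (algebraMap D0 D')).ne_top
        (Ideal.map_le_iff_le_comap.1 hPle)).symm
    exact hx P (Ideal.isMaximal_of_isIntegral_of_isMaximal_comap P
      (by rw [hPc]; exact IsLocalRing.maximalIdeal.isMaximal D0))
  obtain ⟨n, hn⟩ := hy
  obtain ⟨T, hT, hTx⟩ := Submodule.mem_span_finite_of_mem_span (show _ ∈ Submodule.span D' _ from hn)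
  obtain ⟨c, hc⟩ := Submodule.mem_span_finset.1 hTx
  refine ⟨n, T.image Subtype.val, T.image fun z => (c z : F), ?_, ?_, ?_⟩
  · intro z hz
    obtain ⟨w, hw, rfl⟩ := Finset.mem_image.1 (Finset.mem_coe.1 hz)
    obtain ⟨d, -, rfl⟩ := hT hw
    exact d.2
  · intro z hz
    obtain ⟨w, -, rfl⟩ := Finset.mem_image.1 (Finset.mem_coe.1 hz)
    exact (c w).2
  intro B C hB hBC hC hTB hXC hxC
  have hTmem : ∀ z ∈ T, (z : F) ∈ B := fun z hz => hTB (Finset.mem_coe.2 (Finset.mem_image_of_mem _ hz))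
  have hXmem : ∀ z ∈ T, (c z : F) ∈ C := fun z hz => hXC (Finset.mem_coe.2 (Finset.mem_image_of_mem _ hz))
  have hsum : (⟨x, hxC⟩ : C) ^ n = ∑ z ∈ T.attach,
      (⟨_, hXmem z.1 z.2⟩ : C) * (Subalgebra.inclusion hBC).toRingHom ⟨_, hTmem z.1 z.2⟩ := by
    apply Subtype.ext
    have h1 := congrArg Subtype.val hc.2
    rw [AddSubmonoidClass.coe_finsetSum, ← Finset.sum_attach, SubmonoidClass.coe_pow] at h1
    rw [SubmonoidClass.coe_pow, AddSubmonoidClass.coe_finsetSum]
    exact h1.symm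
  rw [hsum]
  refine sum_mem fun z _ => Ideal.mul_mem_left _ _ (Ideal.mem_map_of_mem _ ?_)
  obtain ⟨d, hd, hdz⟩ := hT z.2
  rw [Ideal.mem_comap, show (Subalgebra.inclusion hB).toRingHom ⟨_, hTmem z.1 z.2⟩ = d from
    Subtype.ext (congrArg Subtype.val hdz).symm]
  exact hd

/-- A local ring below a semilocal integral extension which is, locally at each maximal ideal, generated by
finitely many elements up to localization, is essentially of finite type. -/
theorem essFiniteType_of_integral_semilocal [IsNoetherianRing A] [IsLocalRing D0] (hDD' : D0 ≤ D')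
    (hint : ∀ x ∈ D', IsIntegral D0 x) (hfin : {N : Ideal D' | N.IsMaximal}.Finite)
    (hloc : ∀ N : Ideal D', N.IsMaximal → ∃ B : Finset F, (B : Set F) ⊆ D' ∧
      ∀ x ∈ D', ∃ t ∈ Algebra.adjoin A (B : Set F), ∃ ht : t ∈ D', (⟨t, ht⟩ : D') ∉ N ∧
        t * x ∈ Algebra.adjoin A (B : Set F)) :
    Algebra.EssFiniteType A D0 := by
  classical
  letI : Algebra D0 D' := (Subalgebra.inclusion hDD').toRingHom.toAlgebra
  haveI : IsScalarTower D0 D' F := IsScalarTower.of_algebraMap_eq fun x => rfl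
  haveI hI : Algebra.IsIntegral D0 D' :=
    ⟨fun x => (isIntegral_algebraMap_iff (A := D') (B := F) Subtype.val_injective).1 (hint x x.2)⟩
  have hNm : ∀ N : Ideal D', N.IsMaximal → N.comap (algebraMap D0 D') = maximalIdeal D0 := fun N hN => by
    haveI := hN
    exact IsLocalRing.eq_maximalIdeal (Ideal.isMaximal_comap_of_isIntegral_of_isMaximal N)
  -- generators up to localization
  choose Bf hBf hBloc using fun N : hfin.toFinset => hloc N.1 (hfin.mem_toFinset.1 N.2)
  let B1 : Finset F := Finset.univ.biUnion Bf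
  have hB1 : (B1 : Set F) ⊆ D' := fun z hz => by
    obtain ⟨N, -, hzN⟩ := Finset.mem_biUnion.1 (Finset.mem_coe.1 hz)
    exact hBf N hzN
  choose Gf hGf hGint using fun b : B1 => exists_finset_isIntegral (hint b.1 (hB1 b.2))
  let G0 : Finset F := Finset.univ.biUnion Gf
  have hG0 : (G0 : Set F) ⊆ D0 := fun z hz => by
    obtain ⟨b, -, hzb⟩ := Finset.mem_biUnion.1 (Finset.mem_coe.1 hz)
    exact hGf b hzb
  let B0 : Subalgebra A F := Algebra.adjoin A (G0 : Set F)
  have hB0 : B0 ≤ D0 := Algebra.adjoin_le hG0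
  let C1 : Subalgebra A F := (Algebra.adjoin B0 (B1 : Set F)).restrictScalars A
  have hC1 : C1 ≤ D' := fun z (hz : z ∈ Algebra.adjoin B0 (B1 : Set F)) => by
    induction hz using Algebra.adjoin_induction with
    | mem z hz => exact hB1 hz
    | algebraMap r => exact hDD' (hB0 r.2)
    | add a b _ _ ha hb => exact add_mem ha hb
    | mul a b _ _ ha hb => exact mul_mem ha hb
  have hB1C1 : Algebra.adjoin A (B1 : Set F) ≤ C1 := Algebra.adjoin_le fun z hz => Algebra.subset_adjoin hz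
  have hC1int : ∀ x ∈ C1, IsIntegral B0 x := fun x hx =>
    (Algebra.adjoin_le (S := integralClosure B0 F) fun b hb =>
      hGint ⟨b, hb⟩ B0 fun z hz => Algebra.subset_adjoin (Finset.mem_biUnion.2 ⟨_, Finset.mem_univ _, hz⟩)) hx
  -- localization
  have hunit : ∀ x ∈ D', ∃ t ∈ C1, t * x ∈ C1 ∧
      ∀ N : Ideal D', N.IsMaximal → ∀ ht : t ∈ D', (⟨t, ht⟩ : D') ∉ N := by
    intro x hx
    let J : Ideal C1 :=
      { carrier := {t | (t : F) * x ∈ C1}
        add_mem' := fun {a b} (ha : (a : F) * x ∈ C1) (hb : (b : F) * x ∈ C1) => by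
          show ((a + b : C1) : F) * x ∈ C1
          rw [Subalgebra.coe_add, add_mul]; exact add_mem ha hb
        zero_mem' := by show ((0 : C1) : F) * x ∈ C1; rw [Subalgebra.coe_zero, zero_mul]; exact zero_mem _
        smul_mem' := fun c a (ha : (a : F) * x ∈ C1) => by
          show ((c * a : C1) : F) * x ∈ C1
          rw [Subalgebra.coe_mul, mul_assoc]; exact mul_mem c.2 ha }
    let f : hfin.toFinset → Ideal C1 := fun N => N.1.comap (Subalgebra.inclusion hC1)
    by_cases hsub : (J : Set C1) ⊆ ⋃ N ∈ ((Finset.univ : Finset hfin.toFinset) : Set hfin.toFinset), f N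
    · rcases isEmpty_or_nonempty hfin.toFinset with hemp | ⟨⟨a⟩⟩
      · exact absurd (hsub (show (0 : C1) ∈ J from J.zero_mem)) (by simp)
      obtain ⟨N, -, hN⟩ := (Ideal.subset_union_prime a a (fun N _ _ _ => by
        haveI := (hfin.mem_toFinset.1 N.2).isPrime
        exact Ideal.IsPrime.comap _)).1 hsub
      obtain ⟨t, htA, ht, htN, htx⟩ := hBloc N x hx
      have hle : Algebra.adjoin A (Bf N : Set F) ≤ C1 := le_trans (Algebra.adjoin_mono fun z hz =>
        Finset.mem_biUnion.2 ⟨N, Finset.mem_univ _, hz⟩) hB1C1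
      exact absurd (hN (show (⟨t, hle htA⟩ : C1) ∈ J from hle htx)) htN
    · obtain ⟨t, htJ, ht⟩ := Set.not_subset.1 hsub
      refine ⟨t, t.2, htJ, fun N hN htD' htN => ht ?_⟩
      exact Set.mem_iUnion₂.2 ⟨⟨N, hfin.mem_toFinset.2 hN⟩, Finset.mem_univ _, htN⟩
  -- the radical
  haveI : IsNoetherianRing C1 := by
    refine isNoetherianRing_of_fg ⟨G0 ∪ B1, ?_⟩
    rw [Finset.coe_union]
    exact Algebra.adjoin_union_eq_adjoin_adjoin A _ _
  obtain ⟨U, hU⟩ := IsNoetherian.noetherian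
    (⨅ N : hfin.toFinset, N.1.comap (Subalgebra.inclusion hC1).toRingHom : Ideal C1)
  have hUmem : ∀ y : U, ∀ P : Ideal D', P.IsMaximal → Subalgebra.inclusion hC1 y.1 ∈ P := fun y P hP => by
    have hmem : y.1 ∈ (⨅ N : hfin.toFinset, N.1.comap (Subalgebra.inclusion hC1).toRingHom : Ideal C1) :=
      hU ▸ Submodule.subset_span y.2
    exact (Submodule.mem_iInf _).1 hmem ⟨P, hfin.mem_toFinset.2 hP⟩
  choose n Tf Xf hTf hXf hpow using fun y : U => exists_finset_pow_mem hDD' _ hint (hUmem y)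
  let Tall : Finset F := Finset.univ.biUnion Tf
  let X : Finset F := Finset.univ.biUnion Xf
  have hTall : (Tall : Set F) ⊆ D0 := fun z hz => by
    obtain ⟨y, -, hzy⟩ := Finset.mem_biUnion.1 (Finset.mem_coe.1 hz)
    exact hTf y hzy
  have hX : (X : Set F) ⊆ D' := fun z hz => by
    obtain ⟨y, -, hzy⟩ := Finset.mem_biUnion.1 (Finset.mem_coe.1 hz)
    exact hXf y hzy
  choose Hf hHf hHint using fun b : X => exists_finset_isIntegral (hint b.1 (hX b.2))
  let G : Finset F := G0 ∪ Tall ∪ Finset.univ.biUnion Hf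
  have hG : (G : Set F) ⊆ D0 := fun z hz => by
    rcases Finset.mem_union.1 (Finset.mem_coe.1 hz) with hz | hz
    · rcases Finset.mem_union.1 hz with hz | hz
      · exact hG0 hz
      · exact hTall hz
    · obtain ⟨b, -, hzb⟩ := Finset.mem_biUnion.1 hz
      exact hHf b hzb
  let B2 : Subalgebra A F := Algebra.adjoin A (G : Set F)
  have hB2 : B2 ≤ D0 := Algebra.adjoin_le hG
  have hB02 : B0 ≤ B2 := Algebra.adjoin_mono fun z hz =>
    Finset.mem_union_left _ (Finset.mem_union_left _ hz)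
  haveI : IsNoetherianRing B2 := isNoetherianRing_of_fg (Subalgebra.fg_adjoin_finset G)
  have hint2 : ∀ b ∈ B1 ∪ X, IsIntegral B2 b := fun b hb => by
    rcases Finset.mem_union.1 hb with hb | hb
    · refine hGint ⟨b, hb⟩ B2 fun z hz => hB02 (Algebra.subset_adjoin ?_)
      exact Finset.mem_biUnion.2 ⟨_, Finset.mem_univ _, hz⟩
    · refine hHint ⟨b, hb⟩ B2 fun z hz => Algebra.subset_adjoin ?_
      exact Finset.mem_union_right _ (Finset.mem_biUnion.2 ⟨_, Finset.mem_univ _, hz⟩)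
  let C2 : Subalgebra B2 F := Algebra.adjoin B2 ((B1 ∪ X : Finset F) : Set F)
  have hC2fg : (Subalgebra.toSubmodule C2).FG := fg_adjoin_of_finite (Finset.finite_toSet _) hint2
  have hC12 : ∀ x ∈ C1, x ∈ C2 := fun x (hx : x ∈ Algebra.adjoin B0 (B1 : Set F)) => by
    induction hx using Algebra.adjoin_induction with
    | mem z hz => exact Algebra.subset_adjoin (Finset.mem_union_left _ hz)
    | algebraMap r => exact C2.algebraMap_mem ⟨r, hB02 r.2⟩
    | add a b _ _ ha hb => exact add_mem ha hb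
    | mul a b _ _ ha hb => exact mul_mem ha hb
  have hC2D' : ∀ z ∈ C2, z ∈ D' := fun z (hz : z ∈ Algebra.adjoin B2 ((B1 ∪ X : Finset F) : Set F)) => by
    induction hz using Algebra.adjoin_induction with
    | mem z hz => exact (Finset.mem_union.1 hz).elim (fun h => hB1 h) fun h => hX h
    | algebraMap r => exact hDD' (hB2 r.2)
    | add a b _ _ ha hb => exact add_mem ha hb
    | mul a b _ _ ha hb => exact mul_mem ha hb
  have hB2C2 : B2 ≤ C2.restrictScalars A := fun z hz => C2.algebraMap_mem ⟨z, hz⟩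
  have key : ∀ d ∈ D0, ∃ s, ∃ hs : s ∈ B2, (⟨s, hB2 hs⟩ : D0) ∉ maximalIdeal D0 ∧ s * d ∈ C2 := by
    intro d hd
    obtain ⟨t, ht, htd, htN⟩ := hunit d (hDD' hd)
    refine exists_notMem_mul_mem (D0 := D0) (D' := D') (C1 := C1) (C2 := C2.restrictScalars A) hB02 hB2
      (fun z hz => (Algebra.adjoin B0 (B1 : Set F)).algebraMap_mem ⟨z, hz⟩) hB2C2 hC12 hC1 hDD' hC1int
      (fun c hc => (Algebra.adjoin_le (S := integralClosure B2 F) hint2) hc)
      (fun N : hfin.toFinset => N.1) (fun N => (hfin.mem_toFinset.1 N.2).isPrime)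
      (fun N => hNm N.1 (hfin.mem_toFinset.1 N.2)) ?_ d
      ⟨t, ht, htd, fun N => htN N.1 (hfin.mem_toFinset.1 N.2) (hC1 ht)⟩
    rw [← hU, Submodule.span_le]
    intro y hy
    refine ⟨n ⟨y, hy⟩, hpow ⟨y, hy⟩ B2 (C2.restrictScalars A) hB2 hB2C2 hC2D' ?_ ?_ (hC12 _ y.2)⟩
    · exact fun z hz => Algebra.subset_adjoin (Finset.mem_union_left _ (Finset.mem_union_right _
        (Finset.mem_biUnion.2 ⟨_, Finset.mem_univ _, hz⟩)))
    · exact fun z hz => Algebra.subset_adjoin (Finset.mem_union_right _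
        (Finset.mem_biUnion.2 ⟨_, Finset.mem_univ _, hz⟩))
  -- conclusion
  let P : Submodule B2 F :=
    { carrier := D0
      add_mem' := fun ha hb => add_mem ha hb
      zero_mem' := zero_mem _
      smul_mem' := fun c a ha => by
        show (c : F) * a ∈ D0
        exact mul_mem (hB2 c.2) ha }
  haveI : IsNoetherian B2 (Subalgebra.toSubmodule C2) := isNoetherian_of_fg_of_noetherian _ hC2fg
  obtain ⟨Y, hY⟩ := Submodule.FG.of_le hC2fg (inf_le_left : Subalgebra.toSubmodule C2 ⊓ P ≤ _)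
  have hYD : (Y : Set F) ⊆ D0 := fun z hz => ((hY ▸ Submodule.subset_span hz : z ∈ Subalgebra.toSubmodule C2 ⊓ P)).2
  rw [Algebra.essFiniteType_iff]
  refine ⟨(G ∪ Y).subtype (· ∈ D0), fun x => ?_⟩
  obtain ⟨s, hs, hsM, hsx⟩ := key x x.2
  set 𝔅 := Algebra.adjoin A (((G ∪ Y).subtype (· ∈ D0) : Finset D0) : Set D0)
  have hgen : ∀ z ∈ G ∪ Y, ∃ hz : z ∈ D0, (⟨z, hz⟩ : D0) ∈ 𝔅 := fun z hz => by
    have : z ∈ D0 := by
      rcases Finset.mem_union.1 hz with h | h
      · exact hG h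
      · exact hYD h
    exact ⟨this, Algebra.subset_adjoin (Finset.mem_subtype.2 hz)⟩
  have hmap : B2 ≤ 𝔅.map D0.val := Algebra.adjoin_le fun z hz => by
    obtain ⟨hz', hz''⟩ := hgen z (Finset.mem_union_left _ hz)
    exact ⟨_, hz'', rfl⟩
  obtain ⟨s', hs', hs''⟩ := hmap hs
  refine ⟨s', hs', ?_, ?_⟩
  · rw [show s' = ⟨s, hB2 hs⟩ from Subtype.ext hs'']
    exact IsLocalRing.notMem_maximalIdeal.1 hsM
  · have hmem : s * x ∈ Submodule.span B2 (Y : Set F) := by
      rw [hY]; exact ⟨hsx, (mul_mem (hB2 hs) x.2 : s * (x : F) ∈ D0)⟩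
    have hspan : Submodule.span B2 (Y : Set F) ≤
        ({ carrier := (𝔅.map D0.val : Set F)
           add_mem' := fun ha hb => add_mem ha hb
           zero_mem' := zero_mem _
           smul_mem' := fun c a ha => mul_mem (hmap c.2) ha } : Submodule B2 F) :=
      Submodule.span_le.2 fun z hz => by
        obtain ⟨hz', hz''⟩ := hgen z (Finset.mem_union_right _ hz)
        exact ⟨_, hz'', rfl⟩
    obtain ⟨w, hw, hwx⟩ := hspan hmem
    rw [show x * s' = w from Subtype.ext (by
      show (x : F) * (s' : F) = (w : F)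
      rw [show (s' : F) = s from hs'', mul_comm]; exact hwx.symm)]
    exact hw

end Groth.Agent.Hensel.SemilocalFG
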