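import Groth.Agent.Hensel.NormLocal
import Groth.Agent.Hensel.SemilocalFG

/-!
# Finite generation of normalizations at a maximal ideal of `E'` (EGA IV 18.10)
-/

set_option autoImplicit false
set_option linter.style.haveILetI false

universe u

open IsLocalRing TensorProduct

namespace Groth.Agent.Hensel.NormSub

section prime

/-- Below a prime of a subalgebra of a reduced artinian ring lies one of the points. -/
theorem exists_prime_comap_le {F W : Type u} [CommRing F] [IsArtinianRing F] [IsReduced F] [CommRing W]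
    (v : W →+* F) (hv : Function.Injective v) (M : Ideal W) [hM : M.IsPrime] :
    ∃ P : Ideal F, P.IsPrime ∧ P.comap v ≤ M := by
  classical
  haveI := Fintype.ofFinite (PrimeSpectrum F)
  obtain ⟨p, -, hp⟩ := (Ideal.IsPrime.inf_le' hM (s := (Finset.univ : Finset (PrimeSpectrum F)))
    (f := fun p => p.asIdeal.comap v)).1 fun x hx => by
      rw [Finset.inf_univ_eq_iInf, Submodule.mem_iInf] at hx
      have h0 : v x ∈ nilradical F := by
        rw [nilradical_eq_sInf, Submodule.mem_sInf]
        exact fun P hP => hx ⟨P, hP⟩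
      rw [hv ((mem_nilradical.1 h0).eq_zero.trans (map_zero v).symm)]
      exact M.zero_mem
  exact ⟨p.asIdeal, p.2, hp⟩

end prime

variable {A E : Type u} [CommRing A] [IsLocalRing A] [IsReduced A] [IsNoetherianRing A]
  [CommRing E] [IsLocalRing E] [Algebra A E]

local notation "KA" => FractionRing A
local notation "FE" => FractionRing E

theorem inFrac_of_mem {D : Subalgebra A FE} {x : FE} (hx : x ∈ D) : InFrac D x :=
  ⟨1, one_mem _, by rw [map_one, one_mul]; exact hx⟩

theorem inFrac_add {D : Subalgebra A FE} {x y : FE} (hx : InFrac D x) (hy : InFrac D y) : InFrac D (x + y) := by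
  obtain ⟨a, ha, hax⟩ := hx
  obtain ⟨b, hb, hby⟩ := hy
  refine ⟨a * b, mul_mem ha hb, ?_⟩
  rw [show algebraMap A FE (a * b) * (x + y) = algebraMap A FE b * (algebraMap A FE a * x) +
    algebraMap A FE a * (algebraMap A FE b * y) by rw [map_mul]; ring]
  exact add_mem (mul_mem (D.algebraMap_mem b) hax) (mul_mem (D.algebraMap_mem a) hby)

theorem inFrac_mul {D : Subalgebra A FE} {x y : FE} (hx : InFrac D x) (hy : InFrac D y) : InFrac D (x * y) := by
  obtain ⟨a, ha, hax⟩ := hx
  obtain ⟨b, hb, hby⟩ := hy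
  refine ⟨a * b, mul_mem ha hb, ?_⟩
  rw [show algebraMap A FE (a * b) * (x * y) = (algebraMap A FE a * x) * (algebraMap A FE b * y) by
    rw [map_mul]; ring]
  exact mul_mem hax hby

theorem inFrac_sub {D : Subalgebra A FE} {x y : FE} (hx : InFrac D x) (hy : InFrac D y) : InFrac D (x - y) := by
  rw [sub_eq_add_neg, show -y = (-1) * y by ring]
  exact inFrac_add hx (inFrac_mul (inFrac_of_mem (neg_mem (one_mem D))) hy)

theorem inFrac_pow {D : Subalgebra A FE} {x : FE} (hx : InFrac D x) : ∀ n : ℕ, InFrac D (x ^ n)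
  | 0 => by rw [pow_zero]; exact inFrac_of_mem (one_mem D)
  | n + 1 => by rw [pow_succ]; exact inFrac_mul (inFrac_pow hx n) hx

theorem inFrac_aeval {D : Subalgebra A FE} {x : FE} (hx : InFrac D x) (q : Polynomial D) :
    InFrac D (Polynomial.aeval x q) := by
  induction q using Polynomial.induction_on' with
  | add p q hp hq => rw [map_add]; exact inFrac_add hp hq
  | monomial n a =>
    rw [Polynomial.aeval_monomial]
    exact inFrac_mul (inFrac_of_mem a.2) (inFrac_pow hx n)

section closed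

/-- The idempotent cutting out a prime lies in a normalized subalgebra. -/
theorem exists_idem_mem (h : IsEtLike A E) (hfin : Module.Finite (FractionRing A) (TensorProduct A (FractionRing A) E))
    (D' : Subalgebra A (FractionRing E))
    (hclosed : ∀ w : FractionRing E, InFrac (A := A) (E := E) D' w → IsIntegral D' w → w ∈ D')
    (P : Ideal (FractionRing E)) [P.IsPrime] :
    ∃ e : FE, e ∈ D' ∧ IsIdempotentElem e ∧ e ∉ P ∧ ∀ x : FE, InFrac (A := A) (E := E) D' x → x ∈ P → e * x = 0 := by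
  obtain ⟨e, he, heF, heP, hek⟩ := (exists_idem h hfin D' P).1
  refine ⟨e, hclosed e heF ⟨Polynomial.X ^ 2 - Polynomial.X, ?_, ?_⟩, he, heP, hek⟩
  · exact Polynomial.monic_X_pow_sub (by
      rw [Polynomial.degree_X]; exact Nat.one_lt_cast.2 one_lt_two)
  · rw [Polynomial.eval₂_sub, Polynomial.eval₂_X_pow, Polynomial.eval₂_X, sq, he, sub_self]

/-- The local ring of a normalized subalgebra at a point is integrally closed among its fractions. -/
theorem mem_locImg_of_isIntegral (h : IsEtLike A E) (hfin : Module.Finite (FractionRing A) (TensorProduct A (FractionRing A) E))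
    (D' : Subalgebra A (FractionRing E))
    (hclosed : ∀ w : FractionRing E, InFrac (A := A) (E := E) D' w → IsIntegral D' w → w ∈ D')
    (P : Ideal (FractionRing E)) [P.IsPrime] (MD : Ideal D') [MD.IsPrime] (x : FE)
    (hx : InFrac D' x)
    (hint : IsIntegral (locImg ((Ideal.Quotient.mk P).comp D'.val.toRingHom) MD) (Ideal.Quotient.mk P x)) :
    Ideal.Quotient.mk P x ∈ locImg ((Ideal.Quotient.mk P).comp D'.val.toRingHom) MD := by
  classical
  obtain ⟨e, heD, he, heP, hek⟩ := exists_idem_mem h hfin D' hclosed P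
  obtain ⟨p, hp, hpz⟩ := hint
  choose pn tn htn hpn using fun i => (p.coeff i).2
  let n := p.natDegree
  let t : D' := ∏ i ∈ Finset.range n, tn i
  let c : ℕ → D' := fun i => pn i * (∏ j ∈ (Finset.range n).erase i, tn j) * t ^ (n - i - 1)
  let q : Polynomial D' := Polynomial.X ^ n + ∑ i ∈ Finset.range n, Polynomial.C (c i) * Polynomial.X ^ i
  have hqm : q.Monic := Polynomial.monic_X_pow_add
    (by simp_rw [← Fin.sum_univ_eq_sum_range, Polynomial.degree_sum_fin_lt])
  have htM : t ∉ MD := fun ht => by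
    obtain ⟨i, -, hi⟩ := (Ideal.IsPrime.prod_mem_iff (p := MD)).1 ht
    exact htn i hi
  have haev : ∀ y : FE, Polynomial.aeval y q = y ^ n + ∑ i ∈ Finset.range n, (c i : FE) * y ^ i := fun y => by
    simp only [q, map_add, map_sum, map_mul, map_pow, Polynomial.aeval_C, Polynomial.aeval_X]
    rfl
  have hc : ∀ i ∈ Finset.range n, (Ideal.Quotient.mk P) (c i : FE) * (Ideal.Quotient.mk P) ((t : FE) * x) ^ i =
      (Ideal.Quotient.mk P) (t : FE) ^ n * ((p.coeff i : FE ⧸ P) * (Ideal.Quotient.mk P) x ^ i) := fun i hi => by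
    have h1 : (Ideal.Quotient.mk P) (pn i : FE) * (Ideal.Quotient.mk P) ((∏ j ∈ (Finset.range n).erase i, tn j : D') : FE) =
        (p.coeff i : FE ⧸ P) * (Ideal.Quotient.mk P) (t : FE) := by
      rw [show (Ideal.Quotient.mk P) (pn i : FE) = (p.coeff i : FE ⧸ P) * (Ideal.Quotient.mk P) (tn i : FE) from (hpn i).symm, mul_assoc, ← map_mul,
        ← Subalgebra.coe_mul, Finset.mul_prod_erase _ _ hi]
    rw [show (Ideal.Quotient.mk P) (t : FE) ^ n = (Ideal.Quotient.mk P) (t : FE) ^ (n - i - 1) *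
      (Ideal.Quotient.mk P) (t : FE) * (Ideal.Quotient.mk P) (t : FE) ^ i by
        rw [← pow_succ, ← pow_add]; congr 1; have := Finset.mem_range.1 hi; omega]
    show (Ideal.Quotient.mk P) ((pn i * (∏ j ∈ (Finset.range n).erase i, tn j) * t ^ (n - i - 1) : D') : FE) * _ = _
    rw [Subalgebra.coe_mul, Subalgebra.coe_mul, SubmonoidClass.coe_pow, map_mul, map_mul, h1, map_pow, map_mul,
      mul_pow]
    ring
  have hval : Polynomial.aeval ((t : FE) * x) q ∈ P := by
    refine Ideal.Quotient.eq_zero_iff_mem.1 ?_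
    show (Ideal.Quotient.mk P) _ = 0
    rw [haev, map_add, map_pow, map_sum]
    simp only [map_mul, map_pow] at hc ⊢
    rw [Finset.sum_congr rfl hc, ← Finset.mul_sum, mul_pow, ← mul_add]
    rw [hp.as_sum, Polynomial.eval₂_add, Polynomial.eval₂_X_pow, Polynomial.eval₂_finsetSum] at hpz
    simp only [Polynomial.eval₂_mul, Polynomial.eval₂_C, Polynomial.eval₂_X_pow] at hpz
    exact (congrArg ((Ideal.Quotient.mk P) (t : FE) ^ n * ·) hpz).trans (mul_zero _)
  set y := (t : FE) * x with hy
  have hyF : InFrac D' y := inFrac_mul (inFrac_of_mem t.2) hx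
  have h0 : e * Polynomial.aeval y q = 0 := hek _ (inFrac_aeval hyF q) hval
  have hpow : ∀ i : ℕ, e * (e * y) ^ i = e * y ^ i := fun i => by
    rw [mul_pow, ← mul_assoc, ← pow_succ', he.pow_succ_eq i]
  have hw : e * y ∈ D' := by
    refine hclosed _ (inFrac_mul (inFrac_of_mem heD) hyF) ⟨Polynomial.X * q, Polynomial.monic_X.mul hqm, ?_⟩
    rw [← Polynomial.aeval_def, map_mul, Polynomial.aeval_X, haev, mul_comm e y, mul_assoc, mul_comm y e,
      mul_add, hpow, Finset.mul_sum,
      Finset.sum_congr rfl (fun i _ => by rw [mul_left_comm, hpow, mul_left_comm] :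
        ∀ i ∈ Finset.range n, e * ((c i : FE) * (e * y) ^ i) = e * ((c i : FE) * y ^ i)),
      ← Finset.mul_sum, ← mul_add, ← haev, h0, mul_zero]
  refine ⟨⟨e * y, hw⟩, t, htM, ?_⟩
  have he1 : (Ideal.Quotient.mk P) e = 1 := by
    rw [← map_one (Ideal.Quotient.mk P), Ideal.Quotient.eq]
    refine ((inferInstance : P.IsPrime).mem_or_mem (show e * (e - 1) ∈ P from ?_)).resolve_left heP
    rw [mul_sub, he, mul_one, sub_self]; exact P.zero_mem
  show (Ideal.Quotient.mk P) x * (Ideal.Quotient.mk P) (t : FE) = (Ideal.Quotient.mk P) (e * y)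
  rw [map_mul, he1, one_mul, hy, map_mul, mul_comm]

end closed

section point

variable {A E R K W D : Type u} [CommRing A] [IsLocalRing A] [CommRing E] [Algebra A E]
  [CommRing R] [IsLocalRing R] [IsDomain R] [IsIntegrallyClosed R] [Algebra A R]
  [CommRing K] [IsDomain K] [Algebra A K] [Algebra R K] [IsScalarTower A R K]
  [CommRing W] [Algebra A W] [CommRing D] [Algebra A D]

/-- The abstract local statement: the local ring of `D` at a point is essentially étale over `R`. -/
theorem exists_generators_of_point (hE : EGA4loc.IsEssentiallyEtale A E)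
    (hKinv : ∀ z : K, z ≠ 0 → ∃ v, z * v = 1) (ι : D →ₐ[A] W) (π : W →ₐ[A] K) (M : Ideal W) [M.IsPrime]
    (MD : Ideal D) [MD.IsPrime] (hMD : MD = M.comap ι.toRingHom)
    (hker : ∀ w, π w = 0 → w ∈ M) (hRinj : Function.Injective (algebraMap R K))
    (hRrep : ∀ r : R, ∃ a s : D, s ∉ MD ∧ algebraMap R K r * π (ι s) = π (ι a) ∧ (a ∉ MD → IsUnit r))
    (ψE : E →ₐ[A] W)
    (hW : ∀ w, π w ∈ (Algebra.TensorProduct.productMap (IsScalarTower.toAlgHom A R K) (π.comp ψE)).range)
    (hIC : ∀ d₁ d₂ : D, π (ι d₂) ≠ 0 → ∀ z, z * π (ι d₂) = π (ι d₁) →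
      IsIntegral (locImg (π.comp ι).toRingHom MD) z → z ∈ locImg (π.comp ι).toRingHom MD)
    (σ : Finset D) (hσ : ∀ d : D, ∃ a : A, algebraMap A K a ≠ 0 ∧
      algebraMap A K a * π (ι d) ∈ Submodule.span A ((π.comp ι) '' (σ : Set D))) :
    ∃ τ : Finset K, (∀ v ∈ τ, v ∈ locImg (π.comp ι).toRingHom MD) ∧ ∀ x : D,
      ∃ u ∈ Algebra.adjoin R (τ : Set K), (∀ p t : W, t ∉ M → u * π t = π p → p ∉ M) ∧
        π (ι x) * u ∈ Algebra.adjoin R (τ : Set K) := by
  classical
  subst hMD
  set πD : D →+* K := (π.comp ι).toRingHom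
  have hu : ∀ w, w ∉ M → ∃ v, π w * v = 1 := fun w hw => hKinv _ fun h0 => hw (hker w h0)
  have hRT : ∀ r, algebraMap R K r ∈ locImg πD (M.comap ι.toRingHom) := fun r => by
    obtain ⟨a, s, hs, hrs, -⟩ := hRrep r
    exact ⟨a, s, hs, hrs⟩
  have hRS : ∀ r, algebraMap R K r ∈ locImg π.toRingHom M := fun r => by
    obtain ⟨a, s, hs, hrs, -⟩ := hRrep r
    exact ⟨ι a, ι s, hs, hrs⟩
  let S := locImgAlg π.toRingHom M R hRS
  haveI : IsLocalRing S := locImgAlg_isLocalRing π.toRingHom M hRS hu
  letI : Algebra A S := ((algebraMap R S).comp (algebraMap A R)).toAlgebra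
  haveI : IsScalarTower A R S := IsScalarTower.of_algebraMap_eq fun _ => rfl
  have hAS : ∀ c, (algebraMap A S c : K) = algebraMap A K c := fun c =>
    (IsScalarTower.algebraMap_apply A R K c).symm
  haveI : IsLocalHom (algebraMap R S) := ⟨fun r hr => by
    obtain ⟨a, s, hs, hrs, hunit⟩ := hRrep r
    exact hunit (locImgAlg_notMem_of_isUnit π.toRingHom M hRS hker _ (ι a) (ι s) hrs hs hr)⟩
  let ψ : E →ₐ[A] S :=
    { toRingHom := (π.toRingHom.comp ψE.toRingHom).codRestrict S.toSubring fun x => map_mem_locImg π.toRingHom M _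
      commutes' := fun a => Subtype.ext (by
        show π (ψE (algebraMap A E a)) = (algebraMap A S a : K)
        rw [ψE.commutes, π.commutes, hAS]) }
  have hψ : ∀ z : R ⊗[A] E, (Algebra.TensorProduct.productMap (IsScalarTower.toAlgHom A R S) ψ z : K) =
      Algebra.TensorProduct.productMap (IsScalarTower.toAlgHom A R K) (π.comp ψE) z := fun z => by
    induction z using TensorProduct.induction_on with
    | zero => rw [map_zero, map_zero]; rfl
    | tmul a x => rw [Algebra.TensorProduct.productMap_apply_tmul, Algebra.TensorProduct.productMap_apply_tmul]; rfl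
    | add z z' hz hz' => rw [map_add, map_add, Subalgebra.coe_add, hz, hz']
  have hgen : ∀ v : S, ∃ p t : R ⊗[A] E,
      IsUnit (Algebra.TensorProduct.productMap (IsScalarTower.toAlgHom A R S) ψ t) ∧
      v * Algebra.TensorProduct.productMap (IsScalarTower.toAlgHom A R S) ψ t =
        Algebra.TensorProduct.productMap (IsScalarTower.toAlgHom A R S) ψ p := fun v => by
    obtain ⟨p, t, ht, hv⟩ := v.2
    obtain ⟨zp, hzp⟩ := hW p
    obtain ⟨zt, hzt⟩ := hW t
    refine ⟨zp, zt, ?_, Subtype.ext ?_⟩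
    · rw [show Algebra.TensorProduct.productMap _ ψ zt = ⟨π t, map_mem_locImg π.toRingHom M t⟩ from
        Subtype.ext ((hψ zt).trans hzt)]
      exact locImgAlg_isUnit_of_notMem π.toRingHom M hRS hu t ht
    · rw [Subalgebra.coe_mul, (hψ zt).trans hzt, (hψ zp).trans hzp]; exact hv
  obtain ⟨hSet, hsep, -⟩ := isEssentiallyEtale_of_generated (S := S) hE
    (fun r r' hrr => hRinj (congrArg Subtype.val hrr)) ψ hgen
  haveI := hsep
  have hSE := isEtLike_of_isEssentiallyEtale hSet
  let T : Subalgebra R S := (locImgAlg πD (M.comap ι.toRingHom) R hRT).comap S.val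
  have hTS : ∀ v : K, v ∈ locImg πD (M.comap ι.toRingHom) → v ∈ locImg π.toRingHom M := fun v ⟨p, t, ht, hv⟩ =>
    ⟨ι p, ι t, ht, hv⟩
  have hunitT : ∀ v : T, IsUnit (v : S) → IsUnit v := fun v hv => by
    obtain ⟨p, t, ht, hvp⟩ := v.2
    have hp : ι p ∉ M := locImgAlg_notMem_of_isUnit π.toRingHom M hRS hker _ (ι p) (ι t) hvp ht hv
    obtain ⟨v', hv'⟩ := hu _ hp
    have hw : πD t * v' ∈ locImg πD (M.comap ι.toRingHom) := ⟨t, p, hp, by
      rw [mul_assoc, show v' * πD p = 1 from by rw [mul_comm]; exact hv', mul_one]⟩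
    refine IsUnit.of_mul_eq_one ⟨⟨_, hTS _ hw⟩, hw⟩ (Subtype.ext (Subtype.ext ?_))
    show ((v : S) : K) * (πD t * v') = 1
    rw [← mul_assoc]
    exact (congrArg (· * v') hvp).trans hv'
  haveI : IsLocalRing T := IsLocalRing.of_isUnit_or_isUnit_one_sub_self fun d =>
    (IsLocalRing.isUnit_or_isUnit_one_sub_self (d : S)).imp (hunitT d) (hunitT (1 - d))
  haveI : IsLocalHom (algebraMap T S) := ⟨fun d hd => hunitT d hd⟩
  haveI : IsIntegrallyClosed T := by
    refine (isIntegrallyClosed_iff (FractionRing T)).2 fun {z} hz => ?_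
    let tF : T →+* K := S.val.toRingHom.comp T.val.toRingHom
    have htF : Function.Injective tF := fun a b hab => Subtype.ext (Subtype.ext hab)
    let Φ : FractionRing T →+* K :=
      IsLocalization.lift (M := nonZeroDivisors T) (g := tF) fun s => by
        obtain ⟨v, hv⟩ := hKinv (tF s) fun h0 => nonZeroDivisors.ne_zero s.2 (htF (h0.trans (map_zero tF).symm))
        exact IsUnit.of_mul_eq_one v hv
    have hΦ : ∀ a, Φ (algebraMap T (FractionRing T) a) = tF a := fun a => IsLocalization.lift_eq _ a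
    obtain ⟨a, b, hab⟩ := IsLocalization.exists_mk'_eq (nonZeroDivisors T) z
    obtain ⟨d₁, t₁, ht₁, h₁⟩ := a.2
    obtain ⟨d₂, t₂, ht₂, h₂⟩ := b.1.2
    have h1 : tF a * πD t₁ = πD d₁ := h₁
    have h2 : tF b * πD t₂ = πD d₂ := h₂
    have h3 : Φ z * tF b = tF a := by rw [← hΦ, ← hΦ, ← map_mul, ← hab, IsLocalization.mk'_spec]
    have hT : ∀ v : T, tF v ∈ locImg πD (M.comap ι.toRingHom) := fun v => v.2
    obtain ⟨g, hg, hgz⟩ := hz
    have hint : IsIntegral (locImg πD (M.comap ι.toRingHom)) (Φ z) := by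
      refine ⟨g.map (tF.codRestrict (locImg πD (M.comap ι.toRingHom)) hT), hg.map _, ?_⟩
      rw [Polynomial.eval₂_map, show (algebraMap (locImg πD (M.comap ι.toRingHom)) K).comp
        (tF.codRestrict (locImg πD (M.comap ι.toRingHom)) hT) = Φ.comp (algebraMap T (FractionRing T)) from
        RingHom.ext fun v => (hΦ v).symm, ← Polynomial.hom_eval₂, hgz, map_zero]
    have hd₂ : πD d₂ ≠ 0 := fun hd => by
      rcases mul_eq_zero.1 (h2.trans hd) with h0 | h0
      · exact nonZeroDivisors.ne_zero b.2 (htF (h0.trans (map_zero tF).symm))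
      · exact ht₂ (hker _ h0)
    have ht₁' : πD t₁ ≠ 0 := fun h0 => ht₁ (hker _ h0)
    have hzT : Φ z ∈ locImg πD (M.comap ι.toRingHom) := hIC (d₁ * t₂) (d₂ * t₁)
      (by rw [map_mul, map_mul]; exact mul_ne_zero hd₂ ht₁') _ (by
        show Φ z * πD (d₂ * t₁) = πD (d₁ * t₂)
        rw [map_mul, map_mul, ← h2, ← h1, ← h3]; ring) hint
    refine ⟨⟨⟨_, hTS _ hzT⟩, hzT⟩, Φ.injective ?_⟩
    rw [hΦ]; rfl
  -- generation up to torsion
  let s : Finset S := σ.image fun d => ⟨πD d, hTS _ (map_mem_locImg πD _ d)⟩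
  have hsT : (s : Set S) ⊆ T := fun v hv => by
    obtain ⟨d, -, rfl⟩ := Finset.mem_image.1 (Finset.mem_coe.1 hv)
    exact map_mem_locImg πD _ d
  have hspan : ∀ d : D, ∃ a : A, algebraMap A K a ≠ 0 ∧ ∃ v ∈ Algebra.adjoin R (s : Set S),
      (v : K) = algebraMap A K a * πD d := fun d => by
    obtain ⟨a, ha, had⟩ := hσ d
    refine ⟨a, ha, ?_⟩
    show ∃ v ∈ Algebra.adjoin R (s : Set S), (v : K) = algebraMap A K a * π (ι d)
    generalize algebraMap A K a * π (ι d) = u at had ⊢
    induction had using Submodule.span_induction with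
    | mem z hz =>
      obtain ⟨d', hd', rfl⟩ := hz
      exact ⟨_, Algebra.subset_adjoin (Finset.mem_image_of_mem _ hd'), rfl⟩
    | zero => exact ⟨0, zero_mem _, rfl⟩
    | add x y _ _ hx hy =>
      obtain ⟨v, hv, hvx⟩ := hx
      obtain ⟨v', hv', hvy⟩ := hy
      exact ⟨v + v', add_mem hv hv', by rw [← hvx, ← hvy]; rfl⟩
    | smul c x _ hx =>
      obtain ⟨v, hv, hvx⟩ := hx
      refine ⟨algebraMap R S (algebraMap A R c) * v, mul_mem (Subalgebra.algebraMap_mem _ _) hv, ?_⟩
      rw [Algebra.smul_def, Subalgebra.coe_mul, hvx, ← hAS]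
      rfl
  haveI := hSE.isDomain_and_isIntegrallyClosed.1
  have hTet : EGA4loc.IsEssentiallyEtale R T := by
    refine hSE.isEssentiallyEtale_of_normal T s hsT fun v hv => ?_
    obtain ⟨p, t, ht, hvp⟩ := (hv : (v : K) ∈ locImg πD (M.comap ι.toRingHom))
    obtain ⟨a, ha, P₁, hP₁, hP₁'⟩ := hspan p
    obtain ⟨b, hb, P₂, hP₂, hP₂'⟩ := hspan t
    refine hSE.exists_algebraMap_mul_mem _ (p := algebraMap R S (algebraMap A R b) * P₁)
      (q := algebraMap R S (algebraMap A R a) * P₂) (mul_mem (Subalgebra.algebraMap_mem _ _) hP₁)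
      (mul_mem (Subalgebra.algebraMap_mem _ _) hP₂) (fun h0 => ?_) (Subtype.ext ?_)
    · have h0' : algebraMap A K a * (algebraMap A K b * πD t) = 0 := by
        rw [← hP₂', ← hAS]; exact congrArg Subtype.val h0
      exact mul_ne_zero ha (mul_ne_zero hb fun h => ht (hker _ h)) h0'
    · show (algebraMap A S a : K) * (P₂ : K) * (v : K) = (algebraMap A S b : K) * (P₁ : K)
      rw [hP₁', hP₂', hAS, hAS]
      have h' : (v : K) * πD t = πD p := hvp
      linear_combination (algebraMap A K a * algebraMap A K b) * h'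
  haveI : Algebra.EssFiniteType R T := by
    obtain ⟨C, _, _, q, _, hC, -, ⟨e⟩⟩ := hTet
    haveI := hC
    haveI : Algebra.EssFiniteType C (Localization.AtPrime q) :=
      Algebra.EssFiniteType.of_isLocalization _ q.primeCompl
    haveI : Algebra.EssFiniteType R (Localization.AtPrime q) := Algebra.EssFiniteType.comp _ C _
    exact Algebra.EssFiniteType.of_surjective e.symm.toAlgHom e.symm.surjective
  obtain ⟨τ, hτ⟩ := (Algebra.essFiniteType_iff _ _).1 (inferInstance : Algebra.EssFiniteType R T)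
  refine ⟨τ.image fun v : T => ((v : S) : K), fun w hw => ?_, fun x => ?_⟩
  · obtain ⟨v, -, rfl⟩ := Finset.mem_image.1 hw
    exact v.2
  let vx : T := ⟨⟨πD x, hTS _ (map_mem_locImg πD _ x)⟩, map_mem_locImg πD _ x⟩
  obtain ⟨u, huτ, huu, hxu⟩ := hτ vx
  let f : T →ₐ[R] K := S.val.comp T.val
  have hf : ∀ w ∈ Algebra.adjoin R (τ : Set T),
      f w ∈ Algebra.adjoin R (((τ.image fun v : T => ((v : S) : K)) : Finset K) : Set K) := fun w hw => by
    rw [Finset.coe_image]
    have h1 : f w ∈ (Algebra.adjoin R (τ : Set T)).map f := ⟨w, hw, rfl⟩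
    rw [AlgHom.map_adjoin] at h1
    exact h1
  exact ⟨f u, hf u huτ, fun p t ht hpt => locImgAlg_notMem_of_isUnit π.toRingHom M hRS hker _ p t hpt ht
    (huu.map (algebraMap T S)), hf _ hxu⟩

end point

/-- Near a maximal ideal of `E'`, a normalized subalgebra is generated by finitely many elements up to
localization. -/
theorem exists_local_generators (h : IsEtLike A E) (hE : EGA4loc.IsEssentiallyEtale A E)
    (hfin : Module.Finite (FractionRing A) (TensorProduct A (FractionRing A) E))
    (hA'' : Module.Finite A (integralClosure A KA)) (D' : Subalgebra A FE)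
    (hle : D' ≤ (integralClosure E FE).restrictScalars A)
    (hclosed : ∀ w, InFrac D' w → IsIntegral D' w → w ∈ D')
    (M : Ideal ((integralClosure E FE).restrictScalars A)) [hM : M.IsPrime] :
    ∃ B : Finset FE, (B : Set FE) ⊆ D' ∧ ∀ x ∈ D', ∃ t ∈ Algebra.adjoin A (B : Set FE), ∃ ht : t ∈ D',
      (⟨t, hle ht⟩ : ((integralClosure E FE).restrictScalars A)) ∉ M ∧ t * x ∈ Algebra.adjoin A (B : Set FE) := by
  classical
  haveI := hA''
  haveI := (minimalPrimes.finite_of_isNoetherianRing A).to_subtype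
  haveI : IsArtinianRing KA := isArtinianRing_fractionRing (minimalPrimes.finite_of_isNoetherianRing A)
  haveI : IsReduced KA := isReduced_localizationPreserves (nonZeroDivisors A) KA inferInstance
  haveI : IsArtinianRing FE := isArtinian_frac h hfin
  haveI : IsReduced E := h.isReduced_iff.1 inferInstance
  haveI : IsReduced FE := isReduced_localizationPreserves (nonZeroDivisors E) FE inferInstance
  obtain ⟨P, hP, hPM⟩ := exists_prime_comap_le
    ((integralClosure E FE).restrictScalars A).val.toRingHom Subtype.val_injective M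
  haveI := hP
  haveI hPmax : P.IsMaximal := IsArtinianRing.isMaximal_of_isPrime P
  have hinv : ∀ z : FE, z ∉ P → ∃ v : FE ⧸ P, Ideal.Quotient.mk P z * v = 1 := fun z hz =>
    ((Ideal.Quotient.maximal_ideal_iff_isField_quotient P).1 hPmax).mul_inv_cancel
      fun h0 => hz (Ideal.Quotient.eq_zero_iff_mem.1 h0)
  have hnotP : ∀ w : ((integralClosure E FE).restrictScalars A), w ∉ M → (w : FE) ∉ P := fun w hw hwP => hw (hPM hwP)
  have hAD : ∀ z : integralClosure A KA, ιK h z.1 ∈ D' := fun z => by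
    refine hclosed _ ?_ ((z.2.map (ιK h)).tower_top)
    obtain ⟨r, s, hk⟩ := IsLocalization.exists_mk'_eq (nonZeroDivisors A) z.1
    refine ⟨s, s.2, ?_⟩
    rw [← (ιK h).commutes, ← map_mul, ← hk, IsLocalization.mk'_spec', (ιK h).commutes]
    exact D'.algebraMap_mem r
  let j : integralClosure A KA →ₐ[A] D' := ((ιK h).comp (integralClosure A KA).val).codRestrict D' hAD
  let MD : Ideal D' := M.comap (Subalgebra.inclusion hle).toRingHom
  haveI : MD.IsPrime := Ideal.IsPrime.comap _
  haveI : (MD.comap j.toRingHom).IsPrime := Ideal.IsPrime.comap _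
  set n : Ideal (integralClosure A KA) := MD.comap j.toRingHom with hn
  obtain ⟨hRd, hRic⟩ := RedNorm.isDomain_isIntegrallyClosed_localization A n
  haveI := hRd
  haveI := hRic
  let πD : D' →+* FE ⧸ P := (Ideal.Quotient.mk P).comp D'.val.toRingHom
  have hju : ∀ s : n.primeCompl, IsUnit (πD (j s)) := fun s => by
    obtain ⟨v, hv⟩ := hinv _ (hnotP _ s.2)
    exact IsUnit.of_mul_eq_one v hv
  letI : Algebra (Localization.AtPrime n) (FE ⧸ P) :=
    (IsLocalization.lift (S := Localization.AtPrime n) (g := πD.comp j.toRingHom) hju).toAlgebra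
  have hjR : ∀ z, algebraMap (Localization.AtPrime n) (FE ⧸ P) (algebraMap _ _ z) = πD (j z) := fun z =>
    IsLocalization.lift_eq hju z
  haveI : IsScalarTower A (Localization.AtPrime n) (FE ⧸ P) := IsScalarTower.of_algebraMap_eq fun a => by
    rw [IsScalarTower.algebraMap_apply A (integralClosure A KA) (Localization.AtPrime n), hjR, j.commutes]
    rfl
  have hRrep : ∀ r, ∃ a s : integralClosure A KA, j s ∉ MD ∧
      algebraMap (Localization.AtPrime n) (FE ⧸ P) r * πD (j s) = πD (j a) := fun r => by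
    obtain ⟨a, s, hrs⟩ := IsLocalization.exists_mk'_eq n.primeCompl r
    refine ⟨a, s, s.2, ?_⟩
    rw [← hjR, ← hjR, ← map_mul, ← hrs, IsLocalization.mk'_spec]
  have hRinj : Function.Injective (algebraMap (Localization.AtPrime n) (FE ⧸ P)) := by
    refine (injective_iff_map_eq_zero _).2 fun r hr => ?_
    obtain ⟨a, s, hrs⟩ := IsLocalization.exists_mk'_eq n.primeCompl r
    have h1 : (j a : FE) ∈ P := by
      refine Ideal.Quotient.eq_zero_iff_mem.1 (show πD (j a) = 0 from ?_)
      rw [← hjR, ← IsLocalization.mk'_spec (Localization.AtPrime n) a s, map_mul, hrs, hr, zero_mul]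
    obtain ⟨y, hy⟩ := exists_mul_mul_eq_of_artinian (a : KA)
    have hεi : IsIntegral A ((a : KA) * y) := ⟨Polynomial.X ^ 2 - Polynomial.X, Polynomial.monic_X_pow_sub
      (by rw [Polynomial.degree_X]; exact Nat.one_lt_cast.2 one_lt_two), by
      rw [Polynomial.eval₂_sub, Polynomial.eval₂_X_pow, Polynomial.eval₂_X]
      linear_combination y * hy⟩
    let ε : integralClosure A KA := ⟨(a : KA) * y, hεi⟩
    have hεn : ε ∈ n := hPM (show (j ε : FE) ∈ P from by
      show ιK h ((a : KA) * y) ∈ P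
      rw [map_mul]; exact Ideal.mul_mem_right _ _ h1)
    have h1ε : (1 - ε) ∈ n.primeCompl := fun hh => (inferInstance : n.IsPrime).ne_top
      ((Ideal.eq_top_iff_one _).2 (by simpa using n.add_mem hh hεn))
    rw [← hrs, IsLocalization.mk'_eq_zero_iff]
    exact ⟨⟨1 - ε, h1ε⟩, Subtype.ext (by
      show (1 - (a : KA) * y) * a = 0
      linear_combination -hy)⟩
  -- apply the abstract statement
  haveI : Nontrivial (FE ⧸ P) := Ideal.Quotient.nontrivial_iff.2 hP.ne_top
  have hRrep' : ∀ r, ∃ a s : D', s ∉ MD ∧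
      algebraMap (Localization.AtPrime n) (FE ⧸ P) r *
        Ideal.Quotient.mk P (Subalgebra.inclusion hle s : FE) = Ideal.Quotient.mk P (Subalgebra.inclusion hle a : FE) ∧
      (a ∉ MD → IsUnit r) := fun r => by
    obtain ⟨a, s, hrs⟩ := IsLocalization.exists_mk'_eq n.primeCompl r
    refine ⟨j a, j s, s.2, ?_, fun ha => ?_⟩
    · show algebraMap (Localization.AtPrime n) (FE ⧸ P) r * πD (j s) = πD (j a)
      rw [← hjR, ← hjR, ← map_mul, ← hrs, IsLocalization.mk'_spec]
    · rw [← hrs, IsLocalization.AtPrime.isUnit_mk'_iff]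
      exact ha
  let ψE : E →ₐ[A] ((integralClosure E FE).restrictScalars A) :=
    (IsScalarTower.toAlgHom A E FE).codRestrict _ fun x => (integralClosure E FE).algebraMap_mem x
  let π : ((integralClosure E FE).restrictScalars A) →ₐ[A] FE ⧸ P :=
    (Ideal.Quotient.mkₐ A P).comp ((integralClosure E FE).restrictScalars A).val
  obtain ⟨σ, hσD, hσ⟩ := exists_finset_span h hfin D'
  obtain ⟨τ, hτT, hτ⟩ := exists_generators_of_point (R := Localization.AtPrime n) hE
    (fun z hz => ((Ideal.Quotient.maximal_ideal_iff_isField_quotient P).1 hPmax).mul_inv_cancel hz)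
    (Subalgebra.inclusion hle) π M MD rfl (fun w hw => hPM (Ideal.Quotient.eq_zero_iff_mem.1 hw :)) hRinj hRrep' ψE
    (fun w => by
      obtain ⟨z, hz⟩ := mem_range_of_isIntegral h w.1 w.2
      refine ⟨Algebra.TensorProduct.map (IsScalarTower.toAlgHom A (integralClosure A KA) (Localization.AtPrime n))
        (AlgHom.id A E) z, ?_⟩
      show _ = Ideal.Quotient.mk P w.1
      rw [← hz]
      clear hz w
      induction z using TensorProduct.induction_on with
      | zero => simp
      | tmul a x =>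
        rw [AlgHom.toRingHom_eq_coe, RingHom.coe_coe, Algebra.TensorProduct.map_tmul,
          Algebra.TensorProduct.productMap_apply_tmul]
        show algebraMap (Localization.AtPrime n) (FE ⧸ P) (algebraMap _ _ a) * _ = _
        rw [hjR]
        show _ = Ideal.Quotient.mk P (Algebra.TensorProduct.productMap _ _ (a ⊗ₜ x))
        rw [Algebra.TensorProduct.productMap_apply_tmul, map_mul]
        rfl
      | add z z' hz hz' =>
        simp only [map_add, AlgHom.toRingHom_eq_coe, RingHom.coe_coe] at hz hz' ⊢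
        rw [hz, hz'])
    (fun d₁ d₂ hd₂ z hzd hz => by
      obtain ⟨y, hyF, hy⟩ := (exists_idem h hfin D' P).2 _ (inFrac_of_mem d₂.2)
        fun hd => hd₂ (Ideal.Quotient.eq_zero_iff_mem.2 hd)
      have hyd : Ideal.Quotient.mk P (d₂ : FE) * Ideal.Quotient.mk P y = 1 := by
        rw [← map_mul, ← map_one (Ideal.Quotient.mk P), Ideal.Quotient.eq]; exact hy
      have hz' : z = Ideal.Quotient.mk P ((d₁ : FE) * y) := by
        have h' : z * Ideal.Quotient.mk P (d₂ : FE) = Ideal.Quotient.mk P (d₁ : FE) := hzd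
        rw [map_mul, ← h', mul_assoc, hyd, mul_one]
      subst hz'
      exact mem_locImg_of_isIntegral h hfin D' hclosed P MD _ (inFrac_mul (inFrac_of_mem d₁.2) hyF) hz)
    (σ.attach.image fun z => ⟨z.1, hσD z.2⟩)
    (fun d => by
      obtain ⟨a, ha, had⟩ := hσ d.1 d.2
      refine ⟨a, fun h0 => hP.ne_top (Ideal.eq_top_of_isUnit_mem _ (Ideal.Quotient.eq_zero_iff_mem.1 h0)
        (algebraMap_nzd_isUnit h ha)), ?_⟩
      show Ideal.Quotient.mk P (algebraMap A FE a) * Ideal.Quotient.mk P (d : FE) ∈ _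
      rw [← map_mul]
      generalize algebraMap A FE a * (d : FE) = u at had ⊢
      induction had using Submodule.span_induction with
      | mem z hz =>
        exact Submodule.subset_span ⟨_, Finset.mem_image_of_mem _ (Finset.mem_attach _ ⟨z, hz⟩), rfl⟩
      | zero => rw [map_zero]; exact zero_mem _
      | add x y _ _ hx hy => rw [map_add]; exact add_mem hx hy
      | smul c x _ hx =>
        rw [show Ideal.Quotient.mk P (c • x) = c • Ideal.Quotient.mk P x from
          map_smul (Ideal.Quotient.mkₐ A P) c x]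
        exact Submodule.smul_mem _ c hx)
  obtain ⟨e, heD, he, heP, hek⟩ := exists_idem_mem h hfin D' hclosed P
  choose pv tv htv hv using fun v : τ => hτT v.1 v.2
  obtain ⟨γ, hγ⟩ := hA''.fg_top
  let B : Finset FE := {e} ∪ (γ.image fun z => (j z : FE)) ∪ (τ.attach.image fun v => (pv v : FE)) ∪
    τ.attach.image fun v => (tv v : FE)
  have hBD : (B : Set FE) ⊆ D' := fun z hz => by
    simp only [B, Finset.coe_union, Set.mem_union, Finset.coe_singleton, Set.mem_singleton_iff, Finset.coe_image,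
      Set.mem_image] at hz
    rcases hz with ((rfl | ⟨w, -, rfl⟩) | ⟨w, -, rfl⟩) | ⟨w, -, rfl⟩
    · exact heD
    · exact (j w).2
    · exact (pv w).2
    · exact (tv w).2
  refine ⟨B, hBD, ?_⟩
  set 𝔅 := Algebra.adjoin A (B : Set FE)
  have h𝔅 : 𝔅 ≤ D' := Algebra.adjoin_le hBD
  have hj𝔅 : ∀ a, (j a : FE) ∈ 𝔅 := fun a => by
    have ha : a ∈ Submodule.span A (γ : Set (integralClosure A KA)) := hγ ▸ Submodule.mem_top
    induction ha using Submodule.span_induction with
    | mem z hz => exact Algebra.subset_adjoin (Finset.mem_union_left _ (Finset.mem_union_left _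
        (Finset.mem_union_right _ (Finset.mem_image_of_mem _ hz))))
    | zero => rw [map_zero]; exact zero_mem 𝔅
    | add x y _ _ hx hy => rw [map_add]; exact add_mem hx hy
    | smul c x _ hx => rw [map_smul]; exact 𝔅.smul_mem hx c
  -- elements of the generated ring are fractions of `𝔅`
  let MB : Ideal 𝔅 := MD.comap (Subalgebra.inclusion h𝔅).toRingHom
  haveI : MB.IsPrime := Ideal.IsPrime.comap _
  let πB : 𝔅 →+* FE ⧸ P := (Ideal.Quotient.mk P).comp 𝔅.val.toRingHom
  have hτB : ∀ u ∈ Algebra.adjoin (Localization.AtPrime n) (τ : Set (FE ⧸ P)), u ∈ locImg πB MB := fun u hu => by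
    induction hu using Algebra.adjoin_induction with
    | mem v hv' => exact ⟨⟨_, Algebra.subset_adjoin (Finset.mem_union_left _ (Finset.mem_union_right _
        (Finset.mem_image_of_mem _ (Finset.mem_attach _ ⟨v, hv'⟩))))⟩, ⟨_, Algebra.subset_adjoin (Finset.mem_union_right _
        (Finset.mem_image_of_mem _ (Finset.mem_attach _ ⟨v, hv'⟩)))⟩, htv ⟨v, hv'⟩, hv ⟨v, hv'⟩⟩
    | algebraMap r =>
      obtain ⟨a, s, hs, hrs⟩ := hRrep r
      exact ⟨⟨_, hj𝔅 a⟩, ⟨_, hj𝔅 s⟩, hs, hrs⟩
    | add a b _ _ ha hb => exact add_mem ha hb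
    | mul a b _ _ ha hb => exact mul_mem ha hb
  intro x hx
  obtain ⟨u, huτ, huu, hxu⟩ := hτ ⟨x, hx⟩
  obtain ⟨a, s₀, hs₀, hu₀⟩ := hτB u huτ
  obtain ⟨a', s', hs', hu'⟩ := hτB _ hxu
  have ha : (⟨(a : FE), hle (h𝔅 a.2)⟩ : ((integralClosure E FE).restrictScalars A)) ∉ M :=
    huu _ ⟨(s₀ : FE), hle (h𝔅 s₀.2)⟩ hs₀ hu₀
  have he1 : (⟨e, hle heD⟩ : ((integralClosure E FE).restrictScalars A)) ∉ M := fun heM => by
    have h1 : (1 : ((integralClosure E FE).restrictScalars A)) - ⟨e, hle heD⟩ ∈ M := hPM (show 1 - e ∈ P from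
      (hP.mem_or_mem (show e * (1 - e) ∈ P by rw [mul_sub, he, mul_one, sub_self]; exact P.zero_mem)).resolve_left heP)
    exact hM.ne_top ((Ideal.eq_top_iff_one _).2 (by simpa using M.add_mem h1 heM))
  have heB : e ∈ 𝔅 := Algebra.subset_adjoin (Finset.mem_union_left _ (Finset.mem_union_left _
    (Finset.mem_union_left _ (Finset.mem_singleton_self e))))
  have h0 : e * (x * a * s' - a' * s₀) = 0 := by
    refine hek _ (inFrac_sub (inFrac_of_mem (mul_mem (mul_mem hx (h𝔅 a.2)) (h𝔅 s'.2)))
      (inFrac_of_mem (mul_mem (h𝔅 a'.2) (h𝔅 s₀.2)))) (Ideal.Quotient.eq.1 ?_)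
    rw [map_mul, map_mul, map_mul]
    have hu0' : u * Ideal.Quotient.mk P (s₀ : FE) =
        Ideal.Quotient.mk P (a : FE) := hu₀
    have hu'' : Ideal.Quotient.mk P x * u *
        Ideal.Quotient.mk P (s' : FE) = Ideal.Quotient.mk P (a' : FE) := hu'
    rw [← hu0', ← hu'']
    ring
  refine ⟨e * a * s', mul_mem (mul_mem heB a.2) s'.2, mul_mem (mul_mem heD (h𝔅 a.2)) (h𝔅 s'.2), ?_, ?_⟩
  · exact hM.mul_notMem (hM.mul_notMem he1 ha) hs'
  · rw [show e * (a : FE) * s' * x = e * a' * s₀ by linear_combination h0]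
    exact mul_mem (mul_mem heB a'.2) s₀.2

end Groth.Agent.Hensel.NormSub
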