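import Groth.Agent.Hensel.NormAssemble
import Groth.Agent.Hensel.NagataHens

/-!
# Essential finiteness from semilocal normalizations (EGA IV 18.10)
-/

set_option autoImplicit false
set_option linter.style.haveILetI false

universe u

open IsLocalRing TensorProduct

namespace Groth.Agent.Hensel.NormSub

variable {A E : Type u} [CommRing A] [IsLocalRing A] [IsReduced A] [IsNoetherianRing A]
  [CommRing E] [IsLocalRing E] [Algebra A E]

local notation "FE" => FractionRing E

/-- A normalization is closed under fractions which are integral over it. -/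
theorem closed_of_normalization (D : Subalgebra A E) (D' : Subalgebra A FE)
    (hD' : ∀ x : FE, x ∈ D' ↔ (IsIntegral D x ∧
      ∃ a ∈ nonZeroDivisors A, ∃ d ∈ D, algebraMap A FE a * x = algebraMap E FE d))
    (w : FE) (hwF : InFrac (A := A) (E := E) D' w) (hw : IsIntegral D' w) : w ∈ D' := by
  refine (hD' w).2 ⟨?_, ?_⟩
  · let f : D' →+* integralClosure D FE :=
      D'.val.toRingHom.codRestrict (integralClosure D FE).toSubring fun x => ((hD' x).1 x.2).1
    obtain ⟨p, hp, hpw⟩ := hw
    exact isIntegral_trans (A := integralClosure D FE) w ⟨p.map f, hp.map _, (Polynomial.eval₂_map _ _ _).trans hpw⟩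
  · obtain ⟨a, ha, haw⟩ := hwF
    obtain ⟨-, b, hb, d, hd, hbd⟩ := (hD' _).1 haw
    exact ⟨b * a, mul_mem hb ha, d, hd, by rw [map_mul, mul_assoc]; exact hbd⟩

/-- EGA IV 18.10: essential finiteness. -/
theorem essFiniteType_of_semilocal (h : IsEtLike A E) (hE : EGA4loc.IsEssentiallyEtale A E)
    (hA'' : Module.Finite A (integralClosure A (FractionRing A))) (D : Subalgebra A E) [IsLocalRing D]
    (D' : Subalgebra A FE)
    (hD' : ∀ x : FE, x ∈ D' ↔ (IsIntegral D x ∧
      ∃ a ∈ nonZeroDivisors A, ∃ d ∈ D, algebraMap A FE a * x = algebraMap E FE d))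
    (hle : D' ≤ (integralClosure E FE).restrictScalars A)
    (hfin : {N : Ideal D' | N.IsMaximal}.Finite)
    (hsurj : ∀ N : Ideal D', N.IsMaximal → ∃ M : Ideal ((integralClosure E FE).restrictScalars A),
      M.IsMaximal ∧ M.comap (Subalgebra.inclusion hle) = N) :
    Algebra.EssFiniteType A D := by
  classical
  haveI : IsArtinianRing (FractionRing A) :=
    isArtinianRing_fractionRing (minimalPrimes.finite_of_isNoetherianRing A)
  have hgf := finite_genericFibre hE
  have hclosed := closed_of_normalization D D' hD'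
  let φ : E →ₐ[A] FE := IsScalarTower.toAlgHom A E FE
  have hφ : Function.Injective φ := IsFractionRing.injective E FE
  let e : D ≃ₐ[A] D.map φ := D.equivMapOfInjective φ hφ
  haveI : IsLocalRing (D.map φ) := e.toRingEquiv.isLocalRing
  have hDD' : D.map φ ≤ D' := by
    rintro _ ⟨d, hd, rfl⟩
    refine (hD' _).2 ⟨isIntegral_algebraMap (R := D) (x := ⟨d, hd⟩), 1, one_mem _, d, hd, ?_⟩
    rw [map_one, one_mul]; rfl
  have hint : ∀ x ∈ D', IsIntegral (D.map φ) x := fun x hx => by
    obtain ⟨p, hp, hpx⟩ := ((hD' x).1 hx).1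
    exact ⟨p.map e.toRingEquiv.toRingHom, hp.map _, (Polynomial.eval₂_map _ _ _).trans hpx⟩
  haveI : Algebra.EssFiniteType A (D.map φ) :=
    SemilocalFG.essFiniteType_of_integral_semilocal hDD' hint hfin fun N hN => by
      obtain ⟨M, hM, rfl⟩ := hsurj N hN
      obtain ⟨B, hB, hBx⟩ := exists_local_generators h hE hgf hA'' D' hle hclosed M
      refine ⟨B, hB, fun x hx => ?_⟩
      obtain ⟨t, ht, htD, htM, htx⟩ := hBx x hx
      exact ⟨t, ht, htD, htM, htx⟩
  exact Algebra.EssFiniteType.of_surjective e.symm.toAlgHom e.symm.surjective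

end Groth.Agent.Hensel.NormSub
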