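import Groth.Agent.Hensel.NormalDesc
import Groth.Agent.GeomFieldLib.ICBaseChange
import Groth.Agent.RedNorm.Nagata

/-!
# The total ring of fractions of an essentially étale local algebra over a reduced ring

Scaled subalgebras of the total ring of fractions (`Scaled`), their idempotents, and integral elements.
-/

set_option autoImplicit false
set_option linter.style.haveILetI false

universe u

open IsLocalRing TensorProduct

namespace Groth.Agent.Hensel.NormSub

/-- A reduced artinian ring is absolutely flat. -/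
theorem exists_mul_mul_eq_of_artinian {T : Type u} [CommRing T] [IsArtinianRing T] [IsReduced T] (x : T) :
    ∃ y, x * x * y = x := by
  obtain ⟨n, y, hy⟩ := IsArtinian.exists_pow_succ_smul_dvd x (1 : T)
  rw [smul_eq_mul, smul_eq_mul, mul_one] at hy
  refine ⟨y, sub_eq_zero.1 (IsReduced.eq_zero _ ⟨n + 1, ?_⟩)⟩
  calc (x * x * y - x) ^ (n + 1) = (x ^ (n + 1) * y - x ^ n) * (x * (x * y - 1) ^ n) := by
        rw [show x * x * y - x = x * (x * y - 1) by ring, mul_pow]; ring
    _ = 0 := by rw [hy, sub_self, zero_mul]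

variable {A E : Type u} [CommRing A] [IsLocalRing A] [IsReduced A] [IsNoetherianRing A]
  [CommRing E] [IsLocalRing E] [Algebra A E]

local notation "KA" => FractionRing A
local notation "FE" => FractionRing E

theorem algebraMap_nzd_isUnit (h : IsEtLike A E) {a : A} (ha : a ∈ nonZeroDivisors A) :
    IsUnit (algebraMap A FE a) := by
  rw [IsScalarTower.algebraMap_apply A E FE]
  exact IsLocalization.map_units FE (⟨_, h.algebraMap_mem_nonZeroDivisors ha⟩ : nonZeroDivisors E)

/-- The map of total rings of fractions. -/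
noncomputable def ιK (h : IsEtLike A E) : KA →ₐ[A] FE :=
  IsLocalization.liftAlgHom (M := nonZeroDivisors A) (S := KA) (f := Algebra.ofId A FE)
    fun a => algebraMap_nzd_isUnit h a.2

/-- `x` is a fraction of `D` with denominator from the base. -/
def InFrac (D : Subalgebra A FE) (x : FE) : Prop :=
  ∃ a ∈ nonZeroDivisors A, algebraMap A FE a * x ∈ D

theorem exists_fraction_top (h : IsEtLike A E) (x : FE) :
    ∃ a ∈ nonZeroDivisors A, ∃ e : E, algebraMap A FE a * x = algebraMap E FE e := by
  obtain ⟨⟨e, ⟨s, hs⟩⟩, hx⟩ := IsLocalization.surj (nonZeroDivisors E) x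
  have hs' : (⟨s, Algebra.mem_top⟩ : (⊤ : Subalgebra A E)) ∈ nonZeroDivisors (⊤ : Subalgebra A E) := by
    rw [mem_nonZeroDivisors_iff_right]
    intro z hz
    exact Subtype.ext (mem_nonZeroDivisors_iff_right.1 hs (z : E) (congrArg Subtype.val hz))
  obtain ⟨a, ha, s', hs''⟩ := h.exists_mul_eq_algebraMap (minimalPrimes.finite_of_isNoetherianRing A) ⊤ hs'
  refine ⟨a, ha, (s' : E) * e, ?_⟩
  rw [IsScalarTower.algebraMap_apply A E FE, show algebraMap A E a = s * (s' : E) from
    (congrArg Subtype.val hs'').symm, map_mul, map_mul, ← hx]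
  ring

/-- `K_A ⊗ E = K_E`. -/
theorem productMap_bijective (h : IsEtLike A E) :
    Function.Bijective (Algebra.TensorProduct.productMap (ιK h) (IsScalarTower.toAlgHom A E FE)) := by
  haveI := h.flat
  set ψ := Algebra.TensorProduct.productMap (ιK h) (IsScalarTower.toAlgHom A E FE)
  refine ⟨(injective_iff_map_eq_zero ψ).2 fun z hz => ?_, fun x => ?_⟩
  · obtain ⟨a, ha, e, he⟩ := exists_smul_eq_one_tmul z
    have h1 : ψ ((1 : KA) ⊗ₜ[A] e) = 0 := by rw [← he, map_smul, hz, smul_zero]
    rw [Algebra.TensorProduct.productMap_apply_tmul, map_one, one_mul] at h1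
    have h2 : e = 0 := IsFractionRing.injective E FE (h1.trans (map_zero _).symm)
    rw [h2, TensorProduct.tmul_zero] at he
    exact (IsLocalization.map_units KA (⟨a, ha⟩ : nonZeroDivisors A)).smul_eq_zero.1
      ((algebraMap_smul KA a z).trans he)
  · obtain ⟨a, ha, e, he⟩ := exists_fraction_top h x
    obtain ⟨b, hb⟩ := (IsLocalization.map_units KA (⟨a, ha⟩ : nonZeroDivisors A)).exists_left_inv
    refine ⟨b ⊗ₜ e, ?_⟩
    rw [Algebra.TensorProduct.productMap_apply_tmul, IsScalarTower.coe_toAlgHom', ← he, ← mul_assoc,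
      ← (ιK h).commutes, ← map_mul, hb, map_one, one_mul]

variable (h : IsEtLike A E) (hfin : Module.Finite (FractionRing A) (TensorProduct A (FractionRing A) E))
include h hfin

theorem isArtinian_frac : IsArtinianRing FE := by
  haveI := hfin
  haveI : IsArtinianRing KA := isArtinianRing_fractionRing (minimalPrimes.finite_of_isNoetherianRing A)
  haveI : IsArtinianRing (KA ⊗[A] E) := IsArtinianRing.of_finite KA _
  exact (RingEquiv.ofBijective _ (productMap_bijective h)).isArtinianRing

/-- Finitely many elements of `D` span it up to torsion. -/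
theorem exists_finset_span (D : Subalgebra A FE) :
    ∃ t : Finset FE, (t : Set FE) ⊆ D ∧ ∀ x ∈ D, ∃ a ∈ nonZeroDivisors A,
      algebraMap A FE a * x ∈ Submodule.span A (t : Set FE) := by
  classical
  haveI := hfin
  haveI : IsArtinianRing KA := isArtinianRing_fractionRing (minimalPrimes.finite_of_isNoetherianRing A)
  letI : Algebra KA FE := (ιK h).toRingHom.toAlgebra
  haveI : IsScalarTower A KA FE := IsScalarTower.of_algebraMap_eq fun a => ((ιK h).commutes a).symm
  let ψ : KA ⊗[A] E →ₗ[KA] FE :=
    (Algebra.TensorProduct.lift (Algebra.ofId KA FE) (IsScalarTower.toAlgHom A E FE) fun _ _ => Commute.all _ _).toLinearMap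
  haveI : Module.Finite KA FE := @Module.Finite.of_surjective _ _ _ _ _ _ _ _ _ _ _ hfin ψ fun x => by
    obtain ⟨z, hz⟩ := (productMap_bijective h).2 x
    exact ⟨z, hz⟩
  obtain ⟨t, htD, hts⟩ :=
    (Submodule.fg_span_iff_fg_span_finset_subset (D : Set FE)).1 (IsNoetherian.noetherian (Submodule.span KA (D : Set FE)))
  refine ⟨t, htD, fun x hx => ?_⟩
  have hx' : x ∈ Submodule.span KA (t : Set FE) := hts ▸ Submodule.subset_span hx
  clear hx
  induction hx' using Submodule.span_induction with
  | mem z hz => exact ⟨1, one_mem _, by rw [map_one, one_mul]; exact Submodule.subset_span hz⟩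
  | zero => exact ⟨1, one_mem _, by rw [mul_zero]; exact zero_mem _⟩
  | add y z _ _ hy hz =>
    obtain ⟨a, ha, hay⟩ := hy
    obtain ⟨b, hb, hbz⟩ := hz
    refine ⟨a * b, mul_mem ha hb, ?_⟩
    rw [map_mul, mul_add]
    refine add_mem ?_ ?_
    · rw [mul_comm (algebraMap A FE a), mul_assoc, ← Algebra.smul_def]
      exact Submodule.smul_mem _ b hay
    · rw [mul_assoc, ← Algebra.smul_def a]
      exact Submodule.smul_mem _ a hbz
  | smul k z _ hz =>
    obtain ⟨a, ha, haz⟩ := hz
    obtain ⟨r, s, hs, hk⟩ := IsLocalization.exists_mk'_eq (nonZeroDivisors A) k |>.elim fun r hr =>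
      hr.elim fun s hs => (⟨r, s.1, s.2, hs⟩ : ∃ r s, ∃ hs : s ∈ nonZeroDivisors A, IsLocalization.mk' KA r ⟨s, hs⟩ = k)
    refine ⟨s * a, mul_mem hs ha, ?_⟩
    have hsk : algebraMap A FE s * algebraMap KA FE k = algebraMap A FE r := by
      rw [IsScalarTower.algebraMap_apply A KA FE, IsScalarTower.algebraMap_apply A KA FE r, ← map_mul, ← hk,
        show algebraMap A KA s * IsLocalization.mk' KA r (⟨s, hs⟩ : nonZeroDivisors A) = algebraMap A KA r from
          IsLocalization.mk'_spec' KA r ⟨s, hs⟩]
    rw [Algebra.smul_def, map_mul, show algebraMap A FE s * algebraMap A FE a * (algebraMap KA FE k * z) =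
      (algebraMap A FE s * algebraMap KA FE k) * (algebraMap A FE a * z) by ring, hsk, ← Algebra.smul_def]
    exact Submodule.smul_mem _ r haz

/-- In the fraction algebra of `D`, a prime is cut out by an idempotent outside it. -/
theorem exists_idem (D : Subalgebra A FE) (P : Ideal FE) [P.IsPrime] :
    (∃ e, IsIdempotentElem e ∧ InFrac D e ∧ e ∉ P ∧ ∀ x, InFrac D x → x ∈ P → e * x = 0) ∧
      ∀ x, InFrac D x → x ∉ P → ∃ y, InFrac D y ∧ x * y - 1 ∈ P := by
  classical
  haveI := hfin
  haveI : IsArtinianRing KA := isArtinianRing_fractionRing (minimalPrimes.finite_of_isNoetherianRing A)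
  haveI : IsReduced E := h.isReduced_iff.1 inferInstance
  haveI : IsReduced FE := isReduced_localizationPreserves (nonZeroDivisors E) FE inferInstance
  letI : Algebra KA FE := (ιK h).toRingHom.toAlgebra
  haveI : IsScalarTower A KA FE := IsScalarTower.of_algebraMap_eq fun a => ((ιK h).commutes a).symm
  let L := Algebra.adjoin KA (D : Set FE)
  have hL : ∀ x ∈ L, InFrac D x := fun x hx => by
    induction hx using Algebra.adjoin_induction with
    | mem z hz => exact ⟨1, one_mem _, by rw [map_one, one_mul]; exact hz⟩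
    | algebraMap k =>
      obtain ⟨r, s, hk⟩ := IsLocalization.exists_mk'_eq (nonZeroDivisors A) k
      refine ⟨s, s.2, ?_⟩
      rw [IsScalarTower.algebraMap_apply A KA FE, ← map_mul, ← hk, IsLocalization.mk'_spec',
        ← IsScalarTower.algebraMap_apply]
      exact D.algebraMap_mem r
    | add y z _ _ hy hz =>
      obtain ⟨a, ha, hay⟩ := hy
      obtain ⟨b, hb, hbz⟩ := hz
      refine ⟨a * b, mul_mem ha hb, ?_⟩
      rw [show algebraMap A FE (a * b) * (y + z) = algebraMap A FE b * (algebraMap A FE a * y) +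
        algebraMap A FE a * (algebraMap A FE b * z) by rw [map_mul]; ring]
      exact add_mem (mul_mem (D.algebraMap_mem b) hay) (mul_mem (D.algebraMap_mem a) hbz)
    | mul y z _ _ hy hz =>
      obtain ⟨a, ha, hay⟩ := hy
      obtain ⟨b, hb, hbz⟩ := hz
      refine ⟨a * b, mul_mem ha hb, ?_⟩
      rw [show algebraMap A FE (a * b) * (y * z) = (algebraMap A FE a * y) * (algebraMap A FE b * z) by
        rw [map_mul]; ring]
      exact mul_mem hay hbz
  have hL' : ∀ x, InFrac D x → x ∈ L := fun x ⟨a, ha, hax⟩ => by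
    obtain ⟨b, hb⟩ := (IsLocalization.map_units KA (⟨a, ha⟩ : nonZeroDivisors A)).exists_left_inv
    have : x = algebraMap KA FE b * (algebraMap A FE a * x) := by
      rw [← mul_assoc, IsScalarTower.algebraMap_apply A KA FE, ← map_mul, hb, map_one, one_mul]
    rw [this]
    exact mul_mem (L.algebraMap_mem b) (Algebra.subset_adjoin hax)
  let ψ : KA ⊗[A] E →ₗ[KA] FE :=
    (Algebra.TensorProduct.lift (Algebra.ofId KA FE) (IsScalarTower.toAlgHom A E FE) fun _ _ => Commute.all _ _).toLinearMap
  haveI : Module.Finite KA FE := @Module.Finite.of_surjective _ _ _ _ _ _ _ _ _ _ _ hfin ψ fun x => by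
    obtain ⟨z, hz⟩ := (productMap_bijective h).2 x
    exact ⟨z, hz⟩
  haveI : Module.Finite KA L := Module.Finite.iff_fg.2 (IsNoetherian.noetherian (Subalgebra.toSubmodule L))
  haveI : IsArtinianRing L := IsArtinianRing.of_finite KA L
  haveI : IsReduced L := isReduced_of_injective L.val Subtype.val_injective
  choose y hy using fun x : L => exists_mul_mul_eq_of_artinian x
  obtain ⟨G, hG⟩ := IsNoetherian.noetherian (P.comap L.val.toRingHom : Ideal L)
  let e : L := ∏ g ∈ G, (1 - g * y g)
  have hidem : ∀ g : L, IsIdempotentElem (g * y g) := fun g => by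
    show _ * _ = _
    linear_combination y g * hy g
  have he : IsIdempotentElem e := by
    show _ * _ = _
    rw [← Finset.prod_mul_distrib]
    exact Finset.prod_congr rfl fun g _ => ((hidem g).one_sub).eq
  refine ⟨⟨(e : FE), congrArg Subtype.val he, hL _ e.2, fun heP => ?_, fun x hx hxP => ?_⟩, fun x hx hxP => ?_⟩
  · have : e ∈ P.comap L.val.toRingHom := heP
    obtain ⟨g, hg, hgP⟩ := (Ideal.IsPrime.prod_mem_iff (p := P.comap L.val.toRingHom)).1 this
    have hgm : g * y g ∈ P.comap L.val.toRingHom := Ideal.mul_mem_right _ _ (hG ▸ Submodule.subset_span hg)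
    have := add_mem hgP hgm
    rw [sub_add_cancel] at this
    exact (Ideal.IsPrime.ne_top inferInstance) ((Ideal.eq_top_iff_one _).2 this)
  · have hmem : (⟨x, hL' x hx⟩ : L) ∈ Submodule.span L (G : Set L) := by rw [hG]; exact hxP
    have : e * ⟨x, hL' x hx⟩ = 0 := by
      generalize (⟨x, hL' x hx⟩ : L) = w at hmem ⊢
      induction hmem using Submodule.span_induction with
      | mem g hg =>
        have h1 : (1 - g * y g) * g = 0 := by linear_combination -hy g
        obtain ⟨c, hc⟩ : (1 - g * y g) ∣ ∏ g ∈ G, (1 - g * y g) := Finset.dvd_prod_of_mem _ hg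
        show (∏ g ∈ G, (1 - g * y g)) * g = 0
        rw [hc, mul_right_comm, h1, zero_mul]
      | zero => rw [mul_zero]
      | add a b _ _ ha hb => rw [mul_add, ha, hb, add_zero]
      | smul c a _ ha => rw [smul_eq_mul, mul_left_comm, ha, mul_zero]
    exact congrArg Subtype.val this
  · have h1 : x * x * (y ⟨x, hL' x hx⟩ : FE) = x := congrArg Subtype.val (hy ⟨x, hL' x hx⟩)
    refine ⟨y ⟨x, hL' x hx⟩, hL _ (y _).2, ((inferInstance : P.IsPrime).mem_or_mem ?_).resolve_left hxP⟩
    rw [show x * (x * (y ⟨x, hL' x hx⟩ : FE) - 1) = 0 by linear_combination h1]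
    exact P.zero_mem

omit hfin in
/-- Elements integral over `E` come from the normalization of `A`. -/
theorem mem_range_of_isIntegral (x : FE) (hx : IsIntegral E x) :
    x ∈ (Algebra.TensorProduct.productMap ((ιK h).comp (integralClosure A KA).val)
      (IsScalarTower.toAlgHom A E FE)).range := by
  classical
  haveI := h.flat
  have hred : ∀ (K : Type u) [Field K] [Algebra A K], IsReduced (K ⊗[A] E) := fun K _ _ =>
    ⟨fun z ⟨n, hn⟩ => by
      obtain ⟨y, hy⟩ := h.exists_mul_mul_eq K z
      have : ∀ m, z = z ^ (m + 1) * y ^ m := fun m => by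
        induction m with
        | zero => rw [pow_one, pow_zero, mul_one]
        | succ m ih =>
          calc z = z * z * y := hy.symm
            _ = z ^ (m + 1) * y ^ m * z * y := by rw [← ih]
            _ = z ^ (m + 1 + 1) * y ^ (m + 1) := by ring
      rw [this n, pow_succ, hn, zero_mul, zero_mul]⟩
  set ψ := Algebra.TensorProduct.productMap (ιK h) (IsScalarTower.toAlgHom A E FE)
  obtain ⟨z, rfl⟩ := (productMap_bijective h).2 x
  obtain ⟨p, hp, hpz⟩ := hx
  have hz : (Algebra.TensorProduct.map (IsScalarTower.toAlgHom A A KA) (AlgHom.id A E)).toRingHom.IsIntegralElem z := by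
    refine ⟨p.map (Algebra.TensorProduct.includeRight : E →ₐ[A] A ⊗[A] E).toRingHom, hp.map _, ?_⟩
    apply (productMap_bijective h).1
    rw [map_zero, Polynomial.eval₂_map]
    show ψ.toRingHom _ = 0
    rw [Polynomial.hom_eval₂, ← hpz]
    congr 1
    ext e
    show ψ (algebraMap A KA 1 ⊗ₜ e) = algebraMap E FE e
    rw [map_one, Algebra.TensorProduct.productMap_apply_tmul, map_one, one_mul, IsScalarTower.coe_toAlgHom']
  obtain ⟨w, hw⟩ := GeomFieldLib.mem_tensorImage_of_integral_general hred (B := A) (C := KA) z hz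
  rw [← hw]
  clear hw hz hpz hp p
  induction w using TensorProduct.induction_on with
  | zero => rw [map_zero, map_zero]; exact zero_mem _
  | tmul a e => exact ⟨(⟨a.1, a.2⟩ : integralClosure A KA) ⊗ₜ e, rfl⟩
  | add a b ha hb => rw [map_add, map_add]; exact add_mem ha hb

end Groth.Agent.Hensel.NormSub
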