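import Groth.Agent.Hensel.NormGenFibre

/-!
# Local rings of normalizations inside an essentially étale algebra (EGA IV 18.10)
-/

set_option autoImplicit false
set_option linter.style.haveILetI false

universe u

open IsLocalRing TensorProduct

namespace Groth.Agent.Hensel.NormSub

section locImg

variable {W K : Type u} [CommRing W] [CommRing K] (π : W →+* K) (M : Ideal W) [M.IsPrime]

/-- Fractions of `π`-images with denominators outside `M`. -/
def locImg : Subring K where
  carrier := {u | ∃ p t, t ∉ M ∧ u * π t = π p}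
  mul_mem' := by
    rintro u v ⟨p, t, ht, hu⟩ ⟨q, s, hs, hv⟩
    refine ⟨p * q, t * s, (inferInstance : M.IsPrime).mul_notMem ht hs, ?_⟩
    rw [map_mul, map_mul, ← hu, ← hv]; ring
  add_mem' := by
    rintro u v ⟨p, t, ht, hu⟩ ⟨q, s, hs, hv⟩
    refine ⟨p * s + q * t, t * s, (inferInstance : M.IsPrime).mul_notMem ht hs, ?_⟩
    rw [map_add, map_mul, map_mul, map_mul, ← hu, ← hv]; ring
  one_mem' := ⟨1, 1, (M.ne_top_iff_one).1 (inferInstance : M.IsPrime).ne_top, by rw [map_one, mul_one]⟩
  zero_mem' := ⟨0, 1, (M.ne_top_iff_one).1 (inferInstance : M.IsPrime).ne_top, by rw [map_zero, zero_mul]⟩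
  neg_mem' := by
    rintro u ⟨p, t, ht, hu⟩
    exact ⟨-p, t, ht, by rw [neg_mul, hu, map_neg]⟩

theorem map_mem_locImg (w : W) : π w ∈ locImg π M :=
  ⟨w, 1, (M.ne_top_iff_one).1 (inferInstance : M.IsPrime).ne_top, by rw [map_one, mul_one]⟩

/-- `locImg` as a subalgebra. -/
def locImgAlg (R : Type u) [CommRing R] [Algebra R K] (hR : ∀ r : R, algebraMap R K r ∈ locImg π M) :
    Subalgebra R K :=
  { locImg π M with algebraMap_mem' := hR }

variable {R : Type u} [CommRing R] [Algebra R K] (hR : ∀ r : R, algebraMap R K r ∈ locImg π M)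

theorem locImgAlg_isUnit_of_notMem (hu : ∀ w, w ∉ M → ∃ v, π w * v = 1) (p : W) (hp : p ∉ M) :
    IsUnit (⟨π p, map_mem_locImg π M p⟩ : locImgAlg π M R hR) := by
  obtain ⟨v, hv⟩ := hu p hp
  refine IsUnit.of_mul_eq_one ⟨v, 1, p, hp, ?_⟩ (Subtype.ext hv)
  rw [mul_comm, hv, map_one]

theorem locImgAlg_notMem_of_isUnit (hker : ∀ w, π w = 0 → w ∈ M) (x : locImgAlg π M R hR) (p t : W)
    (hxp : (x : K) * π t = π p) (ht : t ∉ M) (hx : IsUnit x) : p ∉ M := fun hp => by
  obtain ⟨⟨v, q, s, hs, hv⟩, hxv⟩ := hx.exists_right_inv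
  have h1 : (x : K) * v = 1 := congrArg Subtype.val hxv
  have h2 : t * s - p * q ∈ M := hker _ (by
    rw [map_sub, map_mul, map_mul, ← hxp, ← hv]
    linear_combination -(π t * π s) * h1)
  have h3 := M.add_mem h2 (Ideal.mul_mem_right q M hp)
  rw [sub_add_cancel] at h3
  exact ((inferInstance : M.IsPrime).mul_notMem ht hs) h3

theorem locImgAlg_isUnit (hu : ∀ w, w ∉ M → ∃ v, π w * v = 1) (x : locImgAlg π M R hR) (p t : W)
    (hxp : (x : K) * π t = π p) (hp : p ∉ M) : IsUnit x := by
  refine isUnit_of_mul_isUnit_left (y := (⟨π t, map_mem_locImg π M t⟩ : locImgAlg π M R hR)) ?_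
  rw [show x * (⟨π t, map_mem_locImg π M t⟩ : locImgAlg π M R hR) = ⟨π p, map_mem_locImg π M p⟩ from Subtype.ext hxp]
  exact locImgAlg_isUnit_of_notMem π M hR hu p hp

theorem locImgAlg_isLocalRing [Nontrivial K] (hu : ∀ w, w ∉ M → ∃ v, π w * v = 1) :
    IsLocalRing (locImgAlg π M R hR) := by
  refine IsLocalRing.of_isUnit_or_isUnit_one_sub_self fun x => ?_
  obtain ⟨p, t, ht, hx⟩ := x.2
  by_cases hp : p ∈ M
  · refine Or.inr (locImgAlg_isUnit π M hR hu _ (t - p) t ?_ fun h' => ht (by simpa using M.add_mem h' hp))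
    show (1 - (x : K)) * π t = π (t - p)
    rw [map_sub, ← hx]; ring
  · exact Or.inl (locImgAlg_isUnit π M hR hu x p t hx hp)

end locImg

section essEtale

variable {A E R : Type u} [CommRing A] [IsLocalRing A] [CommRing E] [Algebra A E]
  [CommRing R] [IsLocalRing R] [IsDomain R] [IsIntegrallyClosed R] [Algebra A R]
  {S : Type u} [CommRing S] [IsDomain S] [IsLocalRing S] [Algebra R S] [Algebra A S] [IsScalarTower A R S]
  [IsLocalHom (algebraMap R S)]

/-- A local domain generated by a normal `R` and the image of an essentially étale `A`-algebra is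
essentially étale over `R`. -/
theorem isEssentiallyEtale_of_generated (hE : EGA4loc.IsEssentiallyEtale A E)
    (hinj : Function.Injective (algebraMap R S)) (ψ : E →ₐ[A] S)
    (hgen : ∀ v : S, ∃ p t : R ⊗[A] E,
      IsUnit (Algebra.TensorProduct.productMap (IsScalarTower.toAlgHom A R S) ψ t) ∧
      v * Algebra.TensorProduct.productMap (IsScalarTower.toAlgHom A R S) ψ t =
        Algebra.TensorProduct.productMap (IsScalarTower.toAlgHom A R S) ψ p) :
    EGA4loc.IsEssentiallyEtale R S ∧ Algebra.IsSeparable (ResidueField R) (ResidueField S) ∧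
      Algebra.EssFiniteType R S := by
  classical
  obtain ⟨C, _, _, qC, _, hC, hqC, ⟨e⟩⟩ := hE
  haveI := hC
  let θC : C →ₐ[A] E := e.symm.toAlgHom.comp (IsScalarTower.toAlgHom A C (Localization.AtPrime qC))
  have hsurjE : ∀ x : E, ∃ c u : C, IsUnit (θC u) ∧ x * θC u = θC c := fun x => by
    obtain ⟨c, u, hcu⟩ := IsLocalization.exists_mk'_eq qC.primeCompl (e x)
    refine ⟨c, u, (IsLocalization.map_units (Localization.AtPrime qC) u).map e.symm, ?_⟩
    have h1 := congrArg e.symm (IsLocalization.mk'_spec (Localization.AtPrime qC) c u)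
    rw [map_mul, hcu, e.symm_apply_apply] at h1
    exact h1
  let μ : R ⊗[A] C →ₐ[R] S := Algebra.TensorProduct.lift (Algebra.ofId R S) (ψ.comp θC) (fun _ _ => Commute.all _ _)
  haveI : ((maximalIdeal S).comap μ.toRingHom).IsPrime := Ideal.IsPrime.comap _
  set Q : Ideal (R ⊗[A] C) := (maximalIdeal S).comap μ.toRingHom with hQdef
  have hQR : Q.comap (algebraMap R (R ⊗[A] C)) = maximalIdeal R := by
    ext r
    show μ (algebraMap R (R ⊗[A] C) r) ∈ maximalIdeal S ↔ _
    rw [μ.commutes, mem_maximalIdeal, mem_maximalIdeal, mem_nonunits_iff, mem_nonunits_iff]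
    exact not_congr (isUnit_map_iff (algebraMap R S) r)
  have hX : EGA4loc.IsEssentiallyEtale R (Localization.AtPrime Q) :=
    ⟨R ⊗[A] C, inferInstance, inferInstance, Q, inferInstance, inferInstance, hQR, ⟨AlgEquiv.refl⟩⟩
  have hXe := isEtLike_of_isEssentiallyEtale hX
  haveI : IsDomain (Localization.AtPrime Q) := hXe.isDomain_and_isIntegrallyClosed.1
  have hμu : ∀ z : Q.primeCompl, IsUnit (μ z) := fun z => not_not.1 fun hne => z.2 hne
  let θ : Localization.AtPrime Q →ₐ[R] S := IsLocalization.liftAlgHom (M := Q.primeCompl) (f := μ) hμu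
  have hθ : ∀ z, θ (algebraMap (R ⊗[A] C) _ z) = μ z := fun z => IsLocalization.lift_eq hμu z
  have hθinj : Function.Injective θ := by
    refine (RingHom.injective_iff_ker_eq_bot θ.toRingHom).2 ?_
    haveI : (RingHom.ker θ.toRingHom).IsPrime := RingHom.ker_isPrime _
    refine (hXe.eq_of_le_of_comap_eq (P := ⊥) bot_le ?_).symm
    rw [← RingHom.ker_eq_comap_bot, RingHom.comap_ker, AlgHom.toRingHom_eq_coe, AlgHom.comp_algebraMap,
      (RingHom.injective_iff_ker_eq_bot _).1 hXe.algebraMap_injective, (RingHom.injective_iff_ker_eq_bot _).1 hinj]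
  have hall : ∀ z : R ⊗[A] E, ∃ x, θ x = Algebra.TensorProduct.productMap (IsScalarTower.toAlgHom A R S) ψ z := by
    intro z
    induction z using TensorProduct.induction_on with
    | zero => exact ⟨0, by rw [map_zero, map_zero]⟩
    | add a b ha hb =>
      obtain ⟨x, hx⟩ := ha
      obtain ⟨y, hy⟩ := hb
      exact ⟨x + y, by rw [map_add, map_add, hx, hy]⟩
    | tmul r x =>
      obtain ⟨c, u, hu, hxu⟩ := hsurjE x
      have hμ1 : ∀ v, μ (1 ⊗ₜ v) = ψ (θC v) := fun v => by
        rw [Algebra.TensorProduct.lift_tmul, map_one, one_mul, AlgHom.comp_apply]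
      obtain ⟨w, hw⟩ := (IsLocalization.map_units (Localization.AtPrime Q) (⟨1 ⊗ₜ u, fun hmem => by
        have h1 : μ (1 ⊗ₜ u) ∈ maximalIdeal S := hmem
        rw [hμ1, mem_maximalIdeal] at h1
        exact h1 (hu.map ψ)⟩ : Q.primeCompl)).exists_right_inv
      refine ⟨algebraMap (R ⊗[A] C) _ (r ⊗ₜ c) * w, ?_⟩
      have h1 : ψ (θC u) * θ w = 1 := by
        rw [← hμ1, ← hθ, ← map_mul, hw, map_one]
      rw [map_mul, hθ, Algebra.TensorProduct.lift_tmul, AlgHom.comp_apply, Algebra.ofId_apply,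
        Algebra.TensorProduct.productMap_apply_tmul, IsScalarTower.coe_toAlgHom', ← hxu, map_mul, mul_assoc,
        mul_assoc, h1, mul_one]
  haveI : IsLocalHom θ.toRingHom := ⟨fun y hy => by
    obtain ⟨c, s, rfl⟩ := IsLocalization.exists_mk'_eq Q.primeCompl y
    refine (IsLocalization.AtPrime.isUnit_mk'_iff (Localization.AtPrime Q) Q c s).2 fun hc => ?_
    have h1 : μ c ∈ maximalIdeal S := hc
    rw [← hθ, ← IsLocalization.mk'_spec (Localization.AtPrime Q) c s, map_mul, mem_maximalIdeal] at h1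
    exact h1 ((hy : IsUnit (θ _)).mul (by rw [hθ]; exact hμu s))⟩
  have hθsurj : Function.Surjective θ := by
    intro v
    obtain ⟨p, t, ht, hv⟩ := hgen v
    obtain ⟨xp, hxp⟩ := hall p
    obtain ⟨xt, hxt⟩ := hall t
    have hu : IsUnit xt := isUnit_of_map_unit θ.toRingHom xt (by
      show IsUnit (θ xt); rw [hxt]; exact ht)
    obtain ⟨w, hw⟩ := hu.exists_right_inv
    refine ⟨xp * w, ?_⟩
    rw [map_mul, hxp, ← hv, ← hxt, mul_assoc, ← map_mul, hw, map_one, mul_one]
  haveI : Algebra.FormallyUnramified R S := by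
    haveI : Algebra.FormallyUnramified (R ⊗[A] C) (Localization.AtPrime Q) :=
      Algebra.FormallyUnramified.of_isLocalization Q.primeCompl
    haveI : Algebra.FormallyUnramified R (Localization.AtPrime Q) := Algebra.FormallyUnramified.comp R (R ⊗[A] C) _
    exact Algebra.FormallyUnramified.of_equiv (AlgEquiv.ofBijective θ ⟨hθinj, hθsurj⟩)
  haveI : Algebra.EssFiniteType R S := by
    haveI : Algebra.EssFiniteType (R ⊗[A] C) (Localization.AtPrime Q) :=
      Algebra.EssFiniteType.of_isLocalization _ Q.primeCompl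
    haveI : Algebra.EssFiniteType R (Localization.AtPrime Q) := Algebra.EssFiniteType.comp R (R ⊗[A] C) _
    exact Algebra.EssFiniteType.of_surjective θ hθsurj
  exact ⟨⟨R ⊗[A] C, inferInstance, inferInstance, Q, inferInstance, inferInstance, hQR,
    ⟨(AlgEquiv.ofBijective θ ⟨hθinj, hθsurj⟩).symm⟩⟩, inferInstance, inferInstance⟩

end essEtale

end Groth.Agent.Hensel.NormSub
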