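import Groth.Agent.Hensel.NormGenFibre
import Groth.Agent.Hensel.IndEtaleSub
import Groth.Agent.Hens.EtLikeBaseChange
import Groth.Agent.Hens.BranchCore
import Groth.Agent.StrictHens.Basic

/-!
# Subrings with trivial residual extension of the normalization are ind-étale (EGA IV 18.10)
-/

set_option autoImplicit false
set_option linter.style.haveILetI false

universe u

open IsLocalRing TensorProduct

namespace Groth.Agent.Hensel.NormRes

open NormSub

section lift

variable {R0 R X L : Type u} [CommRing R0] [IsLocalRing R0] [IsDomain R0] [IsIntegrallyClosed R0]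
  [CommRing R] [HenselianLocalRing R] [Algebra R0 R] [IsLocalHom (algebraMap R0 R)]
  [CommRing X] [IsLocalRing X] [IsDomain X] [IsIntegrallyClosed X] [Algebra R0 X]
  [CommRing L] [IsLocalRing L] [Algebra R0 L] [IsLocalHom (algebraMap R0 L)]
  [Algebra.IsSeparable (ResidueField R0) (ResidueField L)]

/-- A normal local subring with residue field in that of a henselian algebra lifts into it. -/
theorem exists_lift (h0 : IsEtLike R0 L) (iX : X →ₐ[R0] L) (hiX : Function.Injective iX)
    [IsLocalHom iX.toRingHom] (iR : R →ₐ[R0] L) [IsLocalHom iR.toRingHom] (rv : X → R)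
    (hrv : ∀ v, iX v - iR (rv v) ∈ maximalIdeal L) (x : X) :
    ∃ (E : Subalgebra R0 X) (σ : E →ₐ[R0] R) (_ : x ∈ E),
      ∀ (L' : Type u) [CommRing L'] [IsLocalRing L'] [Algebra R0 L'] (iX' : X →ₐ[R0] L') (iR' : R →ₐ[R0] L')
        [IsLocalHom iR'.toRingHom], (∀ v, iX' v - iR' (rv v) ∈ maximalIdeal L') → ∀ e : E, iR' (σ e) = iX' e := by
  classical
  let e : X ≃ₐ[R0] iX.range := AlgEquiv.ofInjective iX hiX
  haveI : IsLocalRing iX.range := e.toRingEquiv.isLocalRing
  haveI : IsLocalHom (algebraMap iX.range L) := ⟨fun v hv => by
    obtain ⟨w, rfl⟩ := e.surjective v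
    exact (isUnit_of_map_unit iX.toRingHom w hv).map e⟩
  haveI : IsDomain iX.range := MulEquiv.isDomain X e.symm.toMulEquiv
  haveI : IsIntegrallyClosed iX.range := IsIntegrallyClosed.of_equiv e.toRingEquiv
  obtain ⟨E0, hle, hxE, hE0⟩ := h0.exists_essSub_le_of_normal iX.range {iX x} (by
    rw [Finset.coe_singleton, Set.singleton_subset_iff]; exact ⟨x, rfl⟩)
  haveI := hE0.isLocalRing
  haveI := hE0.isLocalHom
  haveI : IsLocalHom (algebraMap R0 E0) := ⟨fun a ha => isUnit_of_map_unit (algebraMap R0 L) a (ha.map E0.val)⟩
  let f : ResidueField E0 →+* ResidueField L := ResidueField.map (algebraMap E0 L)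
  let g : ResidueField R →+* ResidueField L := ResidueField.map iR.toRingHom
  have hfg : ∀ z, f z ∈ g.range := fun z => by
    obtain ⟨w, rfl⟩ := residue_surjective z
    obtain ⟨v, hv⟩ := hle w.2
    refine ⟨residue R (rv v), ?_⟩
    rw [ResidueField.map_residue, ResidueField.map_residue]
    show residue L (iR (rv v)) = residue L (w : L)
    rw [← show iX v = (w : L) from hv]
    exact (sub_eq_zero.1 (by rw [← map_sub, residue_eq_zero_iff]; exact hrv v)).symm
  let eg : ResidueField R ≃+* g.range := RingEquiv.ofBijective g.rangeRestrict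
    ⟨fun a b hab => g.injective (congrArg Subtype.val hab), g.rangeRestrict_surjective⟩
  let α : ResidueField E0 →+* ResidueField R := eg.symm.toRingHom.comp (f.codRestrict g.range hfg)
  have hgα : ∀ z, g (α z) = f z := fun z =>
    congrArg Subtype.val (eg.apply_symm_apply (f.codRestrict g.range hfg z))
  obtain ⟨σ, ⟨-, hσ, hσres⟩, -⟩ := existsUnique_of_isEssentiallyEtale hE0.essEtale R (algebraMap R0 R) α (by
    refine RingHom.ext fun z => g.injective ?_
    obtain ⟨a, rfl⟩ := residue_surjective z
    rw [RingHom.comp_apply, hgα, ResidueField.map_residue, ResidueField.map_residue, ResidueField.map_residue,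
      ResidueField.map_residue]
    show residue L (algebraMap E0 L (algebraMap R0 E0 a)) = residue L (iR (algebraMap R0 R a))
    rw [iR.commutes]
    rfl)
  let σA : E0 →ₐ[R0] R := { toRingHom := σ, commutes' := fun a => RingHom.congr_fun hσ a }
  let ι : E0.comap iX →ₐ[R0] E0 := (iX.comp (E0.comap iX).val).codRestrict E0 fun v => v.2
  refine ⟨E0.comap iX, σA.comp ι, hxE (Finset.mem_coe.2 (Finset.mem_singleton_self _)), ?_⟩
  intro L' _ _ _ iX' iR' _ hrv' v
  have hbij : Function.Bijective ι := ⟨fun a b hab => Subtype.ext (hiX (congrArg Subtype.val hab :)), fun w => by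
    obtain ⟨v, hv⟩ := hle w.2
    exact ⟨⟨v, show iX v ∈ E0 by rw [show iX v = (w : L) from hv]; exact w.2⟩, Subtype.ext hv⟩⟩
  obtain ⟨C, _, _, q, _, hC, hq, ⟨eC⟩⟩ := hE0.essEtale
  have hE : EGA4loc.IsEssentiallyEtale R0 (E0.comap iX) :=
    ⟨C, inferInstance, inferInstance, q, inferInstance, hC, hq, ⟨(AlgEquiv.ofBijective ι hbij).trans eC⟩⟩
  have heq : iR'.comp (σA.comp ι) = iX'.comp (E0.comap iX).val := by
    refine algHom_eq_of_isEssentiallyEtale hE fun w => ?_
    show residue L' (iR' (σ (ι w))) = residue L' (iX' w)
    have h1 : residue R (σ (ι w)) = residue R (rv w) := by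
      apply g.injective
      rw [hσres, hgα, ResidueField.map_residue, ResidueField.map_residue]
      show residue L (iX w) = residue L (iR (rv w))
      exact sub_eq_zero.1 (by rw [← map_sub, residue_eq_zero_iff]; exact hrv w)
    have h2 : residue L' (iR' (σ (ι w))) = residue L' (iR' (rv w)) := by
      rw [show iR' (σ (ι w)) = iR'.toRingHom (σ (ι w)) from rfl, show iR' (rv w) = iR'.toRingHom (rv w) from rfl,
        ← ResidueField.map_residue iR'.toRingHom, ← ResidueField.map_residue iR'.toRingHom, h1]
    rw [h2]
    exact (sub_eq_zero.1 (by rw [← map_sub, residue_eq_zero_iff]; exact hrv' w)).symm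
  exact AlgHom.congr_fun heq v

end lift

section maps

variable {A S : Type u} [CommRing A] [IsLocalRing A] [IsReduced A] [IsNoetherianRing A]
  [CommRing S] [IsLocalRing S] [Algebra A S]

/-- The embedding of `A'' ⊗ S` into the total ring of fractions of `S`. -/
noncomputable def toFS (h : IsEtLike A S) :
    integralClosure A (FractionRing A) ⊗[A] S →ₐ[A] FractionRing S :=
  Algebra.TensorProduct.productMap ((ιK h).comp (integralClosure A (FractionRing A)).val)
    (IsScalarTower.toAlgHom A S (FractionRing S))

theorem toFS_injective (h : IsEtLike A S) : Function.Injective (toFS h) := by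
  haveI := h.flat
  let g := Algebra.TensorProduct.map (integralClosure A (FractionRing A)).val (AlgHom.id A S)
  have hg : Function.Injective g :=
    Module.Flat.rTensor_preserves_injective_linearMap (M := S)
      (integralClosure A (FractionRing A)).val.toLinearMap Subtype.val_injective
  have hcomp : ∀ z, toFS h z =
      Algebra.TensorProduct.productMap (ιK h) (IsScalarTower.toAlgHom A S (FractionRing S)) (g z) := fun z => by
    induction z using TensorProduct.induction_on with
    | zero => simp
    | tmul a s => simp [toFS, g]
    | add p q hp hq => simp only [map_add, hp, hq]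
  intro a b hab
  rw [hcomp, hcomp] at hab
  exact hg ((productMap_bijective h).1 hab)

variable (h : IsEtLike A S) (D : Subalgebra A S)

theorem finite_minimalPrimes_subalgebra (h : IsEtLike A S) : (minimalPrimes D).Finite := by
  haveI : IsNoetherianRing S := h.isNoetherianRing_of_base
  refine ((minimalPrimes.finite_of_isNoetherianRing S).image fun Q => Q.comap D.val.toRingHom).subset fun P hP => ?_
  haveI := hP.1.1
  obtain ⟨Q, hQ, hQP⟩ := Ideal.exists_minimalPrimes_comap_eq (f := D.val.toRingHom) (I := ⊥) P
    (by rwa [← RingHom.ker_eq_comap_bot, (RingHom.injective_iff_ker_eq_bot _).1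
      (Subtype.val_injective : Function.Injective D.val)])
  exact ⟨Q, hQ, hQP⟩

theorem isReduced_subalgebra (h : IsEtLike A S) : IsReduced D := by
  haveI : IsReduced S := h.isReduced_iff.1 inferInstance
  exact isReduced_of_injective D.val Subtype.val_injective

theorem isUnit_algebraMap_of_nzd (h : IsEtLike A S) {d : D} (hd : d ∈ nonZeroDivisors D) :
    IsUnit (algebraMap S (FractionRing S) (d : S)) := by
  obtain ⟨a, ha, d', hd'⟩ := h.exists_mul_eq_algebraMap (minimalPrimes.finite_of_isNoetherianRing A) D hd
  have h1 : (d : S) * (d' : S) = algebraMap A S a := congrArg Subtype.val hd'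
  refine isUnit_of_mul_isUnit_left (y := algebraMap S (FractionRing S) (d' : S)) ?_
  rw [← map_mul, h1, ← IsScalarTower.algebraMap_apply]
  exact algebraMap_nzd_isUnit h ha

/-- The map of total rings of fractions of a subalgebra into that of `S`. -/
noncomputable def fracMap : FractionRing D →ₐ[A] FractionRing S :=
  IsLocalization.liftAlgHom (M := nonZeroDivisors D)
    (f := (IsScalarTower.toAlgHom A S (FractionRing S)).comp D.val) fun d => isUnit_algebraMap_of_nzd D h d.2

theorem fracMap_algebraMap (d : D) :
    fracMap h D (algebraMap D (FractionRing D) d) = algebraMap S (FractionRing S) (d : S) :=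
  IsLocalization.lift_eq (M := nonZeroDivisors D) _ d

theorem fracMap_injective : Function.Injective (fracMap h D) := by
  refine (injective_iff_map_eq_zero _).2 fun z hz => ?_
  obtain ⟨d, s, rfl⟩ := IsLocalization.exists_mk'_eq (nonZeroDivisors D) z
  have h1 : fracMap h D (IsLocalization.mk' _ d s) * fracMap h D (algebraMap D (FractionRing D) s) =
      fracMap h D (algebraMap D (FractionRing D) d) := by rw [← map_mul, IsLocalization.mk'_spec]
  rw [hz, zero_mul, fracMap_algebraMap] at h1
  rw [show d = 0 from Subtype.ext (IsFractionRing.injective S (FractionRing S) (h1.symm.trans (map_zero _).symm))]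
  exact IsLocalization.mk'_zero _

/-- The map of total rings of fractions from the base. -/
noncomputable def baseMap : FractionRing A →ₐ[A] FractionRing D :=
  IsLocalization.liftAlgHom (M := nonZeroDivisors A) (f := Algebra.ofId A (FractionRing D)) fun a => by
    show IsUnit (algebraMap A (FractionRing D) a)
    rw [IsScalarTower.algebraMap_apply A D (FractionRing D)]
    exact IsLocalization.map_units (FractionRing D)
      (⟨_, h.subalgebraMap_mem_nonZeroDivisors D a.2⟩ : nonZeroDivisors D)

theorem fracMap_baseMap (k : FractionRing A) : fracMap h D (baseMap h D k) = ιK h k := by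
  have : (fracMap h D).comp (baseMap h D) = ιK h :=
    IsLocalization.algHom_ext (nonZeroDivisors A) (Subsingleton.elim _ _)
  exact AlgHom.congr_fun this k

/-- The map from the normalization of the base. -/
noncomputable def jD : integralClosure A (FractionRing A) →ₐ[A]
    (integralClosure D (FractionRing D)).restrictScalars A :=
  ((baseMap h D).comp (integralClosure A (FractionRing A)).val).codRestrict _ fun z =>
    ((z.2.map (baseMap h D)).tower_top : IsIntegral D _)

theorem mem_range_toFS (y : (integralClosure D (FractionRing D)).restrictScalars A) :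
    fracMap h D (y : FractionRing D) ∈ (toFS h).range := by
  refine mem_range_of_isIntegral h _ ?_
  obtain ⟨p, hp, hpy⟩ := y.2
  refine ⟨p.map D.val.toRingHom, hp.map _, ?_⟩
  rw [Polynomial.eval₂_map, show (algebraMap S (FractionRing S)).comp D.val.toRingHom =
    (fracMap h D).toRingHom.comp (algebraMap D (FractionRing D)) from
    RingHom.ext fun d => (fracMap_algebraMap h D d).symm]
  show Polynomial.eval₂ _ ((fracMap h D).toRingHom y) p = 0
  rw [← Polynomial.hom_eval₂, hpy, map_zero]

/-- The map from the normalization of `D` to `A'' ⊗ S`. -/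
noncomputable def toP : (integralClosure D (FractionRing D)).restrictScalars A →ₐ[A]
    integralClosure A (FractionRing A) ⊗[A] S :=
  (AlgEquiv.ofInjective (toFS h) (toFS_injective h)).symm.toAlgHom.comp
    (((fracMap h D).comp ((integralClosure D (FractionRing D)).restrictScalars A).val).codRestrict _
      (mem_range_toFS h D))

theorem toFS_toP (y : (integralClosure D (FractionRing D)).restrictScalars A) :
    toFS h (toP h D y) = fracMap h D (y : FractionRing D) :=
  congrArg Subtype.val ((AlgEquiv.ofInjective (toFS h) (toFS_injective h)).apply_symm_apply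
    ⟨_, mem_range_toFS h D y⟩)

theorem toP_jD (a : integralClosure A (FractionRing A)) : toP h D (jD h D a) = a ⊗ₜ[A] (1 : S) := by
  apply toFS_injective h
  rw [toFS_toP, toFS, Algebra.TensorProduct.productMap_apply_tmul, map_one, mul_one]
  exact fracMap_baseMap h D _

theorem toP_algebraMap (d : D) :
    toP h D ⟨algebraMap D (FractionRing D) d, (integralClosure D (FractionRing D)).algebraMap_mem d⟩ =
      (1 : integralClosure A (FractionRing A)) ⊗ₜ[A] (d : S) := by
  apply toFS_injective h
  rw [toFS_toP, toFS, Algebra.TensorProduct.productMap_apply_tmul, map_one, one_mul]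
  exact fracMap_algebraMap h D d

end maps

section residue

variable {A S : Type u} [CommRing A] [IsLocalRing A] [CommRing S] [IsLocalRing S] [Algebra A S]
  [IsLocalHom (algebraMap A S)] [Algebra.IsSeparable (ResidueField A) (ResidueField S)]
  {B : Type u} [CommRing B] [Algebra A B]

/-- The residue fields of a base change are separable over those of the base. -/
theorem isSeparable_residue_tensor [Algebra.IsIntegral A B] (M : Ideal (B ⊗[A] S)) [M.IsMaximal]
    [Algebra (Localization.AtPrime (M.comap (algebraMap B (B ⊗[A] S)))) (Localization.AtPrime M)]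
    [IsLocalHom (algebraMap (Localization.AtPrime (M.comap (algebraMap B (B ⊗[A] S)))) (Localization.AtPrime M))]
    [IsScalarTower B (Localization.AtPrime (M.comap (algebraMap B (B ⊗[A] S)))) (Localization.AtPrime M)] :
    Algebra.IsSeparable (ResidueField (Localization.AtPrime (M.comap (algebraMap B (B ⊗[A] S)))))
      (ResidueField (Localization.AtPrime M)) := by
  classical
  let R0 := Localization.AtPrime (M.comap (algebraMap B (B ⊗[A] S)))
  let L := Localization.AtPrime M
  let π : B ⊗[A] S →+* ResidueField L := (residue L).comp (algebraMap _ L)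
  let K := separableClosure (ResidueField R0) (ResidueField L)
  have hb : ∀ b : B, π (b ⊗ₜ 1) ∈ K := fun b => by
    rw [show π (b ⊗ₜ 1) = algebraMap (ResidueField R0) (ResidueField L) (residue R0 (algebraMap B R0 b)) by
      show residue L (algebraMap _ L (algebraMap B (B ⊗[A] S) b)) =
        ResidueField.map (algebraMap R0 L) (residue R0 (algebraMap B R0 b))
      rw [ResidueField.map_residue, ← IsScalarTower.algebraMap_apply B R0 L, ← IsScalarTower.algebraMap_apply]]
    exact K.algebraMap_mem _
  have hs : ∀ s : S, π (1 ⊗ₜ s) ∈ K := fun s => by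
    rw [mem_separableClosure_iff]
    have hloc : ∀ a ∈ maximalIdeal A, algebraMap B R0 (algebraMap A B a) ∈ maximalIdeal R0 := fun a ha => by
      refine (IsLocalization.AtPrime.to_map_mem_maximal_iff R0 (M.comap (algebraMap B (B ⊗[A] S))) _).2 ?_
      haveI := Hens.isMaximal_comap_tensor (S := S) M
      have := IsLocalRing.eq_maximalIdeal
        (Ideal.isMaximal_comap_of_isIntegral_of_isMaximal (R := A) (M.comap (algebraMap B (B ⊗[A] S))))
      exact this.ge ha
    let c : ResidueField A →+* ResidueField R0 :=
      Ideal.Quotient.lift _ ((residue R0).comp ((algebraMap B R0).comp (algebraMap A B))) fun a ha =>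
        (residue_eq_zero_iff _).2 (hloc a ha)
    have hq := Algebra.IsSeparable.isSeparable (ResidueField A) (residue S s)
    refine Polynomial.Separable.of_dvd (Polynomial.Separable.map (f := c) hq) (minpoly.dvd _ _ ?_)
    let ψ : S →+* ResidueField L := π.comp Algebra.TensorProduct.includeRight.toRingHom
    have hψ : maximalIdeal S ≤ RingHom.ker ψ := fun z hz => by
      rw [← Hens.comap_eq_maximalIdeal_of_isMaximal M] at hz
      exact (residue_eq_zero_iff _).2 ((IsLocalization.AtPrime.to_map_mem_maximal_iff L M _).2 hz)
    let ψbar : ResidueField S →+* ResidueField L := Ideal.Quotient.lift _ ψ hψ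
    rw [Polynomial.aeval_def, Polynomial.eval₂_map, show (algebraMap (ResidueField R0) (ResidueField L)).comp c =
      ψbar.comp (algebraMap (ResidueField A) (ResidueField S)) from Ideal.Quotient.ringHom_ext (RingHom.ext fun a => by
        show ResidueField.map (algebraMap R0 L) (residue R0 (algebraMap B R0 (algebraMap A B a))) =
          π (1 ⊗ₜ algebraMap A S a)
        rw [ResidueField.map_residue, ← IsScalarTower.algebraMap_apply B R0 L,
          IsScalarTower.algebraMap_apply B (B ⊗[A] S) L]
        refine congrArg (fun v => residue L (algebraMap (B ⊗[A] S) L v)) ?_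
        show algebraMap A B a ⊗ₜ[A] (1 : S) = 1 ⊗ₜ algebraMap A S a
        rw [Algebra.algebraMap_eq_smul_one, Algebra.algebraMap_eq_smul_one, TensorProduct.smul_tmul])]
    show Polynomial.eval₂ (ψbar.comp _) (ψbar (residue S s)) _ = 0
    rw [← Polynomial.hom_eval₂, ← Polynomial.aeval_def, minpoly.aeval, map_zero]
  have hP : ∀ p, π p ∈ K := fun p => by
    induction p using TensorProduct.induction_on with
    | zero => rw [map_zero]; exact zero_mem _
    | tmul b s =>
      rw [show b ⊗ₜ[A] s = (b ⊗ₜ 1) * (1 ⊗ₜ s) by simp, map_mul]
      exact mul_mem (hb b) (hs s)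
    | add p q hp hq => rw [map_add]; exact add_mem hp hq
  refine ⟨fun z => mem_separableClosure_iff.1 ?_⟩
  obtain ⟨v, rfl⟩ := residue_surjective z
  obtain ⟨p, t, rfl⟩ := IsLocalization.exists_mk'_eq M.primeCompl v
  have h1 : residue L (IsLocalization.mk' L p t) * π t = π p := by
    show _ * residue L (algebraMap _ L (t : B ⊗[A] S)) = residue L (algebraMap _ L p)
    rw [← map_mul, IsLocalization.mk'_spec]
  have h2 : π t ≠ 0 := (residue_ne_zero_iff_isUnit _).2 (IsLocalization.map_units L t)
  rw [(eq_div_iff h2).2 h1]
  exact div_mem (hP p) (hP _)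

end residue

end Groth.Agent.Hensel.NormRes
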