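import Groth.Agent.Hensel.NormResidueIff
import Groth.Agent.Hensel.EssSubDesc
import Groth.Agent.Hens.Local

/-!
# EGA IV 18.10: the residual criterion, in the form of the milestones
-/

set_option autoImplicit false
set_option linter.style.haveILetI false

universe u

open IsLocalRing TensorProduct

namespace Groth.Agent.Hensel.NormRes

open NormSub

/-- An element in every extended maximal ideal lies in the extended radical. -/
theorem mem_map_jacobson {R T : Type u} [CommRing R] [CommRing T] (f : R →+* T)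
    (hfin : {n : Ideal R | n.IsMaximal}.Finite) {p : T} (hp : ∀ n : Ideal R, n.IsMaximal → p ∈ n.map f) :
    p ∈ (Ideal.jacobson (⊥ : Ideal R)).map f := by
  classical
  have h1 : p ∈ ⨅ n ∈ hfin.toFinset, Ideal.map f n :=
    (Submodule.mem_iInf _).2 fun n => (Submodule.mem_iInf _).2 fun hn => hp n (hfin.mem_toFinset.1 hn)
  rw [← Ideal.prod_eq_iInf_of_pairwise_isCoprime (fun a ha b hb hab => by
    show IsCoprime (Ideal.map f a) (Ideal.map f b)
    rw [Ideal.isCoprime_iff_sup_eq, ← Ideal.map_sup,
      (hfin.mem_toFinset.1 ha).coprime_of_ne (hfin.mem_toFinset.1 hb) hab, Ideal.map_top])] at h1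
  have h2 : ∏ n ∈ hfin.toFinset, Ideal.map f n = Ideal.map f (∏ n ∈ hfin.toFinset, n) :=
    (map_prod (Ideal.mapHom f) (fun n => n) hfin.toFinset).symm
  rw [h2] at h1
  refine Ideal.map_mono (fun x hx => ?_) h1
  rw [mem_jacobson_bot_iff]
  intro M hM
  exact (Finset.inf_le (f := fun n : Ideal R => n) (hfin.mem_toFinset.2 hM)) (Ideal.prod_le_inf hx)

/-- Transport of `mem_map_jacobson` along an isomorphism of the base-changed ring. -/
theorem map_mem_map_jacobson {A B B' D : Type u} [CommRing A] [CommRing B] [CommRing B'] [CommRing D]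
    [Algebra A B] [Algebra A B'] [Algebra A D] (e : B ≃ₐ[A] B') (hfin : {n : Ideal B | n.IsMaximal}.Finite)
    (p : B ⊗[A] D)
    (hp : ∀ n : Ideal B, n.IsMaximal → p ∈ n.map (Algebra.TensorProduct.includeLeft : B →ₐ[A] B ⊗[A] D)) :
    Algebra.TensorProduct.map e.toAlgHom (AlgHom.id A D) p ∈
      (Ideal.jacobson (⊥ : Ideal B')).map (Algebra.TensorProduct.includeLeft : B' →ₐ[A] B' ⊗[A] D) := by
  have h2 := mem_map_jacobson (Algebra.TensorProduct.includeLeft : B →ₐ[A] B ⊗[A] D).toRingHom hfin (p := p) hp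
  have h3 := Ideal.mem_map_of_mem (Algebra.TensorProduct.map e.toAlgHom (AlgHom.id A D)).toRingHom h2
  rw [Ideal.map_map] at h3
  refine (Ideal.map_le_iff_le_comap.2 fun a ha => ?_) h3
  rw [Ideal.mem_comap]
  show Algebra.TensorProduct.map e.toAlgHom (AlgHom.id A D) (a ⊗ₜ[A] (1 : D)) ∈ _
  rw [Algebra.TensorProduct.map_tmul, map_one]
  refine Ideal.mem_map_of_mem (Algebra.TensorProduct.includeLeft : B' →ₐ[A] B' ⊗[A] D) ?_
  refine mem_jacobson_bot_iff.2 fun M hM => ?_
  haveI := hM
  exact mem_jacobson_bot_iff.1 ha _ (Ideal.comap_isMaximal_of_surjective e.toRingEquiv.toRingHom e.surjective)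

variable {A S : Type u} [CommRing A] [IsLocalRing A] [IsReduced A] [IsNoetherianRing A]
  [CommRing S] [IsLocalRing S] [Algebra A S]

local notation "A''" => integralClosure A (FractionRing A)
local notation "FS" => FractionRing S

omit [IsReduced A] [IsNoetherianRing A] in
/-- A faithfully flat extension detects the unramified condition. -/
theorem map_maximalIdeal_eq (h : IsEtLike A S) (D : Subalgebra A S) [IsLocalRing D] [IsLocalHom (algebraMap D S)]
    [Module.FaithfullyFlat D S] :
    Ideal.map (algebraMap A D) (maximalIdeal A) = maximalIdeal D := by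
  have h1 : ((maximalIdeal A).map (algebraMap A D)).map (algebraMap D S) = (maximalIdeal D).map (algebraMap D S) := by
    refine le_antisymm (Ideal.map_mono (Ideal.map_le_iff_le_comap.2 fun a ha => ?_)) ?_
    · rw [Ideal.mem_comap, mem_maximalIdeal, mem_nonunits_iff]
      intro hu
      haveI := h.isLocalHom
      exact (mem_maximalIdeal _).1 ha (isUnit_of_map_unit (algebraMap A S) a (hu.map D.val))
    · rw [Ideal.map_map, ← IsScalarTower.algebraMap_eq, h.map_max]
      refine Ideal.map_le_iff_le_comap.2 fun d hd => ?_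
      rw [Ideal.mem_comap, mem_maximalIdeal, mem_nonunits_iff]
      exact fun hu => (mem_maximalIdeal _).1 hd (isUnit_of_map_unit (algebraMap D S) d hu)
  have h2 := congrArg (Ideal.comap (algebraMap D S)) h1
  rwa [Ideal.comap_map_eq_self_of_faithfullyFlat, Ideal.comap_map_eq_self_of_faithfullyFlat] at h2

/-- Noetherianness descends along faithfully flat extensions. -/
theorem isNoetherianRing_of_faithfullyFlat (D T : Type u) [CommRing D] [CommRing T] [Algebra D T]
    [Module.FaithfullyFlat D T] [IsNoetherianRing T] : IsNoetherianRing D :=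
  isNoetherianRing_iff.2 (isNoetherian_mk ((OrderEmbedding.ofMapLEIff (fun I : Ideal D => I.map (algebraMap D T))
    fun I J => ⟨fun hIJ => by
      have := Ideal.comap_mono (f := algebraMap D T) hIJ
      rwa [Ideal.comap_map_eq_self_of_faithfullyFlat, Ideal.comap_map_eq_self_of_faithfullyFlat] at this,
      fun hIJ => Ideal.map_mono hIJ⟩).wellFoundedGT))

section translate

variable (h : IsEtLike A S) (D : Subalgebra A S) (A' D' : Subalgebra A (FractionRing S))
  (hA' : ∀ x : (FractionRing S), x ∈ A' ↔ (IsIntegral A x ∧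
    ∃ a ∈ nonZeroDivisors A, ∃ b : A, algebraMap A (FractionRing S) a * x = algebraMap A (FractionRing S) b))
  (hD' : ∀ x : (FractionRing S), x ∈ D' ↔ (IsIntegral D x ∧
    ∃ a ∈ nonZeroDivisors A, ∃ d ∈ D, algebraMap A (FractionRing S) a * x = algebraMap S (FractionRing S) d))

include h hA' in
theorem exists_equivA : ∃ e : A'' ≃ₐ[A] A', ∀ a : A'', (e a : FS) = ιK h a := by
  have hmem : ∀ a : A'', ιK h a ∈ A' := fun a => by
    refine (hA' _).2 ⟨a.2.map (ιK h), ?_⟩
    obtain ⟨r, s, hk⟩ := IsLocalization.exists_mk'_eq (nonZeroDivisors A) (a : FractionRing A)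
    exact ⟨s, s.2, r, by rw [← (ιK h).commutes, ← map_mul, ← hk, IsLocalization.mk'_spec', (ιK h).commutes]⟩
  have hinj : Function.Injective (ιK h) := by
    have := toFS_injective h
    intro x y hxy
    obtain ⟨a, s, rfl⟩ := IsLocalization.exists_mk'_eq (nonZeroDivisors A) x
    obtain ⟨b, t, rfl⟩ := IsLocalization.exists_mk'_eq (nonZeroDivisors A) y
    rw [IsLocalization.mk'_eq_iff_eq]
    apply congrArg (algebraMap A (FractionRing A))
    have h1 : ∀ (c : A) (d : nonZeroDivisors A), ιK h (IsLocalization.mk' (FractionRing A) c d) * algebraMap A FS (d : A) = algebraMap A FS c := fun c d => by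
      rw [← (ιK h).commutes, ← map_mul, IsLocalization.mk'_spec, (ιK h).commutes]
    have h2 : algebraMap A FS ((t : A) * a) = algebraMap A FS ((s : A) * b) := by
      rw [map_mul, map_mul, ← h1 a s, ← h1 b t, hxy]; ring
    rw [IsScalarTower.algebraMap_apply A S FS, IsScalarTower.algebraMap_apply A S FS] at h2
    exact h.algebraMap_injective (IsFractionRing.injective S FS h2)
  refine ⟨AlgEquiv.ofBijective (((ιK h).comp (integralClosure A (FractionRing A)).val).codRestrict A' hmem)
    ⟨fun a b hab => Subtype.ext (hinj (congrArg Subtype.val hab)), fun x => ?_⟩, fun a => rfl⟩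
  obtain ⟨hint, c, hc, b, hcb⟩ := (hA' _).1 x.2
  let k := IsLocalization.mk' (FractionRing A) b (⟨c, hc⟩ : nonZeroDivisors A)
  have hk : ιK h k = (x : FS) := by
    refine (algebraMap_nzd_isUnit h hc).mul_left_cancel ?_
    rw [hcb, ← (ιK h).commutes c, ← map_mul,
      show algebraMap A (FractionRing A) c * k = algebraMap A (FractionRing A) b from
        IsLocalization.mk'_spec' (FractionRing A) b ⟨c, hc⟩, (ιK h).commutes]
  exact ⟨⟨k, (isIntegral_algHom_iff (ιK h) hinj).1 (hk ▸ hint)⟩, Subtype.ext hk⟩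

include h hD' in
theorem exists_equivD : ∃ e : (integralClosure D (FractionRing D)).restrictScalars A ≃ₐ[A] D',
    ∀ y, (e y : FS) = fracMap h D (y : FractionRing D) := by
  let g : FractionRing D →ₐ[D] FS :=
    { toRingHom := (fracMap h D).toRingHom, commutes' := fun d => fracMap_algebraMap h D d }
  have hg : Function.Injective g := fracMap_injective h D
  have hmem : ∀ y : (integralClosure D (FractionRing D)).restrictScalars A, fracMap h D (y : FractionRing D) ∈ D' :=
    fun y => by
    refine (hD' _).2 ⟨(y.2 : IsIntegral D (y : FractionRing D)).map g, ?_⟩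
    obtain ⟨a, ha, d, hd⟩ := h.exists_fraction (minimalPrimes.finite_of_isNoetherianRing A) D (y : FractionRing D)
    exact ⟨a, ha, d, d.2, by rw [← AlgHom.commutes (fracMap h D), ← map_mul, hd]; exact fracMap_algebraMap h D d⟩
  refine ⟨AlgEquiv.ofBijective (((fracMap h D).comp
    ((integralClosure D (FractionRing D)).restrictScalars A).val).codRestrict D' hmem)
    ⟨fun a b hab => Subtype.ext (fracMap_injective h D (congrArg Subtype.val hab)), fun x => ?_⟩, fun a => rfl⟩
  obtain ⟨hint, c, hc, d, hd, hcd⟩ := (hD' _).1 x.2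
  obtain ⟨k, hk⟩ := (IsLocalization.map_units (FractionRing A) (⟨c, hc⟩ : nonZeroDivisors A)).exists_right_inv
  let y : FractionRing D := baseMap h D k * algebraMap D (FractionRing D) ⟨d, hd⟩
  have hy : fracMap h D y = (x : FS) := by
    rw [map_mul, fracMap_baseMap, fracMap_algebraMap, ← hcd, ← mul_assoc, ← (ιK h).commutes c, ← map_mul, mul_comm k,
      hk, map_one, one_mul]
  exact ⟨⟨y, (isIntegral_algHom_iff g hg).1 (show IsIntegral D (g y) from hy.symm ▸ hint)⟩, Subtype.ext hy⟩

variable (hle : A' ≤ D') (ι : D →ₐ[A] D') (hι : ∀ d : D, (ι d : (FractionRing S)) = algebraMap S (FractionRing S) d)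

include h hι in
theorem productMap_eq (eA : A'' ≃ₐ[A] A') (heA : ∀ a, (eA a : FS) = ιK h a)
    (eD : (integralClosure D (FractionRing D)).restrictScalars A ≃ₐ[A] D')
    (heD : ∀ y, (eD y : FS) = fracMap h D (y : FractionRing D)) (p : A'' ⊗[A] D) :
    Algebra.TensorProduct.productMap (Subalgebra.inclusion hle) ι
      (Algebra.TensorProduct.map eA.toAlgHom (AlgHom.id A D) p) = eD (φD h D p) := by
  induction p using TensorProduct.induction_on with
  | zero => simp
  | add p q hp hq => simp only [map_add, hp, hq]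
  | tmul a d =>
    apply Subtype.ext
    rw [Algebra.TensorProduct.map_tmul, Algebra.TensorProduct.productMap_apply_tmul, heD, φD,
      Algebra.TensorProduct.productMap_apply_tmul, Subalgebra.coe_mul, Subalgebra.coe_mul, map_mul, hι]
    congr 1
    · exact (heA a).trans (fracMap_baseMap h D a.1).symm
    · exact (fracMap_algebraMap h D d).symm

include hA' hD' hι in
/-- The statement's surjectivity gives the internal residual condition. -/
theorem residue_of_surjective
    (hs : Function.Surjective ((Ideal.Quotient.mkₐ A (Ideal.jacobson (⊥ : Ideal D'))).comp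
      (Algebra.TensorProduct.productMap (Subalgebra.inclusion hle) ι))) :
    ∀ y, ∃ p : A'' ⊗[A] D, ∀ N : Ideal ((integralClosure D (FractionRing D)).restrictScalars A),
      N.IsMaximal → y - φD h D p ∈ N := by
  intro y
  obtain ⟨eA, heA⟩ := exists_equivA h A' hA'
  obtain ⟨eD, heD⟩ := exists_equivD h D D' hD'
  obtain ⟨z, hz⟩ := hs (Ideal.Quotient.mkₐ A _ (eD y))
  obtain ⟨p, rfl⟩ : ∃ p, Algebra.TensorProduct.map eA.toAlgHom (AlgHom.id A D) p = z :=
    TensorProduct.map_surjective (fun b => ⟨eA.symm b, eA.apply_symm_apply b⟩) Function.surjective_id z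
  refine ⟨p, fun N hN => ?_⟩
  haveI := hN
  haveI : (N.comap eD.symm.toRingEquiv.toRingHom).IsMaximal :=
    Ideal.comap_isMaximal_of_surjective _ eD.symm.surjective
  have h1 : eD y - Algebra.TensorProduct.productMap (Subalgebra.inclusion hle) ι
      (Algebra.TensorProduct.map eA.toAlgHom (AlgHom.id A D) p) ∈ Ideal.jacobson (⊥ : Ideal D') :=
    Ideal.Quotient.eq.1 hz.symm
  rw [productMap_eq h D A' D' hle ι hι eA heA eD heD] at h1
  have h2 : eD (y - φD h D p) ∈ N.comap eD.symm.toRingEquiv.toRingHom :=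
    mem_jacobson_bot_iff.1 ((congrArg (· ∈ Ideal.jacobson (⊥ : Ideal D')) (map_sub eD y (φD h D p))).mpr h1) _ this
  have h3 : eD.symm (eD (y - φD h D p)) ∈ N := h2
  rwa [AlgEquiv.symm_apply_apply] at h3

variable [IsLocalHom (algebraMap A S)] [Algebra.IsSeparable (ResidueField A) (ResidueField S)]
  [IsLocalRing D] [IsLocalHom (algebraMap D S)]

include h hA' hD' hι in
/-- The internal conditions give the statement's. -/
theorem statement_of_stages [Module.FaithfullyFlat D S]
    (hrepr : ∀ s : Finset S, (s : Set S) ⊆ D → ∃ E : Subalgebra A S, IsEssSub E ∧ (s : Set S) ⊆ E ∧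
      ∀ e ∈ E, ∃ d ∈ D, e - d ∈ maximalIdeal S) :
    {N : Ideal D' | N.IsMaximal}.Finite ∧
      Function.Surjective ((Ideal.Quotient.mkₐ A (Ideal.jacobson (⊥ : Ideal D'))).comp
        (Algebra.TensorProduct.productMap (Subalgebra.inclusion hle) ι)) ∧
      RingHom.ker ((Ideal.Quotient.mkₐ A (Ideal.jacobson (⊥ : Ideal D'))).comp
        (Algebra.TensorProduct.productMap (Subalgebra.inclusion hle) ι)) =
        (Ideal.jacobson (⊥ : Ideal A')).map (Algebra.TensorProduct.includeLeft : A' →ₐ[A] A' ⊗[A] D) ⊔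
          (maximalIdeal D).map (Algebra.TensorProduct.includeRight : D →ₐ[A] A' ⊗[A] D) := by
  classical
  obtain ⟨eA, heA⟩ := exists_equivA h A' hA'
  obtain ⟨eD, heD⟩ := exists_equivD h D D' hD'
  obtain ⟨hfin, hsC, hker⟩ := condition_of_stages h D hrepr
  let T := Algebra.TensorProduct.map eA.toAlgHom (AlgHom.id A D)
  have hTs : Function.Surjective T :=
    TensorProduct.map_surjective (fun b => ⟨eA.symm b, eA.apply_symm_apply b⟩) Function.surjective_id
  have hmaxD : ∀ N : Ideal D', N.IsMaximal → (N.comap eD.toRingEquiv.toRingHom).IsMaximal := fun N hN => by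
    haveI := hN
    exact Ideal.comap_isMaximal_of_surjective _ eD.surjective
  refine ⟨?_, fun z => ?_, le_antisymm (fun z hz => ?_) (sup_le ?_ ?_)⟩
  · refine (hfin.image fun N => N.comap eD.symm.toRingEquiv.toRingHom).subset fun N hN =>
      ⟨N.comap eD.toRingEquiv.toRingHom, hmaxD N hN, ?_⟩
    ext x
    show eD (eD.symm x) ∈ N ↔ x ∈ N
    rw [AlgEquiv.apply_symm_apply]
  · obtain ⟨x, rfl⟩ := Ideal.Quotient.mk_surjective z
    obtain ⟨p, hp⟩ := hsC (eD.symm x)
    refine ⟨T p, (Ideal.Quotient.eq.2 (mem_jacobson_bot_iff.2 fun N hN => ?_)).symm⟩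
    show x - Algebra.TensorProduct.productMap (Subalgebra.inclusion hle) ι (T p) ∈ N
    rw [productMap_eq h D A' D' hle ι hι eA heA eD heD]
    have h1 : eD (eD.symm x - φD h D p) ∈ N := hp _ (hmaxD N hN)
    have h2 := (congrArg (· ∈ N) (map_sub eD (eD.symm x) (φD h D p))).mp h1
    rwa [AlgEquiv.apply_symm_apply] at h2
  · obtain ⟨p, rfl⟩ := hTs z
    refine Ideal.mem_sup_left ?_
    have h1 : Algebra.TensorProduct.productMap (Subalgebra.inclusion hle) ι (T p) ∈ Ideal.jacobson (⊥ : Ideal D') :=
      Ideal.Quotient.eq_zero_iff_mem.1 hz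
    rw [productMap_eq h D A' D' hle ι hι eA heA eD heD] at h1
    refine map_mem_map_jacobson eA (finite_maximal_integralClosure A) p fun n hn =>
      (hker p).1 (fun N hN => ?_) n hn
    haveI := hN
    haveI : (N.comap eD.symm.toRingEquiv.toRingHom).IsMaximal :=
      Ideal.comap_isMaximal_of_surjective _ eD.symm.surjective
    have h3 : eD.symm (eD (φD h D p)) ∈ N := mem_jacobson_bot_iff.1 h1 _ this
    rwa [AlgEquiv.symm_apply_apply] at h3
  · refine Ideal.map_le_iff_le_comap.2 fun a ha => ?_
    refine Ideal.Quotient.eq_zero_iff_mem.2 (mem_jacobson_bot_iff.2 fun N hN => ?_)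
    show Algebra.TensorProduct.productMap (Subalgebra.inclusion hle) ι (a ⊗ₜ 1) ∈ N
    rw [show (a ⊗ₜ[A] (1 : D)) = T (eA.symm a ⊗ₜ 1) from by simp [T],
      productMap_eq h D A' D' hle ι hι eA heA eD heD]
    haveI := hmaxD N hN
    obtain ⟨M, hM, hMN⟩ := exists_maximal_over h D (N.comap eD.toRingEquiv.toRingHom)
    refine hMN.le ?_
    show toP h D (φD h D (eA.symm a ⊗ₜ 1)) ∈ M
    haveI := hM
    haveI := Hens.isMaximal_comap_tensor (S := S) M
    haveI : ((M.comap (algebraMap A'' (A'' ⊗[A] S))).comap eA.symm.toRingEquiv.toRingHom).IsMaximal :=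
      Ideal.comap_isMaximal_of_surjective _ eA.symm.surjective
    rw [φD_tmul]
    exact mem_jacobson_bot_iff.1 ha _ this
  · refine Ideal.map_le_iff_le_comap.2 fun d hd => ?_
    refine Ideal.Quotient.eq_zero_iff_mem.2 (mem_jacobson_bot_iff.2 fun N hN => ?_)
    show Algebra.TensorProduct.productMap (Subalgebra.inclusion hle) ι (1 ⊗ₜ d) ∈ N
    rw [show ((1 : A') ⊗ₜ[A] d) = T ((1 : A'') ⊗ₜ d) from by simp [T],
      productMap_eq h D A' D' hle ι hι eA heA eD heD]
    haveI := hmaxD N hN
    obtain ⟨M, hM, hMN⟩ := exists_maximal_over h D (N.comap eD.toRingEquiv.toRingHom)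
    refine hMN.le ?_
    show toP h D (φD h D (1 ⊗ₜ d)) ∈ M
    haveI := hM
    rw [φD_tmul]
    refine tmul_mem_of_mem M 1 ?_
    rw [mem_maximalIdeal, mem_nonunits_iff]
    exact fun hu => (mem_maximalIdeal _).1 hd (isUnit_of_map_unit (algebraMap D S) d hu)

end translate

section henselization

variable [IsLocalHom (algebraMap A S)] [Algebra.IsSeparable (ResidueField A) (ResidueField S)] [HenselianLocalRing S]
  (h : IsEtLike A S) (D : Subalgebra A S) [IsLocalRing D] [IsLocalHom (algebraMap D S)]
  (Dh : Type u) [CommRing Dh] [IsLocalRing Dh] [Algebra D Dh] [IsLocalHom (algebraMap D Dh)]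
  [_root_.Hensel.IsHenselization D Dh] [Algebra Dh S] [IsScalarTower D Dh S]

omit [IsReduced A] [IsNoetherianRing A] [HenselianLocalRing S] [IsLocalHom (algebraMap A S)]
  [Algebra.IsSeparable (ResidueField A) (ResidueField S)] in
theorem exists_range : ∃ (H : Subalgebra A S) (_ : HenselianLocalRing H) (_ : IsLocalHom (algebraMap H S)),
    D ≤ H ∧ (H : Set S) = Set.range (algebraMap Dh S) ∧ ∀ x ∈ H, ∃ d ∈ D, x - d ∈ maximalIdeal S := by
  haveI : HenselianLocalRing Dh := _root_.Hensel.IsHenselization.henselian (R := D)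
  letI : Algebra A Dh := ((algebraMap D Dh).comp (algebraMap A D)).toAlgebra
  let θ : Dh →ₐ[A] S :=
    { toRingHom := algebraMap Dh S
      commutes' := fun a => (IsScalarTower.algebraMap_apply D Dh S _).symm }
  have hloc : ∀ z, IsUnit (algebraMap Dh S z) → IsUnit z := fun z hz => by
    by_contra hne
    have h1 : z ∈ (maximalIdeal D).map (algebraMap D Dh) := by
      rw [Hens.map_maximalIdeal_of_isHenselization]; exact hne
    have h2 := Ideal.mem_map_of_mem (algebraMap Dh S) h1
    rw [Ideal.map_map, ← IsScalarTower.algebraMap_eq] at h2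
    have hle : (maximalIdeal D).map (algebraMap D S) ≤ maximalIdeal S := Ideal.map_le_iff_le_comap.2 fun d hd => by
      rw [Ideal.mem_comap, mem_maximalIdeal, mem_nonunits_iff]
      exact fun hu => (mem_maximalIdeal _).1 hd (isUnit_of_map_unit (algebraMap D S) d hu)
    exact (mem_maximalIdeal _).1 (hle h2) hz
  haveI : HenselianLocalRing θ.range :=
    AzInvLib.henselianLocalRing_of_surjective θ.rangeRestrict.toRingHom θ.rangeRestrict_surjective
  refine ⟨θ.range, inferInstance, ⟨fun w hw => ?_⟩,
    fun d hd => ⟨algebraMap D Dh ⟨d, hd⟩, (IsScalarTower.algebraMap_apply D Dh S _).symm⟩, rfl, ?_⟩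
  · obtain ⟨z, hz⟩ := w.2
    rw [show w = θ.rangeRestrict z from Subtype.ext hz.symm]
    exact (hloc z (by rw [show algebraMap Dh S z = (w : S) from hz]; exact hw)).map θ.rangeRestrict
  · rintro _ ⟨z, rfl⟩
    obtain ⟨c, hc⟩ := (Hens.residueMap_bijective_of_isHenselization (R := D) Dh).2 (residue Dh z)
    obtain ⟨d, rfl⟩ := residue_surjective c
    rw [ResidueField.map_residue] at hc
    refine ⟨(d : S), d.2, ?_⟩
    show algebraMap Dh S z - (d : S) ∈ maximalIdeal S
    rw [show (d : S) = algebraMap Dh S (algebraMap D Dh d) from IsScalarTower.algebraMap_apply D Dh S d, ← map_sub,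
      mem_maximalIdeal, mem_nonunits_iff]
    exact fun hu => (mem_maximalIdeal _).1 ((residue_eq_zero_iff _).1 (by rw [map_sub, hc, sub_self])) (hloc _ hu)

include h in
/-- (⇐): the residual condition makes the henselization ind-étale. -/
theorem henselization_of_residue (hA'' : Module.Finite A A'')
    (hsC : ∀ y, ∃ p : A'' ⊗[A] D, ∀ N : Ideal ((integralClosure D (FractionRing D)).restrictScalars A),
      N.IsMaximal → y - φD h D p ∈ N) :
    Function.Injective (algebraMap Dh S) ∧ ∀ s : Finset S, (s : Set S) ⊆ Set.range (algebraMap Dh S) →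
      ∃ E : Subalgebra A S, IsEssSub E ∧ (s : Set S) ⊆ (E : Set S) ∧ (E : Set S) ⊆ Set.range (algebraMap Dh S) := by
  haveI : HenselianLocalRing Dh := _root_.Hensel.IsHenselization.henselian (R := D)
  obtain ⟨H, _, _, hDH, hH, hres⟩ := exists_range D Dh
  have hDU := le_indSub h D hA'' H hDH hsC
  haveI := IndSub.henselianLocalRing (H := H)
  haveI := IndSub.isLocalHom (H := H)
  haveI : IsLocalHom (Subalgebra.inclusion hDU).toRingHom :=
    ⟨fun d hd => isUnit_of_map_unit (algebraMap D S) d (hd.map (IndSub.indSub H).val)⟩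
  obtain ⟨g, hg, -⟩ := _root_.Hensel.IsHenselization.universal (R := D) (S := Dh) (IndSub.indSub H)
    (Subalgebra.inclusion hDU).toRingHom inferInstance
  obtain ⟨w, -, hw⟩ := _root_.Hensel.IsHenselization.universal (R := D) (S := Dh) S (algebraMap D S) inferInstance
  have hgS : (algebraMap (IndSub.indSub H) S).comp g = algebraMap Dh S := by
    rw [hw ((algebraMap (IndSub.indSub H) S).comp g) (by
        show ((algebraMap (IndSub.indSub H) S).comp g).comp (algebraMap D Dh) = algebraMap D S
        rw [RingHom.comp_assoc, hg]; rfl),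
      hw (algebraMap Dh S) (IsScalarTower.algebraMap_eq D Dh S).symm]
  have hgs : Function.Surjective g := fun u => by
    obtain ⟨z, hz⟩ : (u : S) ∈ Set.range (algebraMap Dh S) := hH ▸ IndSub.indSub_le u.2
    exact ⟨z, Subtype.ext ((RingHom.congr_fun hgS z).trans hz)⟩
  have hinj := injective_of_residue h D hA'' (IndSub.indSub H) (IndSub.isEtLike h) hDU
    (fun u hu => hres u (IndSub.indSub_le hu)) hsC Dh g hg hgs
  refine ⟨fun a b hab => hinj (Subtype.ext ?_), fun s hs => ?_⟩
  · rw [← RingHom.congr_fun hgS a, ← RingHom.congr_fun hgS b] at hab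
    exact hab
  · obtain ⟨E, hE, hsE, hEU⟩ := IndSub.exists_essSub h s fun x hx => by
      obtain ⟨z, hz⟩ := hs hx
      rw [← hz, ← RingHom.congr_fun hgS z]
      exact (g z).2
    refine ⟨E, hE, hsE, fun x hx => ?_⟩
    rw [← hH]
    exact IndSub.indSub_le (hEU hx)

include h in
/-- An ind-étale henselization makes `S` faithfully flat over `D` and yields stages. -/
theorem stages_of_henselization (hinj : Function.Injective (algebraMap Dh S))
    (hst : ∀ s : Finset S, (s : Set S) ⊆ Set.range (algebraMap Dh S) →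
      ∃ E : Subalgebra A S, IsEssSub E ∧ (s : Set S) ⊆ (E : Set S) ∧ (E : Set S) ⊆ Set.range (algebraMap Dh S)) :
    Module.FaithfullyFlat D S ∧ ∀ s : Finset S, (s : Set S) ⊆ D → ∃ E : Subalgebra A S, IsEssSub E ∧
      (s : Set S) ⊆ E ∧ ∀ e ∈ E, ∃ d ∈ D, e - d ∈ maximalIdeal S := by
  classical
  obtain ⟨H, _, _, hDH, hH, hres⟩ := exists_range D Dh
  refine ⟨?_, fun s hs => ?_⟩
  · haveI := IndSub.henselianLocalRing (H := H)
    haveI := IndSub.isLocalHom (H := H)
    have hHU : ∀ z, algebraMap Dh S z ∈ IndSub.indSub H := fun z => by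
      obtain ⟨E, hE, hzE, hEH⟩ := hst {algebraMap Dh S z} (by
        rw [Finset.coe_singleton, Set.singleton_subset_iff]; exact ⟨z, rfl⟩)
      haveI := hE.isLocalRing
      obtain ⟨C, _, _, q, _, hC, -, ⟨e⟩⟩ := hE.essEtale
      haveI := hC
      let θC : C →ₐ[A] S := E.val.comp (e.symm.toAlgHom.comp (IsScalarTower.toAlgHom A C (Localization.AtPrime q)))
      have hθC : θC.range ≤ H := fun x ⟨c, hc⟩ => by
        rw [← SetLike.mem_coe, hH]
        exact hEH (hc ▸ (e.symm (algebraMap C (Localization.AtPrime q) c)).2)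
      let x : E := ⟨algebraMap Dh S z, hzE (Finset.mem_coe.2 (Finset.mem_singleton_self _))⟩
      obtain ⟨c, u, hcu⟩ := IsLocalization.exists_mk'_eq q.primeCompl (e x)
      have hu : IsUnit (θC u) := ((IsLocalization.map_units (Localization.AtPrime q) u).map e.symm).map E.val
      obtain ⟨y, hy⟩ := hu.exists_right_inv
      have h1 := congrArg (fun w => E.val (e.symm w)) (IsLocalization.mk'_spec (Localization.AtPrime q) c u)
      simp only [map_mul, hcu, e.symm_apply_apply] at h1
      have h1' : algebraMap Dh S z * θC u = θC c := h1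
      rw [show algebraMap Dh S z = θC c * y by rw [← h1', mul_assoc, hy, mul_one]]
      exact mul_mem (IndSub.range_le_indSub θC hθC ⟨c, rfl⟩)
        (IndSub.inv_mem (IndSub.range_le_indSub θC hθC ⟨(u : C), rfl⟩) hy)
    have hU := IndSub.isEtLike (H := H) h
    haveI := (Hens.isEtLike_tower_top hU h).flat
    haveI : Module.FaithfullyFlat (IndSub.indSub H) S := Module.FaithfullyFlat.of_flat_of_isLocalHom
    have hDU : D ≤ IndSub.indSub H := fun d hd => by
      rw [show d = algebraMap Dh S (algebraMap D Dh ⟨d, hd⟩) from IsScalarTower.algebraMap_apply D Dh S ⟨d, hd⟩]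
      exact hHU _
    letI : Algebra D (IndSub.indSub H) := (Subalgebra.inclusion hDU).toRingHom.toAlgebra
    haveI : IsScalarTower D (IndSub.indSub H) S := IsScalarTower.of_algebraMap_eq fun _ => rfl
    let g : Dh →ₐ[D] IndSub.indSub H :=
      { toRingHom := (algebraMap Dh S).codRestrict (IndSub.indSub H).toSubring hHU
        commutes' := fun d => Subtype.ext (IsScalarTower.algebraMap_apply D Dh S d).symm }
    have hg : Function.Bijective g := ⟨fun a b hab => hinj (congrArg Subtype.val hab), fun u => by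
      obtain ⟨z, hz⟩ : (u : S) ∈ Set.range (algebraMap Dh S) := hH ▸ IndSub.indSub_le u.2
      exact ⟨z, Subtype.ext hz⟩⟩
    haveI := Hens.faithfullyFlat_of_isHenselization (R := D) Dh
    haveI : Module.FaithfullyFlat D (IndSub.indSub H) :=
      Module.FaithfullyFlat.of_linearEquiv _ _ (AlgEquiv.ofBijective g hg).symm.toLinearEquiv
    exact Module.FaithfullyFlat.trans D (IndSub.indSub H) S
  · obtain ⟨E, hE, hsE, hEH⟩ := hst s fun x hx => hH ▸ hDH (hs hx)
    exact ⟨E, hE, hsE, fun e he => hres e (by rw [← SetLike.mem_coe, hH]; exact hEH he)⟩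

end henselization

end Groth.Agent.Hensel.NormRes
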