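import Groth.Agent.Hensel.NormGenFibre
import Groth.Agent.RedNorm.Basic
import Groth.Agent.S2474
import Mathlib.RingTheory.Unramified.Field
import Mathlib.RingTheory.Unramified.LocalRing

/-!
# Maximal ideals of the integral closure of an essentially étale local algebra
-/

set_option autoImplicit false
set_option linter.style.haveILetI false

universe u

open IsLocalRing TensorProduct

namespace Groth.Agent.Hensel.NormSub

/-- The normalization of a reduced Noetherian local ring is semilocal. -/
theorem finite_maximal_integralClosure (R : Type u) [CommRing R] [IsLocalRing R] [IsNoetherianRing R] [IsReduced R] :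
    {M : Ideal (integralClosure R (FractionRing R)) | M.IsMaximal}.Finite := by
  classical
  haveI := (minimalPrimes.finite_of_isNoetherianRing R).to_subtype
  cases nonempty_fintype ↥(minimalPrimes R)
  let φ := RedNorm.normEquiv R
  let f := fun i : ↥(minimalPrimes R) => (Pi.evalRingHom _ i).comp φ.toAlgHom.toRingHom
  have hf : ∀ i, Function.Surjective (f i) := fun i y => ⟨φ.symm (Pi.single i y), by
    show φ (φ.symm (Pi.single i y)) i = y
    rw [AlgEquiv.apply_symm_apply, Pi.single_eq_same]⟩
  have hfin : ∀ i : ↥(minimalPrimes R),
      {m : Ideal (integralClosure (R ⧸ i.1) (FractionRing (R ⧸ i.1))) | m.IsMaximal}.Finite := fun i => by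
    haveI := i.2.1.1
    haveI : Nontrivial (R ⧸ i.1) := Ideal.Quotient.nontrivial_iff.2 i.2.1.1.ne_top
    haveI : IsLocalRing (R ⧸ i.1) := IsLocalRing.of_surjective' _ Ideal.Quotient.mk_surjective
    exact (S2474.result (A := R ⧸ i.1) (K' := FractionRing (R ⧸ i.1))).1
  refine (Set.finite_iUnion fun i => (hfin i).image fun m => m.comap (f i)).subset fun M (hM : M.IsMaximal) => ?_
  obtain ⟨i, hi⟩ : ∃ i, φ.symm (Pi.single i 1) ∉ M := by
    by_contra hcon
    push Not at hcon
    refine hM.ne_top ((Ideal.eq_top_iff_one M).mpr ?_)
    rw [← map_one φ.symm, ← Finset.univ_sum_single (1 : RedNorm.PiNorm R), map_sum]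
    exact M.sum_mem fun j _ => hcon j
  have hker : RingHom.ker (f i) ≤ M := fun x hx => by
    refine (hM.isPrime.mem_or_mem (show φ.symm (Pi.single i 1) * x ∈ M from ?_)).resolve_left hi
    rw [show φ.symm (Pi.single i 1) * x = 0 from φ.injective (by
      rw [map_mul, map_zero, AlgEquiv.apply_symm_apply]
      funext j
      by_cases hj : j = i
      · subst hj
        show _ * φ x j = 0
        rw [show φ x j = 0 from hx, mul_zero]
      · rw [Pi.mul_apply, Pi.single_eq_of_ne hj, zero_mul, Pi.zero_apply])]
    exact M.zero_mem
  refine Set.mem_iUnion.2 ⟨i, M.map (f i),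
    (Ideal.map_eq_top_or_isMaximal_of_surjective _ (hf i) hM).resolve_left fun htop => hM.ne_top ?_, ?_⟩
  · rw [← sup_eq_left.2 hker, RingHom.ker_eq_comap_bot, ← Ideal.comap_map_of_surjective _ (hf i), htop,
      Ideal.comap_top]
  · show (M.map (f i)).comap (f i) = M
    rw [Ideal.comap_map_of_surjective _ (hf i), ← RingHom.ker_eq_comap_bot, sup_eq_left]
    exact hker

section

variable {A E : Type u} [CommRing A] [IsLocalRing A] [CommRing E] [IsLocalRing E] [Algebra A E]
  [IsLocalHom (algebraMap A E)]

/-- The residue field of an essentially étale local algebra is integral over the base. -/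
theorem isIntegral_residueField (hE : EGA4loc.IsEssentiallyEtale A E) : Algebra.IsIntegral A (ResidueField E) := by
  obtain ⟨C, _, _, q, _, hC, -, ⟨e⟩⟩ := hE
  haveI := hC
  haveI : Algebra.FormallyUnramified C (Localization.AtPrime q) :=
    Algebra.FormallyUnramified.of_isLocalization q.primeCompl
  haveI : Algebra.FormallyUnramified A (Localization.AtPrime q) := Algebra.FormallyUnramified.comp A C _
  haveI : Algebra.FormallyUnramified A E := Algebra.FormallyUnramified.of_equiv e.symm
  haveI : Algebra.EssFiniteType C (Localization.AtPrime q) := Algebra.EssFiniteType.of_isLocalization _ q.primeCompl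
  haveI : Algebra.EssFiniteType A (Localization.AtPrime q) := Algebra.EssFiniteType.comp A C _
  haveI : Algebra.EssFiniteType A E := Algebra.EssFiniteType.of_surjective e.symm.toAlgHom e.symm.surjective
  haveI : Module.Finite (ResidueField A) (ResidueField E) := inferInstance
  haveI : Algebra.IsIntegral A (ResidueField A) := ⟨fun x => by
    obtain ⟨a, rfl⟩ := residue_surjective x
    exact isIntegral_algebraMap⟩
  exact Algebra.IsIntegral.trans (ResidueField A)

/-- The residue fields of `E'` are integral over the base. -/
theorem exists_monic_aeval_mem (hE : EGA4loc.IsEssentiallyEtale A E)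
    (M : Ideal ((integralClosure E (FractionRing E)).restrictScalars A)) [hM : M.IsMaximal]
    (x : (integralClosure E (FractionRing E)).restrictScalars A) :
    ∃ g : Polynomial A, g.Monic ∧ Polynomial.aeval x g ∈ M := by
  haveI := isIntegral_residueField hE
  let ι : E →+* (integralClosure E (FractionRing E)).restrictScalars A :=
    (algebraMap E (FractionRing E)).codRestrict ((integralClosure E (FractionRing E)).restrictScalars A).toSubring
      fun e => (integralClosure E (FractionRing E)).algebraMap_mem e
  let f : E →+* ((integralClosure E (FractionRing E)).restrictScalars A) ⧸ M := (Ideal.Quotient.mk M).comp ι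
  have hι : ι.IsIntegral := fun y => by
    obtain ⟨p, hp, hpy⟩ := y.2
    exact ⟨p, hp, Subtype.val_injective (((Polynomial.hom_eval₂ p ι
      ((integralClosure E (FractionRing E)).restrictScalars A).val.toRingHom y)).trans hpy)⟩
  have hker : maximalIdeal E ≤ RingHom.ker f := by
    rw [← RingHom.comap_ker, Ideal.mk_ker,
      IsLocalRing.eq_maximalIdeal (Ideal.isMaximal_comap_of_isIntegral_of_isMaximal' ι hι M)]
  let fbar : ResidueField E →+* ((integralClosure E (FractionRing E)).restrictScalars A) ⧸ M :=
    Ideal.Quotient.lift _ f hker
  let fA : ResidueField E →ₐ[A] ((integralClosure E (FractionRing E)).restrictScalars A) ⧸ M :=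
    { toRingHom := fbar
      commutes' := fun a => by
        show fbar (residue E (algebraMap A E a)) = _
        show f (algebraMap A E a) = _
        rw [IsScalarTower.algebraMap_apply A ((integralClosure E (FractionRing E)).restrictScalars A)
          (((integralClosure E (FractionRing E)).restrictScalars A) ⧸ M)]
        show Ideal.Quotient.mk M (ι (algebraMap A E a)) = Ideal.Quotient.mk M _
        exact congrArg (Ideal.Quotient.mk M) (Subtype.ext (IsScalarTower.algebraMap_apply A E (FractionRing E) a).symm) }
  obtain ⟨g, hg, hgx⟩ : IsIntegral A (Ideal.Quotient.mk M x) := by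
    letI : Algebra (ResidueField E) (((integralClosure E (FractionRing E)).restrictScalars A) ⧸ M) :=
      RingHom.toAlgebra' fA.toRingHom fun c y => by
        obtain ⟨c', hc'⟩ := Ideal.Quotient.mk_surjective (fA.toRingHom c)
        obtain ⟨y', rfl⟩ := Ideal.Quotient.mk_surjective y
        rw [← hc', ← map_mul, ← map_mul, mul_comm]
    haveI : IsScalarTower A (ResidueField E) (((integralClosure E (FractionRing E)).restrictScalars A) ⧸ M) :=
      IsScalarTower.of_algebraMap_eq fun a => (fA.commutes a).symm
    refine isIntegral_trans (A := ResidueField E) _ ?_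
    obtain ⟨p, hp, hpx⟩ := hι x
    refine ⟨p.map (residue E), hp.map _, ?_⟩
    rw [Polynomial.eval₂_map]
    show Polynomial.eval₂ ((Ideal.Quotient.mk M).comp ι) (Ideal.Quotient.mk M x) p = 0
    rw [← Polynomial.hom_eval₂, hpx, map_zero]
  refine ⟨g, hg, Ideal.Quotient.eq_zero_iff_mem.1 ?_⟩
  rw [← Ideal.Quotient.mkₐ_eq_mk A, ← Polynomial.aeval_algHom_apply]
  exact hgx

end

end Groth.Agent.Hensel.NormSub

namespace Groth.Agent.Hensel.NormSub

variable {A E : Type u} [CommRing A] [IsLocalRing A] [IsReduced A] [IsNoetherianRing A]
  [CommRing E] [IsLocalRing E] [Algebra A E]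

/-- A subalgebra containing the inverses of the non-zero-divisors of the base is closed under inverses. -/
theorem inv_mem_of_fractions (h : IsEtLike A E)
    (hfin : Module.Finite (FractionRing A) (TensorProduct A (FractionRing A) E))
    (L : Subalgebra A (FractionRing E))
    (hL : ∀ s ∈ nonZeroDivisors A, ∃ y ∈ L, algebraMap A (FractionRing E) s * y = 1)
    {u v : FractionRing E} (hu : u ∈ L) (huv : u * v = 1) : v ∈ L := by
  haveI := hfin
  haveI : IsArtinianRing (FractionRing A) :=
    isArtinianRing_fractionRing (minimalPrimes.finite_of_isNoetherianRing A)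
  letI : Algebra (FractionRing A) (FractionRing E) := (ιK h).toRingHom.toAlgebra
  haveI : IsScalarTower A (FractionRing A) (FractionRing E) :=
    IsScalarTower.of_algebraMap_eq fun a => ((ιK h).commutes a).symm
  let ψ : FractionRing A ⊗[A] E →ₗ[FractionRing A] FractionRing E :=
    (Algebra.TensorProduct.lift (Algebra.ofId (FractionRing A) (FractionRing E))
      (IsScalarTower.toAlgHom A E (FractionRing E)) fun _ _ => Commute.all _ _).toLinearMap
  haveI : Module.Finite (FractionRing A) (FractionRing E) :=
    @Module.Finite.of_surjective _ _ _ _ _ _ _ _ _ _ _ hfin ψ fun x => by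
      obtain ⟨z, hz⟩ := (productMap_bijective h).2 x
      exact ⟨z, hz⟩
  let L' : Subalgebra (FractionRing A) (FractionRing E) :=
    { L.toSubsemiring with
      algebraMap_mem' := fun k => by
        obtain ⟨r, s, hk⟩ := IsLocalization.exists_mk'_eq (nonZeroDivisors A) k
        obtain ⟨y, hy, hsy⟩ := hL s s.2
        have h1 : algebraMap A (FractionRing E) s * algebraMap (FractionRing A) (FractionRing E) k =
            algebraMap A (FractionRing E) r := by
          rw [IsScalarTower.algebraMap_apply A (FractionRing A) (FractionRing E),
            IsScalarTower.algebraMap_apply A (FractionRing A) (FractionRing E) r, ← map_mul, ← hk,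
            IsLocalization.mk'_spec']
        have h2 : algebraMap (FractionRing A) (FractionRing E) k = algebraMap A (FractionRing E) r * y := by
          linear_combination y * h1 - algebraMap (FractionRing A) (FractionRing E) k * hsy
        rw [h2]
        exact mul_mem (L.algebraMap_mem r) hy }
  haveI : Module.Finite (FractionRing A) L' :=
    Module.Finite.iff_fg.2 (IsNoetherian.noetherian (Subalgebra.toSubmodule L'))
  haveI : IsArtinianRing L' := IsArtinianRing.of_finite (FractionRing A) L'
  have hu' : IsUnit (⟨u, hu⟩ : L') := IsArtinianRing.isUnit_of_mem_nonZeroDivisors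
    (mem_nonZeroDivisors_iff_right.2 fun z hz => Subtype.ext (by
      have h1 : (z : FractionRing E) * u = 0 := congrArg Subtype.val hz
      show (z : FractionRing E) = 0
      rw [← mul_one (z : FractionRing E), ← huv, ← mul_assoc, h1, zero_mul]))
  obtain ⟨w, hw⟩ := hu'.exists_right_inv
  have h1 : u * (w : FractionRing E) = 1 := congrArg Subtype.val hw
  rw [show v = (w : FractionRing E) by linear_combination (w : FractionRing E) * huv - v * h1]
  exact w.2

omit [IsReduced A] [IsNoetherianRing A] in
/-- Maximal ideals of `E'` contract to maximal ideals of every subalgebra. -/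
theorem isMaximal_comap [IsLocalHom (algebraMap A E)] (hE : EGA4loc.IsEssentiallyEtale A E)
    {C : Type u} [CommRing C] [Algebra A C]
    (f : C →ₐ[A] ((integralClosure E (FractionRing E)).restrictScalars A))
    (M : Ideal ((integralClosure E (FractionRing E)).restrictScalars A)) [hM : M.IsMaximal] :
    (M.comap f.toRingHom).IsMaximal := by
  refine Ideal.Quotient.maximal_of_isField _ ?_
  let g : C ⧸ M.comap f.toRingHom →+* ((integralClosure E (FractionRing E)).restrictScalars A) ⧸ M :=
    Ideal.quotientMap M f.toRingHom le_rfl
  have hg : Function.Injective g := Ideal.quotientMap_injective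
  letI : Algebra (C ⧸ M.comap f.toRingHom) (((integralClosure E (FractionRing E)).restrictScalars A) ⧸ M) :=
    RingHom.toAlgebra' g fun c y => by
      obtain ⟨c', hc'⟩ := Ideal.Quotient.mk_surjective (g c)
      obtain ⟨y', rfl⟩ := Ideal.Quotient.mk_surjective y
      rw [← hc', ← map_mul, ← map_mul, mul_comm]
  haveI : Algebra.IsIntegral (C ⧸ M.comap f.toRingHom) (((integralClosure E (FractionRing E)).restrictScalars A) ⧸ M) :=
    ⟨fun y => by
      obtain ⟨x, rfl⟩ := Ideal.Quotient.mk_surjective y
      obtain ⟨p, hp, hpx⟩ := exists_monic_aeval_mem hE M x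
      refine ⟨p.map ((Ideal.Quotient.mk _).comp (algebraMap A C)), hp.map _, ?_⟩
      rw [Polynomial.eval₂_map, show (algebraMap (C ⧸ M.comap f.toRingHom)
        (((integralClosure E (FractionRing E)).restrictScalars A) ⧸ M)).comp
          ((Ideal.Quotient.mk _).comp (algebraMap A C)) = (Ideal.Quotient.mk M).comp (algebraMap A _) from
        RingHom.ext fun a => congrArg (Ideal.Quotient.mk M) (f.commutes a), ← Polynomial.hom_eval₂]
      exact Ideal.Quotient.eq_zero_iff_mem.2 hpx⟩
  exact isField_of_isIntegral_of_isField (R := C ⧸ M.comap f.toRingHom)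
    (S := ((integralClosure E (FractionRing E)).restrictScalars A) ⧸ M) hg
    ((Ideal.Quotient.maximal_ideal_iff_isField_quotient M).1 hM)

end Groth.Agent.Hensel.NormSub
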