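import Groth.Agent.Hensel.NormResidueMain
import Groth.Agent.Hensel.NormSemilocal
import Groth.Agent.Hens.EtLikeTower
import Groth.Agent.Hens.Unique
import Groth.Agent.AzInvLib.SH
import Mathlib.RingTheory.Flat.FaithfullyFlat.Algebra
import Mathlib.RingTheory.Spectrum.Prime.RingHom

/-!
# The residual criterion for ind-étale subrings of a strict henselization (EGA IV 18.10)
-/

set_option autoImplicit false
set_option linter.style.haveILetI false

universe u

open IsLocalRing TensorProduct

namespace Groth.Agent.Hensel.NormRes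

open NormSub

theorem mem_jacobson_bot_iff {R : Type u} [CommRing R] {x : R} :
    x ∈ Ideal.jacobson (⊥ : Ideal R) ↔ ∀ M : Ideal R, M.IsMaximal → x ∈ M := by
  simp [Ideal.jacobson, Submodule.mem_sInf]

theorem add_sub_add_mem {R : Type u} [CommRing R] {I : Ideal R} {a b c d : R} (h1 : a - c ∈ I) (h2 : b - d ∈ I) :
    a + b - (c + d) ∈ I := by
  rw [add_sub_add_comm]; exact I.add_mem h1 h2

theorem sub_mem_trans {R : Type u} [CommRing R] {I : Ideal R} {a b c : R} (h1 : a - b ∈ I) (h2 : b - c ∈ I) :
    a - c ∈ I := by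
  rw [← sub_add_sub_cancel a b c]; exact I.add_mem h1 h2

theorem mem_iff_of_sub_mem {R : Type u} [CommRing R] {I : Ideal R} {a b : R} (h : a - b ∈ I) : a ∈ I ↔ b ∈ I :=
  ⟨fun ha => by have := I.sub_mem ha h; rwa [sub_sub_cancel] at this,
    fun hb => by have := I.add_mem h hb; rwa [sub_add_cancel] at this⟩

/-- An absolutely flat ring has no radical. -/
theorem eq_zero_of_absFlat {R : Type u} [CommRing R] {x y : R} (hxy : x * x * y = x)
    (hx : x ∈ Ideal.jacobson (⊥ : Ideal R)) : x = 0 := by
  have hu : IsUnit (1 - x * y) := by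
    have := Ideal.mem_jacobson_bot.1 hx (-y)
    rwa [mul_neg, neg_add_eq_sub] at this
  refine hu.mul_left_eq_zero.1 ?_
  linear_combination -hxy

section

variable {A S : Type u} [CommRing A] [IsLocalRing A] [IsReduced A] [IsNoetherianRing A]
  [CommRing S] [IsLocalRing S] [Algebra A S]

local notation "A''" => integralClosure A (FractionRing A)

variable (h : IsEtLike A S) (D : Subalgebra A S)

/-- The canonical map `A'' ⊗ D → D'`. -/
noncomputable def φD : A'' ⊗[A] D →ₐ[A] (integralClosure D (FractionRing D)).restrictScalars A :=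
  Algebra.TensorProduct.productMap (jD h D)
    ((IsScalarTower.toAlgHom A D (FractionRing D)).codRestrict _
      fun d => (integralClosure D (FractionRing D)).algebraMap_mem d)

theorem φD_tmul (a : A'') (d : D) : toP h D (φD h D (a ⊗ₜ d)) = a ⊗ₜ[A] (d : S) := by
  rw [φD, Algebra.TensorProduct.productMap_apply_tmul, map_mul, toP_jD]
  rw [show toP h D ((IsScalarTower.toAlgHom A D (FractionRing D)).codRestrict _
    (fun d => (integralClosure D (FractionRing D)).algebraMap_mem d) d) = (1 : A'') ⊗ₜ[A] (d : S) from toP_algebraMap h D d,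
    Algebra.TensorProduct.tmul_mul_tmul, mul_one, one_mul]

theorem toP_φD (p : A'' ⊗[A] D) :
    toP h D (φD h D p) = Algebra.TensorProduct.map (AlgHom.id A A'') D.val p := by
  induction p using TensorProduct.induction_on with
  | zero => simp
  | tmul a d => rw [φD_tmul]; rfl
  | add p q hp hq => rw [map_add, map_add, map_add, hp, hq]

variable [IsLocalHom (algebraMap A S)]

omit [IsReduced A] [IsNoetherianRing A] in
theorem tmul_mem_of_mem {B : Type u} [CommRing B] [Algebra A B] [Algebra.IsIntegral A B]
    (M : Ideal (B ⊗[A] S)) [M.IsMaximal] (a : B) {s : S} (hs : s ∈ maximalIdeal S) : a ⊗ₜ[A] s ∈ M := by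
  rw [← Hens.comap_eq_maximalIdeal_of_isMaximal M] at hs
  rw [show a ⊗ₜ[A] s = (a ⊗ₜ 1) * (1 ⊗ₜ s) by simp]
  exact Ideal.mul_mem_left _ _ hs

/-- Congruent elements give congruent tensors. -/
theorem exists_congr (X Y : Subalgebra A S) (hXY : ∀ x ∈ X, ∃ y ∈ Y, x - y ∈ maximalIdeal S) (p : A'' ⊗[A] X) :
    ∃ q : A'' ⊗[A] Y, ∀ M : Ideal (A'' ⊗[A] S), M.IsMaximal →
      Algebra.TensorProduct.map (AlgHom.id A A'') X.val p - Algebra.TensorProduct.map (AlgHom.id A A'') Y.val q ∈ M := by
  induction p using TensorProduct.induction_on with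
  | zero => exact ⟨0, fun M _ => by simp⟩
  | add p q hp hq =>
    obtain ⟨p', hp'⟩ := hp
    obtain ⟨q', hq'⟩ := hq
    refine ⟨p' + q', fun M hM => ?_⟩
    rw [map_add, map_add]
    exact add_sub_add_mem (R := A'' ⊗[A] S) (hp' M hM) (hq' M hM)
  | tmul a x =>
    obtain ⟨y, hy, hxy⟩ := hXY x.1 x.2
    refine ⟨a ⊗ₜ ⟨y, hy⟩, fun M hM => ?_⟩
    haveI := hM
    rw [Algebra.TensorProduct.map_tmul, Algebra.TensorProduct.map_tmul, AlgHom.id_apply, ← TensorProduct.tmul_sub]
    exact tmul_mem_of_mem M a hxy

variable [Algebra.IsSeparable (ResidueField A) (ResidueField S)]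

/-- (⇐) of the residual criterion: `D` lies in the ind-étale part of every henselian subring with the same
residue field. -/
theorem le_indSub (hA'' : Module.Finite A A'') (H : Subalgebra A S) [HenselianLocalRing H]
    [IsLocalHom (algebraMap H S)] (hDH : D ≤ H)
    (hsC : ∀ y, ∃ p : A'' ⊗[A] D, ∀ N : Ideal ((integralClosure D (FractionRing D)).restrictScalars A),
      N.IsMaximal → y - φD h D p ∈ N) : D ≤ IndSub.indSub H := by
  haveI := IndSub.henselianLocalRing (H := H)
  haveI := IndSub.isLocalHom (H := H)
  refine le_of_residue h hA'' D (IndSub.indSub H) (fun a ha x hx => IndSub.mem_of_mul_mem h ha hx) fun y => ?_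
  obtain ⟨p, hp⟩ := hsC y
  obtain ⟨q, hq⟩ := exists_congr D (IndSub.indSub H) (fun d hd => IndSub.exists_sub_mem d (hDH hd)) p
  refine ⟨q, fun M hM => ?_⟩
  haveI := hM
  have h1 : y - φD h D p ∈ M.comap (toP h D).toRingHom := hp _ (isMaximal_comap_hom (toP h D) M)
  have h2 : toP h D y - toP h D (φD h D p) ∈ M :=
    (congrArg (· ∈ M) (map_sub (toP h D) y (φD h D p))).mp h1
  rw [toP_φD] at h2
  exact sub_mem_trans (R := A'' ⊗[A] S) h2 (hq M hM)

/-- Residual triviality bounds the minimal primes of a henselian neighbourhood. -/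
theorem injective_of_residue (hA'' : Module.Finite A A'') [IsLocalRing D] [IsLocalHom (algebraMap D S)]
    (U : Subalgebra A S) [HenselianLocalRing U] [IsLocalHom (algebraMap U S)] (hU : IsEtLike A U)
    (hDU : D ≤ U) (hres : ∀ u ∈ U, ∃ d ∈ D, u - d ∈ maximalIdeal S)
    (hsC : ∀ y, ∃ p : A'' ⊗[A] D, ∀ N : Ideal ((integralClosure D (FractionRing D)).restrictScalars A),
      N.IsMaximal → y - φD h D p ∈ N)
    (Dh : Type u) [CommRing Dh] [HenselianLocalRing Dh] [Algebra D Dh] [IsLocalHom (algebraMap D Dh)]
    [_root_.Hensel.IsHenselization D Dh] (g : Dh →+* U) (hg : g.comp (algebraMap D Dh) = (Subalgebra.inclusion hDU).toRingHom)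
    (hgs : Function.Surjective g) : Function.Injective g := by
  classical
  haveI := hA''
  haveI := isReduced_subalgebra D h
  have hDfin := finite_minimalPrimes_subalgebra D h
  have hAfin : (minimalPrimes A).Finite := minimalPrimes.finite_of_isNoetherianRing A
  have h1 := isEtLike_of_isHenselization D Dh
  haveI : IsReduced Dh := h1.isReduced_iff.1 inferInstance
  obtain ⟨e₁⟩ := Hens.nonempty_minimalPrimes_equiv_maximalSpectrum_reduced h1 hDfin
  obtain ⟨e₂, -⟩ := Hens.exists_maximalSpectrum_tensor_equiv (A := D) (S := Dh)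
    (N := integralClosure D (FractionRing D)) (Hens.residueMap_bijective_of_isHenselization (R := D) Dh)
  obtain ⟨e₃⟩ := Hens.nonempty_minimalPrimes_equiv_maximalSpectrum_reduced hU hAfin
  -- residues
  let r : ResidueField D →+* ResidueField S := ResidueField.map (algebraMap D S)
  have hUr : ∀ u : U, residue S (u : S) ∈ r.range := fun u => by
    obtain ⟨d, hd, hud⟩ := hres u.1 u.2
    refine ⟨residue D ⟨d, hd⟩, ?_⟩
    rw [ResidueField.map_residue]
    exact (sub_eq_zero.1 (by rw [← map_sub, residue_eq_zero_iff]; exact hud)).symm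
  let er : ResidueField D ≃+* r.range := RingEquiv.ofBijective r.rangeRestrict
    ⟨fun a b hab => r.injective (congrArg Subtype.val hab), r.rangeRestrict_surjective⟩
  let ρ : U →+* ResidueField D := er.symm.toRingHom.comp (((residue S).comp U.val.toRingHom).codRestrict r.range hUr)
  have hρ : ∀ d : D, ρ (Subalgebra.inclusion hDU d) = residue D d := fun d => r.injective (by
    rw [ResidueField.map_residue]
    exact congrArg Subtype.val (er.apply_symm_apply ⟨_, hUr (Subalgebra.inclusion hDU d)⟩))
  have hNm : ∀ N : Ideal (integralClosure D (FractionRing D)), N.IsMaximal →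
      N.comap (algebraMap D (integralClosure D (FractionRing D))) = maximalIdeal D := fun N hN => by
    haveI := hN
    exact IsLocalRing.eq_maximalIdeal (Ideal.isMaximal_comap_of_isIntegral_of_isMaximal N)
  let iDU : A'' ⊗[A] D →ₐ[A] A'' ⊗[A] U := Algebra.TensorProduct.map (AlgHom.id A A'') (Subalgebra.inclusion hDU)
  have key : ∀ N : Ideal ((integralClosure D (FractionRing D)).restrictScalars A), N.IsMaximal →
      ∃ 𝔲 : Ideal (A'' ⊗[A] U), 𝔲.IsMaximal ∧ ∀ p, (φD h D p ∈ N ↔ iDU p ∈ 𝔲) := by
    intro N hN
    let c : ResidueField D →+* ((integralClosure D (FractionRing D)).restrictScalars A) ⧸ N :=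
      Ideal.Quotient.lift _ ((Ideal.Quotient.mk N).comp (((IsScalarTower.toAlgHom A D (FractionRing D)).codRestrict _
        fun d => (integralClosure D (FractionRing D)).algebraMap_mem d).toRingHom)) fun d hd =>
          Ideal.Quotient.eq_zero_iff_mem.2 ((hNm N hN).ge hd)
    let β : U →ₐ[A] ((integralClosure D (FractionRing D)).restrictScalars A) ⧸ N :=
      { toRingHom := c.comp ρ
        commutes' := fun a => by
          show c (ρ (algebraMap A U a)) = _
          rw [show algebraMap A U a = Subalgebra.inclusion hDU (algebraMap A D a) from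
            ((Subalgebra.inclusion hDU).commutes a).symm, hρ]
          show Ideal.Quotient.mk N ((IsScalarTower.toAlgHom A D (FractionRing D)).codRestrict _ _ (algebraMap A D a)) = _
          rw [AlgHom.commutes]
          rfl }
    let κ : A'' ⊗[A] U →ₐ[A] ((integralClosure D (FractionRing D)).restrictScalars A) ⧸ N :=
      Algebra.TensorProduct.productMap (S := ((integralClosure D (FractionRing D)).restrictScalars A) ⧸ N)
        ((Ideal.Quotient.mkₐ A N).comp (jD h D)) β
    have hκ : ∀ p, κ (iDU p) = Ideal.Quotient.mk N (φD h D p) := fun p => by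
      induction p using TensorProduct.induction_on with
      | zero => simp
      | add p q hp hq => rw [map_add, map_add, map_add, map_add, hp, hq]
      | tmul a d =>
        rw [φD, Algebra.TensorProduct.productMap_apply_tmul, map_mul]
        show Ideal.Quotient.mk N (jD h D a) * c (ρ (Subalgebra.inclusion hDU d)) = _
        rw [hρ]
        rfl
    have hκs : Function.Surjective κ := fun z => by
      obtain ⟨y, rfl⟩ := Ideal.Quotient.mk_surjective z
      obtain ⟨p, hp⟩ := hsC y
      exact ⟨iDU p, by rw [hκ]; exact (Ideal.Quotient.eq.2 (hp N hN)).symm⟩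
    letI := Ideal.Quotient.field N
    exact ⟨RingHom.ker κ.toRingHom, RingHom.ker_isMaximal_of_surjective _ hκs, fun p => by
      show _ ↔ κ (iDU p) = 0
      rw [hκ, Ideal.Quotient.eq_zero_iff_mem]⟩
  choose 𝔲 h𝔲 hmem using key
  have hinj : Function.Injective fun N : MaximalSpectrum (integralClosure D (FractionRing D)) =>
      (⟨𝔲 N.asIdeal N.isMaximal, h𝔲 _ _⟩ : MaximalSpectrum (A'' ⊗[A] U)) := fun N N' hNN => by
    have h𝔲eq : 𝔲 N.asIdeal N.isMaximal = 𝔲 N'.asIdeal N'.isMaximal := congrArg MaximalSpectrum.asIdeal hNN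
    apply MaximalSpectrum.ext
    refine N.isMaximal.eq_of_le N'.isMaximal.ne_top fun (y : (integralClosure D (FractionRing D)).restrictScalars A) hy => ?_
    obtain ⟨p, hp⟩ := hsC y
    have hpN : φD h D p ∈ N.asIdeal := (mem_iff_of_sub_mem (hp _ N.isMaximal)).1 hy
    have hpN' : φD h D p ∈ N'.asIdeal := (hmem _ _ p).2 (h𝔲eq ▸ (hmem _ _ p).1 hpN)
    exact (mem_iff_of_sub_mem (hp _ N'.isMaximal)).2 hpN'
  haveI := hU.flat
  haveI : IsNoetherianRing U := hU.isNoetherianRing_of_base
  haveI : Finite (minimalPrimes U) := (minimalPrimes.finite_of_isNoetherianRing U).to_subtype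
  haveI : Finite (MaximalSpectrum (A'' ⊗[A] U)) := Finite.of_equiv _ e₃
  haveI : Finite (MaximalSpectrum (integralClosure D (FractionRing D))) := Finite.of_injective _ hinj
  haveI : Finite (minimalPrimes Dh) := Finite.of_equiv _ (e₁.trans e₂).symm
  have hminD : ∀ Q ∈ minimalPrimes U, Q.comap (Subalgebra.inclusion hDU).toRingHom ∈ minimalPrimes D := fun Q hQ => by
    haveI := hQ.1.1
    haveI : (Q.comap (Subalgebra.inclusion hDU).toRingHom).IsPrime := Ideal.IsPrime.comap _
    haveI := hDfin.to_subtype
    cases nonempty_fintype ↥(minimalPrimes D)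
    have hsub : (Q.comap (Subalgebra.inclusion hDU).toRingHom : Set D) ⊆
        ⋃ p ∈ ((Finset.univ : Finset ↥(minimalPrimes D)) : Set ↥(minimalPrimes D)), (p.1 : Set D) := fun d hd => by
      by_contra hne
      have hnzd : d ∈ nonZeroDivisors D := RedNorm.mem_nonZeroDivisors_iff.2 fun p hp =>
        hne (Set.mem_iUnion₂.2 ⟨p, Finset.mem_univ _, hp⟩)
      obtain ⟨a, ha, d', hd'⟩ := h.exists_mul_eq_algebraMap hAfin D hnzd
      have haQ : algebraMap A U a ∈ Q := by
        rw [show algebraMap A U a = Subalgebra.inclusion hDU (d * d') by rw [hd', AlgHom.commutes], map_mul]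
        exact Ideal.mul_mem_right _ _ hd
      have hmin := Hens.comap_mem_minimalPrimes_of_flat (R := A) hQ
      haveI := hAfin.to_subtype
      exact ((RedNorm.mem_nonZeroDivisors_iff.1 ha) ⟨_, hmin⟩) haQ
    obtain ⟨⟨p0, hp0⟩⟩ : Nonempty ↥(minimalPrimes D) := by
      obtain ⟨p, hp, -⟩ := Ideal.exists_minimalPrimes_le
        (bot_le : (⊥ : Ideal D) ≤ Q.comap (Subalgebra.inclusion hDU).toRingHom)
      exact ⟨⟨p, hp⟩⟩
    obtain ⟨p, -, hp⟩ := (Ideal.subset_union_prime ⟨p0, hp0⟩ ⟨p0, hp0⟩ (fun p _ _ _ => p.2.1.1)).1 hsub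
    rw [le_antisymm hp (p.2.2 ⟨inferInstance, bot_le⟩ hp)]
    exact p.2
  have hmin : ∀ Q ∈ minimalPrimes U, Q.comap g ∈ minimalPrimes Dh := fun Q hQ => by
    haveI := hQ.1.1
    haveI : (Q.comap g).IsPrime := Ideal.IsPrime.comap _
    refine ⟨⟨inferInstance, bot_le⟩, fun P hP hPQ => ?_⟩
    haveI := hP.1
    haveI : (P.comap (algebraMap D Dh)).IsPrime := Ideal.IsPrime.comap _
    refine (h1.eq_of_le_of_comap_eq hPQ (le_antisymm (Ideal.comap_mono hPQ) ?_)).ge
    rw [Ideal.comap_comap, hg]
    refine (hminD Q hQ).2 ⟨inferInstance, bot_le⟩ ?_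
    have h2 := Ideal.comap_mono (f := algebraMap D Dh) hPQ
    rw [Ideal.comap_comap, hg] at h2
    exact h2
  let F : minimalPrimes U → minimalPrimes Dh := fun Q => ⟨Q.1.comap g, hmin Q.1 Q.2⟩
  have hF : Function.Bijective F := by
    refine Function.Injective.bijective_of_nat_card_le
      (fun Q Q' hQ => Subtype.ext (Ideal.comap_injective_of_surjective g hgs (congrArg Subtype.val hQ))) ?_
    rw [Nat.card_congr (e₁.trans e₂), Nat.card_congr e₃]
    exact Nat.card_le_card_of_injective _ hinj
  refine (injective_iff_map_eq_zero g).2 fun z hz => ?_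
  have : z ∈ sInf (minimalPrimes Dh) := Submodule.mem_sInf.2 fun P hP => by
    obtain ⟨Q, hQ⟩ := hF.2 ⟨P, hP⟩
    rw [← show Q.1.comap g = P from congrArg Subtype.val hQ, Ideal.mem_comap, hz]
    exact zero_mem _
  rw [minimalPrimes, Ideal.sInf_minimalPrimes] at this
  exact IsReduced.eq_zero z (mem_nilradical.1 this)

omit [IsReduced A] [IsNoetherianRing A] [IsLocalHom (algebraMap A S)]
  [Algebra.IsSeparable (ResidueField A) (ResidueField S)] in
/-- Faithful flatness over a subalgebra makes it pure. -/
theorem lTensor_val_injective [Module.FaithfullyFlat D S] (R : Type u) [AddCommGroup R] [Module A R] :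
    Function.Injective (D.val.toLinearMap.lTensor R) := by
  have h1 : Function.Injective (TensorProduct.mk D S (D ⊗[A] R) 1) :=
    Module.FaithfullyFlat.tensorProduct_mk_injective _
  let e := TensorProduct.AlgebraTensorModule.cancelBaseChange A D S S R
  have h2 : ∀ z : D ⊗[A] R, e ((1 : S) ⊗ₜ[D] z) = D.val.toLinearMap.rTensor R z := fun z => by
    induction z using TensorProduct.induction_on with
    | zero => simp
    | add p q hp hq => rw [TensorProduct.tmul_add, map_add, map_add, hp, hq]
    | tmul d r => simp [e, Algebra.smul_def]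
  have h3 : Function.Injective (D.val.toLinearMap.rTensor R) := fun a b hab => h1 (e.injective (by
    show e ((1 : S) ⊗ₜ[D] a) = e ((1 : S) ⊗ₜ[D] b)
    rw [h2, h2, hab]))
  have hc : ∀ z, D.val.toLinearMap.lTensor R z =
      TensorProduct.comm A S R (D.val.toLinearMap.rTensor R (TensorProduct.comm A R D z)) := fun z => by
    induction z using TensorProduct.induction_on with
    | zero => simp
    | add p q hp hq => simp only [map_add, hp, hq]
    | tmul r d => simp
  intro a b hab
  rw [hc, hc] at hab
  exact (TensorProduct.comm A R D).injective (h3 ((TensorProduct.comm A S R).injective hab))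

/-- Every maximal ideal of `D'` lies below one of `A'' ⊗ S`. -/
theorem exists_maximal_over [Module.FaithfullyFlat D S]
    (N : Ideal ((integralClosure D (FractionRing D)).restrictScalars A)) [hN : N.IsMaximal] :
    ∃ M : Ideal (A'' ⊗[A] S), M.IsMaximal ∧ M.comap (toP h D).toRingHom = N := by
  haveI : Module.Flat D S := inferInstance
  letI : Algebra D (A'' ⊗[A] S) :=
    ((Algebra.TensorProduct.includeRight : S →ₐ[A] A'' ⊗[A] S).toRingHom.comp (algebraMap D S)).toAlgebra
  let f : integralClosure D (FractionRing D) →ₐ[D] A'' ⊗[A] S :=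
    { toRingHom := (toP h D).toRingHom
      commutes' := fun d => toP_algebraMap h D d }
  let r : S →ₐ[D] A'' ⊗[A] S :=
    { toRingHom := (Algebra.TensorProduct.includeRight : S →ₐ[A] A'' ⊗[A] S).toRingHom
      commutes' := fun d => rfl }
  let ν : integralClosure D (FractionRing D) ⊗[D] S →ₐ[D] A'' ⊗[A] S :=
    Algebra.TensorProduct.productMap f r
  have hν : Function.Surjective ν := fun z => by
    induction z using TensorProduct.induction_on with
    | zero => exact ⟨0, map_zero _⟩
    | add p q hp hq =>
      obtain ⟨a, ha⟩ := hp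
      obtain ⟨b, hb⟩ := hq
      exact ⟨a + b, by rw [map_add, ha, hb]⟩
    | tmul a s =>
      refine ⟨(jD h D a : (integralClosure D (FractionRing D)).restrictScalars A) ⊗ₜ[D] s, ?_⟩
      refine (Algebra.TensorProduct.productMap_apply_tmul _ _ _ _).trans ?_
      show toP h D (jD h D a) * ((1 : A'') ⊗ₜ[A] s) = _
      rw [toP_jD, Algebra.TensorProduct.tmul_mul_tmul, mul_one, one_mul]
  have hνi : Function.Injective ν := by
    let ev : FractionRing D ⊗[D] S →ₐ[D] FractionRing S :=
      Algebra.TensorProduct.productMap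
        ({ toRingHom := (fracMap h D).toRingHom, commutes' := fun d => fracMap_algebraMap h D d } :
          FractionRing D →ₐ[D] FractionRing S)
        (IsScalarTower.toAlgHom D S (FractionRing S))
    let i : integralClosure D (FractionRing D) ⊗[D] S →ₐ[D] FractionRing D ⊗[D] S :=
      Algebra.TensorProduct.map (integralClosure D (FractionRing D)).val (AlgHom.id D S)
    have hi : Function.Injective i :=
      Module.Flat.rTensor_preserves_injective_linearMap (M := S)
        (integralClosure D (FractionRing D)).val.toLinearMap Subtype.val_injective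
    have hev : Function.Injective ev := (injective_iff_map_eq_zero ev).2 fun z hz => by
      obtain ⟨d, hd, s, hds⟩ := exists_smul_eq_one_tmul z
      have h0 : ev ((1 : FractionRing D) ⊗ₜ[D] s) = 0 := by rw [← hds, map_smul, hz, smul_zero]
      rw [Algebra.TensorProduct.productMap_apply_tmul, map_one, one_mul] at h0
      rw [show s = 0 from IsFractionRing.injective S (FractionRing S) (h0.trans (map_zero _).symm),
        TensorProduct.tmul_zero] at hds
      exact (IsLocalization.map_units (FractionRing D) (⟨d, hd⟩ : nonZeroDivisors D)).smul_eq_zero.1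
        ((algebraMap_smul (FractionRing D) d z).trans hds)
    have hcomp : ∀ z, ev (i z) = toFS h (ν z) := fun z => by
      induction z using TensorProduct.induction_on with
      | zero => simp
      | add p q hp hq => simp only [map_add, hp, hq]
      | tmul y s =>
        rw [Algebra.TensorProduct.map_tmul, Algebra.TensorProduct.productMap_apply_tmul]
        rw [show ν (y ⊗ₜ s) = toP h D y * ((1 : A'') ⊗ₜ[A] s) from Algebra.TensorProduct.productMap_apply_tmul _ _ _ _,
          map_mul, toFS_toP]
        congr 1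
        rw [toFS, Algebra.TensorProduct.productMap_apply_tmul, map_one, one_mul]
        rfl
    intro a b hab
    exact hi (hev (by rw [hcomp, hcomp, hab]))
  obtain ⟨𝔮, h𝔮⟩ := PrimeSpectrum.comap_surjective_of_faithfullyFlat
    (A := integralClosure D (FractionRing D)) (B := integralClosure D (FractionRing D) ⊗[D] S) ⟨N, hN.isPrime⟩
  let e := RingEquiv.ofBijective ν ⟨hνi, hν⟩
  obtain ⟨M, hM, hle⟩ := (𝔮.asIdeal.comap e.symm.toRingHom).exists_le_maximal (Ideal.IsPrime.comap _).ne_top
  refine ⟨M, hM, (hN.eq_of_le (Ideal.IsPrime.comap (toP h D).toRingHom (hK := hM.isPrime)).ne_top fun y hy => ?_).symm⟩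
  refine hle ?_
  show e.symm (toP h D y) ∈ 𝔮.asIdeal
  rw [show toP h D y = e ((y : integralClosure D (FractionRing D)) ⊗ₜ[D] (1 : S)) from
    ((Algebra.TensorProduct.productMap_apply_tmul _ _ _ _).trans (by rw [map_one, mul_one]; rfl)).symm, e.symm_apply_apply]
  exact (congrArg PrimeSpectrum.asIdeal h𝔮).ge hy

omit [IsLocalHom (algebraMap A S)] [Algebra.IsSeparable (ResidueField A) (ResidueField S)] in
theorem finite_maximal_tensor (h : IsEtLike A S) : {M : Ideal (A'' ⊗[A] S) | M.IsMaximal}.Finite := by
  haveI : IsReduced S := h.isReduced_iff.1 inferInstance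
  haveI : IsNoetherianRing S := h.isNoetherianRing_of_base
  have hint : ∀ p, IsIntegral S (toFS h p) := fun p => by
    induction p using TensorProduct.induction_on with
    | zero => rw [map_zero]; exact isIntegral_zero
    | add p q hp hq => rw [map_add]; exact hp.add hq
    | tmul a s =>
      rw [toFS, Algebra.TensorProduct.productMap_apply_tmul]
      exact ((a.2.map (ιK h)).tower_top).mul isIntegral_algebraMap
  let f : A'' ⊗[A] S →+* integralClosure S (FractionRing S) :=
    (toFS h).toRingHom.codRestrict (integralClosure S (FractionRing S)).toSubring hint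
  have hf : Function.Bijective f := ⟨fun a b hab => toFS_injective h (congrArg Subtype.val hab), fun y => by
    obtain ⟨w, hw⟩ := mem_range_of_isIntegral h y.1 y.2
    exact ⟨w, Subtype.ext hw⟩⟩
  let e := RingEquiv.ofBijective f hf
  refine ((finite_maximal_integralClosure S).image fun M => M.comap f).subset fun M hM => ?_
  haveI : M.IsMaximal := hM
  refine ⟨M.comap e.symm.toRingHom, Ideal.comap_isMaximal_of_surjective _ e.symm.surjective, ?_⟩
  ext z
  show e.symm (e z) ∈ M ↔ z ∈ M
  rw [e.symm_apply_apply]

omit [IsReduced A] [IsNoetherianRing A] [IsLocalHom (algebraMap A S)]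
  [Algebra.IsSeparable (ResidueField A) (ResidueField S)] in
/-- Radical elements of `B ⊗ S` coming from `B ⊗ D` lie in the extended maximal ideals. -/
theorem mem_map_of_jacobson (h : IsEtLike A S) [Module.FaithfullyFlat D S] {B : Type u} [CommRing B] [Algebra A B]
    (n : Ideal B) [n.IsMaximal] (p : B ⊗[A] D)
    (hjac : ∀ M : Ideal (B ⊗[A] S), M.IsMaximal → Algebra.TensorProduct.map (AlgHom.id A B) D.val p ∈ M) :
    p ∈ n.map (Algebra.TensorProduct.includeLeft : B →ₐ[A] B ⊗[A] D) := by
  letI := Ideal.Quotient.field n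
  let qS : B ⊗[A] S →ₐ[A] (B ⧸ n) ⊗[A] S := Algebra.TensorProduct.map (Ideal.Quotient.mkₐ A n) (AlgHom.id A S)
  let qD : B ⊗[A] D →ₐ[A] (B ⧸ n) ⊗[A] D := Algebra.TensorProduct.map (Ideal.Quotient.mkₐ A n) (AlgHom.id A D)
  have hqS : Function.Surjective qS :=
    TensorProduct.map_surjective Ideal.Quotient.mk_surjective Function.surjective_id
  have h0 : qS (Algebra.TensorProduct.map (AlgHom.id A B) D.val p) = 0 := by
    obtain ⟨v, hv⟩ := h.exists_mul_mul_eq (B ⧸ n) (qS (Algebra.TensorProduct.map (AlgHom.id A B) D.val p))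
    refine eq_zero_of_absFlat hv (mem_jacobson_bot_iff.2 fun M hM => ?_)
    haveI := hM
    exact hjac _ (Ideal.comap_isMaximal_of_surjective qS.toRingHom hqS)
  have h1 : qD p = 0 := lTensor_val_injective D (B ⧸ n) (by
    rw [map_zero, ← h0]
    clear hjac h0
    induction p using TensorProduct.induction_on with
    | zero => simp
    | add p q hp hq => simp only [map_add, hp, hq]
    | tmul a d => rfl)
  have h2 : p ∈ RingHom.ker qD := h1
  rw [Algebra.TensorProduct.rTensor_ker _ Ideal.Quotient.mk_surjective,
    show RingHom.ker (Ideal.Quotient.mkₐ A n) = n from Ideal.mk_ker] at h2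
  exact h2

/-- (⇒) of the residual criterion. -/
theorem condition_of_stages [Module.FaithfullyFlat D S]
    (hrepr : ∀ s : Finset S, (s : Set S) ⊆ D → ∃ E : Subalgebra A S, IsEssSub E ∧ (s : Set S) ⊆ E ∧
      ∀ e ∈ E, ∃ d ∈ D, e - d ∈ maximalIdeal S) :
    {N : Ideal ((integralClosure D (FractionRing D)).restrictScalars A) | N.IsMaximal}.Finite ∧
      (∀ y, ∃ p : A'' ⊗[A] D, ∀ N : Ideal ((integralClosure D (FractionRing D)).restrictScalars A),
        N.IsMaximal → y - φD h D p ∈ N) ∧
      ∀ p : A'' ⊗[A] D, (∀ N : Ideal ((integralClosure D (FractionRing D)).restrictScalars A),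
        N.IsMaximal → φD h D p ∈ N) ↔
          ∀ n : Ideal A'', n.IsMaximal → p ∈ n.map (Algebra.TensorProduct.includeLeft : A'' →ₐ[A] A'' ⊗[A] D) := by
  classical
  refine ⟨(((finite_maximal_tensor h).image fun M => M.comap (toP h D).toRingHom)).subset fun N hN => ?_,
    fun y => ?_, fun p => ⟨fun hp n hn => ?_, fun hp N hN => ?_⟩⟩
  · haveI : N.IsMaximal := hN
    obtain ⟨M, hM, hMN⟩ := exists_maximal_over h D N
    exact ⟨M, hM, hMN⟩
  · obtain ⟨a, ha, d, hd⟩ := h.exists_fraction (minimalPrimes.finite_of_isNoetherianRing A) D (y : FractionRing D)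
    obtain ⟨q, hq, hqy⟩ := y.2
    obtain ⟨E, hE, hsE, hEres⟩ := hrepr ({(d : S)} ∪ (q.map D.val.toRingHom).coeffs) (by
      intro z hz
      rcases Finset.mem_union.1 (Finset.mem_coe.1 hz) with hz | hz
      · rw [Finset.mem_singleton.1 hz]; exact d.2
      · obtain ⟨m, -, rfl⟩ := Polynomial.mem_coeffs_iff.1 hz
        rw [Polynomial.coeff_map]
        exact (q.coeff m).2)
    haveI := hE.isLocalRing
    have hE' := isEtLike_of_isEssentiallyEtale hE.essEtale
    haveI := (minimalPrimes.finite_of_isNoetherianRing A).to_subtype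
    obtain ⟨k, hk⟩ := (IsLocalization.map_units (FractionRing A) (⟨a, ha⟩ : nonZeroDivisors A)).exists_right_inv
    let z : FractionRing E := baseMap h E k *
      algebraMap E (FractionRing E) ⟨(d : S), hsE (Finset.mem_coe.2 (Finset.mem_union_left _ (Finset.mem_singleton_self _)))⟩
    have hzy : fracMap h E z = fracMap h D (y : FractionRing D) := by
      rw [map_mul, fracMap_baseMap, fracMap_algebraMap, ← fracMap_algebraMap h D d, ← hd, map_mul, AlgHom.commutes,
        ← mul_assoc, ← (ιK h).commutes a, ← map_mul, mul_comm k, hk, map_one, one_mul]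
    have hz : IsIntegral E z := by
      obtain ⟨qE, hqE, -, hqEm⟩ := Polynomial.lifts_and_natDegree_eq_and_monic
        ((Polynomial.lifts_iff_coeff_lifts (f := E.val.toRingHom) (q.map D.val.toRingHom)).2 fun m => by
          by_cases hm : (q.map D.val.toRingHom).coeff m = 0
          · exact ⟨0, by rw [map_zero, hm]⟩
          · exact ⟨⟨_, hsE (Finset.mem_coe.2 (Finset.mem_union_right _ (Polynomial.coeff_mem_coeffs hm)))⟩, rfl⟩)
        (hq.map _)
      refine ⟨qE, hqEm, fracMap_injective h E ?_⟩
      rw [map_zero]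
      show (fracMap h E).toRingHom _ = 0
      rw [Polynomial.hom_eval₂, show (fracMap h E).toRingHom.comp (algebraMap E (FractionRing E)) =
        (algebraMap S (FractionRing S)).comp E.val.toRingHom from RingHom.ext fun e => fracMap_algebraMap h E e,
        ← Polynomial.eval₂_map, hqE, Polynomial.eval₂_map,
        show (fracMap h E).toRingHom z = (fracMap h D).toRingHom (y : FractionRing D) from hzy,
        show (algebraMap S (FractionRing S)).comp D.val.toRingHom = (fracMap h D).toRingHom.comp
          (algebraMap D (FractionRing D)) from RingHom.ext fun d => (fracMap_algebraMap h D d).symm,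
        ← Polynomial.hom_eval₂, hqy, map_zero]
    obtain ⟨w, hw⟩ := mem_range_of_isIntegral hE' z hz
    have hyw : toP h D y = Algebra.TensorProduct.map (AlgHom.id A A'') E.val w := by
      apply toFS_injective h
      rw [toFS_toP, ← hzy, ← hw]
      clear hw
      show fracMap h E (Algebra.TensorProduct.productMap ((ιK hE').comp (integralClosure A (FractionRing A)).val)
        (IsScalarTower.toAlgHom A E (FractionRing E)) w) = _
      induction w using TensorProduct.induction_on with
      | zero => simp
      | add p q hp hq => simp only [map_add, hp, hq]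
      | tmul a e =>
        rw [Algebra.TensorProduct.productMap_apply_tmul, map_mul, Algebra.TensorProduct.map_tmul, toFS,
          Algebra.TensorProduct.productMap_apply_tmul]
        congr 1
        · exact AlgHom.congr_fun (IsLocalization.algHom_ext (nonZeroDivisors A) (Subsingleton.elim _ _) :
            (fracMap h E).comp (ιK hE') = ιK h) a.1
        · exact fracMap_algebraMap h E e
    obtain ⟨p, hp⟩ := exists_congr E D hEres w
    refine ⟨p, fun N hN => ?_⟩
    haveI := hN
    obtain ⟨M, hM, hMN⟩ := exists_maximal_over h D N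
    rw [← hMN, Ideal.mem_comap]
    refine (congrArg (· ∈ M) (map_sub (toP h D) y (φD h D p))).mpr ?_
    rw [hyw, toP_φD]
    exact hp M hM
  · haveI := hn
    refine mem_map_of_jacobson D h n p fun M hM => ?_
    haveI := hM
    rw [← toP_φD h D p]
    exact hp _ (isMaximal_comap_hom (toP h D) M)
  · haveI := hN
    obtain ⟨M, hM, hMN⟩ := exists_maximal_over h D N
    haveI := hM
    haveI := Hens.isMaximal_comap_tensor (S := S) M
    have hp' := hp (M.comap (algebraMap A'' (A'' ⊗[A] S))) inferInstance
    have h1 := Ideal.mem_map_of_mem (Algebra.TensorProduct.map (AlgHom.id A A'') D.val).toRingHom hp'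
    rw [← hMN, Ideal.mem_comap]
    show toP h D (φD h D p) ∈ M
    rw [toP_φD]
    refine (Ideal.map_le_iff_le_comap.2 ?_) h1
    refine Ideal.map_le_iff_le_comap.2 fun a ha => ?_
    show Algebra.TensorProduct.map (AlgHom.id A A'') D.val (a ⊗ₜ 1) ∈ M
    rw [Algebra.TensorProduct.map_tmul, map_one]
    exact ha

end

end Groth.Agent.Hensel.NormRes
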