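import Groth.Agent.Hensel.NormResidue
import Groth.Agent.RedNorm.Basic

/-!
# Residually trivial normalizations: descent into the ind-étale part
-/

set_option autoImplicit false
set_option linter.style.haveILetI false

universe u

open IsLocalRing TensorProduct

namespace Groth.Agent.Hensel.NormRes

open NormSub

section maximal

variable {A S : Type u} [CommRing A] [IsLocalRing A] [CommRing S] [IsLocalRing S] [Algebra A S]
  [IsLocalHom (algebraMap A S)] [Algebra.IsSeparable (ResidueField A) (ResidueField S)]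
  {B : Type u} [CommRing B] [Algebra A B] [Algebra.IsIntegral A B]

/-- The residue fields of a base change are integral over the base. -/
theorem isIntegral_quotient_tensor (M : Ideal (B ⊗[A] S)) [M.IsMaximal] :
    Algebra.IsIntegral A ((B ⊗[A] S) ⧸ M) := by
  refine ⟨fun z => ?_⟩
  obtain ⟨p, rfl⟩ := Ideal.Quotient.mk_surjective z
  induction p using TensorProduct.induction_on with
  | zero => rw [map_zero]; exact isIntegral_zero
  | add p q hp hq => rw [map_add]; exact hp.add hq
  | tmul b s =>
    rw [show b ⊗ₜ[A] s = (b ⊗ₜ 1) * (1 ⊗ₜ s) by simp, map_mul]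
    refine IsIntegral.mul ((Algebra.IsIntegral.isIntegral (R := A) b).map
      ((Ideal.Quotient.mkₐ A M).comp Algebra.TensorProduct.includeLeft)) ?_
    obtain ⟨q, hq, hqs⟩ := Algebra.IsIntegral.isIntegral (R := ResidueField A) (residue S s)
    obtain ⟨g, hg, -, hgm⟩ := Polynomial.lifts_and_natDegree_eq_and_monic
      (Polynomial.map_surjective (residue A) residue_surjective q) hq
    refine ⟨g, hgm, ?_⟩
    let ψ : S →ₐ[A] (B ⊗[A] S) ⧸ M := (Ideal.Quotient.mkₐ A M).comp Algebra.TensorProduct.includeRight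
    show Polynomial.eval₂ _ (ψ s) g = 0
    rw [← Polynomial.aeval_def, Polynomial.aeval_algHom_apply]
    have hm : Polynomial.aeval s g ∈ maximalIdeal S := by
      rw [← residue_eq_zero_iff, Polynomial.aeval_def, Polynomial.hom_eval₂]
      rw [← hg, Polynomial.eval₂_map] at hqs
      exact hqs
    rw [← Hens.comap_eq_maximalIdeal_of_isMaximal M] at hm
    exact Ideal.Quotient.eq_zero_iff_mem.2 hm

/-- Maximal ideals of a base change contract to maximal ideals of every algebra. -/
theorem isMaximal_comap_hom {C : Type u} [CommRing C] [Algebra A C] (f : C →ₐ[A] B ⊗[A] S)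
    (M : Ideal (B ⊗[A] S)) [M.IsMaximal] : (M.comap f.toRingHom).IsMaximal := by
  haveI := isIntegral_quotient_tensor M
  refine Ideal.Quotient.maximal_of_isField _ ?_
  let g : C ⧸ M.comap f.toRingHom →ₐ[A] (B ⊗[A] S) ⧸ M :=
    Ideal.quotientMapₐ M f le_rfl
  letI := g.toRingHom.toAlgebra
  haveI : IsScalarTower A (C ⧸ M.comap f.toRingHom) ((B ⊗[A] S) ⧸ M) :=
    IsScalarTower.of_algebraMap_eq fun a => (g.commutes a).symm
  haveI : Algebra.IsIntegral (C ⧸ M.comap f.toRingHom) ((B ⊗[A] S) ⧸ M) := Algebra.IsIntegral.tower_top A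
  exact isField_of_isIntegral_of_isField (R := C ⧸ M.comap f.toRingHom) (S := (B ⊗[A] S) ⧸ M)
    Ideal.quotientMap_injective ((Ideal.Quotient.maximal_ideal_iff_isField_quotient M).1 inferInstance)

/-- Only one maximal ideal contains `1 - e` when the corresponding quotient is local. -/
theorem eq_of_one_sub_mem {R : Type u} [CommRing R] {e : R} (hl : IsLocalRing (R ⧸ Ideal.span {1 - e}))
    (N N' : Ideal R) (hN : N.IsMaximal) (hN' : N'.IsMaximal) (h : 1 - e ∈ N) (h' : 1 - e ∈ N') : N = N' := by
  have hk : ∀ N : Ideal R, N.IsMaximal → 1 - e ∈ N →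
      N = (maximalIdeal _).comap (Ideal.Quotient.mk (Ideal.span {1 - e})) := fun N hN h1 => by
    haveI := hN
    have hle : Ideal.span {1 - e} ≤ N := (Ideal.span_singleton_le_iff_mem N).2 h1
    haveI : (N.map (Ideal.Quotient.mk (Ideal.span {1 - e}))).IsMaximal :=
      Ideal.IsMaximal.map_of_surjective_of_ker_le Ideal.Quotient.mk_surjective (by rw [Ideal.mk_ker]; exact hle)
    rw [← eq_maximalIdeal this, Ideal.comap_map_of_surjective _ Ideal.Quotient.mk_surjective,
      ← RingHom.ker_eq_comap_bot, Ideal.mk_ker]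
    exact (sup_eq_left.2 hle).symm
  exact (hk N hN h).trans (hk N' hN' h').symm

/-- An element annihilated outside every maximal ideal is zero. -/
theorem eq_zero_of_forall_maximal {R : Type u} [CommRing R] (z : R)
    (hz : ∀ M : Ideal R, M.IsMaximal → ∃ t, t ∉ M ∧ t * z = 0) : z = 0 := by
  by_contra hne
  let J : Ideal R := (⊥ : Submodule R R).comap (LinearMap.toSpanSingleton R R z)
  have hJ : J ≠ ⊤ := fun hJ => hne (by
    have h1 : (1 : R) ∈ J := by rw [hJ]; trivial
    have h2 : (1 : R) • z = 0 := h1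
    rwa [one_smul] at h2)
  obtain ⟨M, hM, hle⟩ := J.exists_le_maximal hJ
  obtain ⟨t, ht, htz⟩ := hz M hM
  exact ht (hle (show t • z = 0 by rw [smul_eq_mul, htz]))

end maximal

section tri

variable {B P Q : Type u} [CommRing B] [CommRing P] [CommRing Q]

theorem localRingHom_tri (n : Ideal B) [n.IsPrime] (p : Ideal P) [p.IsPrime] (q : Ideal Q) [q.IsPrime]
    (g : B →+* P) (f : P →+* Q) (k : B →+* Q) (hg : n = p.comap g) (hf : p = q.comap f) (hk : n = q.comap k)
    (hfg : f.comp g = k) (z : Localization.AtPrime n) :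
    Localization.localRingHom p q f hf (Localization.localRingHom n p g hg z) = Localization.localRingHom n q k hk z := by
  have : (Localization.localRingHom p q f hf).comp (Localization.localRingHom n p g hg) =
      Localization.localRingHom n q k hk := IsLocalization.ringHom_ext n.primeCompl (RingHom.ext fun b => by
    simp only [RingHom.comp_apply, Localization.localRingHom_to_map, ← hfg])
  exact RingHom.congr_fun this z

end tri

variable {A S : Type u} [CommRing A] [IsLocalRing A] [IsReduced A] [IsNoetherianRing A]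
  [CommRing S] [IsLocalRing S] [Algebra A S] [IsLocalHom (algebraMap A S)]
  [Algebra.IsSeparable (ResidueField A) (ResidueField S)]

local notation "A''" => integralClosure A (FractionRing A)

/-- The inclusion `A'' ⊗ U → A'' ⊗ S`. -/
noncomputable def iU (U : Subalgebra A S) : A'' ⊗[A] U →ₐ[A] A'' ⊗[A] S :=
  Algebra.TensorProduct.map (AlgHom.id A A'') U.val

section near

variable {B C : Type u} [CommRing B] [Algebra A B] [Algebra.IsIntegral A B] [Module.Finite A B]
  [CommRing C] [Algebra A C]

omit [IsReduced A] [IsNoetherianRing A] in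
/-- Elements of a normal ring near a maximal ideal of `B ⊗ U`. -/
theorem exists_mem_near (h : IsEtLike A S) (U : Subalgebra A S)
    [HenselianLocalRing U] [IsLocalHom (algebraMap U S)]
    (hBnorm : ∀ n : Ideal B, ∀ [n.IsPrime], IsDomain (Localization.AtPrime n) ∧ IsIntegrallyClosed (Localization.AtPrime n))
    (hCnorm : ∀ n : Ideal C, ∀ [n.IsPrime], IsDomain (Localization.AtPrime n) ∧ IsIntegrallyClosed (Localization.AtPrime n))
    (j : B →ₐ[A] C) (ψ : C →ₐ[A] B ⊗[A] S) (hψj : ∀ b, ψ (j b) = b ⊗ₜ[A] (1 : S))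
    (hψ : ∀ (M : Ideal (B ⊗[A] S)), M.IsPrime → ∀ t, t ∉ M → ∀ y, t * ψ y = 0 → ∃ s, ψ s ∉ M ∧ s * y = 0)
    (hs : ∀ y, ∃ p : B ⊗[A] U, ∀ M : Ideal (B ⊗[A] S), M.IsMaximal →
      ψ y - Algebra.TensorProduct.map (AlgHom.id A B) U.val p ∈ M)
    (x : C) (𝔲 : Ideal (B ⊗[A] U)) [𝔲.IsMaximal] :
    ∃ e p : B ⊗[A] U, e ∉ 𝔲 ∧
      Algebra.TensorProduct.map (AlgHom.id A B) U.val e * ψ x = Algebra.TensorProduct.map (AlgHom.id A B) U.val p := by
  classical
  haveI : IsLocalHom (algebraMap A U) :=
    ⟨fun a ha => isUnit_of_map_unit (algebraMap A S) a (ha.map U.val)⟩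
  letI : Algebra U (B ⊗[A] U) := Algebra.TensorProduct.rightAlgebra
  haveI : Module.Finite U (B ⊗[A] U) := by
    obtain ⟨γ, hγ⟩ := (inferInstance : Module.Finite A B).fg_top
    refine ⟨⟨γ.image fun a => a ⊗ₜ[A] (1 : U), Submodule.eq_top_iff'.2 fun z => ?_⟩⟩
    induction z using TensorProduct.induction_on with
    | zero => exact zero_mem _
    | add p q hp hq => exact add_mem hp hq
    | tmul a u =>
      have ha : a ∈ Submodule.span A (γ : Set B) := hγ ▸ Submodule.mem_top
      induction ha using Submodule.span_induction with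
      | mem b hb =>
        rw [show b ⊗ₜ[A] u = u • (b ⊗ₜ[A] (1 : U)) by
          show _ = ((1 : B) ⊗ₜ[A] u) * (b ⊗ₜ[A] (1 : U))
          simp]
        exact Submodule.smul_mem _ _ (Submodule.subset_span (Finset.mem_coe.2 (Finset.mem_image_of_mem _ hb)))
      | zero => rw [TensorProduct.zero_tmul]; exact zero_mem _
      | add b c _ _ hb hc => rw [TensorProduct.add_tmul]; exact add_mem hb hc
      | smul c b _ hb =>
        rw [← TensorProduct.smul_tmul']
        exact Submodule.smul_of_tower_mem _ c hb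
  -- the idempotent at `𝔲`
  obtain ⟨n, ei, hei, hlocal⟩ := exists_pi_local (R := U) (B ⊗[A] U)
  obtain ⟨i, hi⟩ : ∃ i, ei i ∉ 𝔲 := by
    by_contra hcon
    push Not at hcon
    exact (inferInstance : 𝔲.IsMaximal).ne_top ((Ideal.eq_top_iff_one _).2 (hei.complete ▸ sum_mem fun j _ => hcon j))
  have he1 : 1 - ei i ∈ 𝔲 := ((inferInstance : 𝔲.IsMaximal).isPrime.mem_or_mem
    (show ei i * (1 - ei i) ∈ 𝔲 by rw [mul_sub, mul_one, (hei.idem i).eq, sub_self]; exact zero_mem _)).resolve_left hi
  have honly : ∀ N : Ideal (B ⊗[A] U), N.IsMaximal → N ≠ 𝔲 → ei i ∈ N := fun N hN hne => by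
    by_contra hiN
    have hN1 : 1 - ei i ∈ N := (hN.isPrime.mem_or_mem
      (show ei i * (1 - ei i) ∈ N by rw [mul_sub, mul_one, (hei.idem i).eq, sub_self]; exact zero_mem _)).resolve_left hiN
    exact hne (eq_of_one_sub_mem (hlocal i) N 𝔲 hN inferInstance hN1 he1)
  have hmaxU : ∀ M : Ideal (B ⊗[A] S), M.IsMaximal → (M.comap ((Algebra.TensorProduct.map (AlgHom.id A B) U.val)).toRingHom).IsMaximal := fun M hM => by
    haveI := hM
    exact isMaximal_comap_hom ((Algebra.TensorProduct.map (AlgHom.id A B) U.val)) M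
  have hother : ∀ M : Ideal (B ⊗[A] S), M.IsMaximal → M.comap ((Algebra.TensorProduct.map (AlgHom.id A B) U.val)).toRingHom ≠ 𝔲 → ∀ z,
      ∃ t, t ∉ M ∧ t * ((Algebra.TensorProduct.map (AlgHom.id A B) U.val) (ei i) * z) = 0 := fun M hM hne z => by
    refine ⟨(Algebra.TensorProduct.map (AlgHom.id A B) U.val) (1 - ei i), fun hmem => ?_, ?_⟩
    · have := (M.comap ((Algebra.TensorProduct.map (AlgHom.id A B) U.val)).toRingHom).add_mem (show 1 - ei i ∈ M.comap ((Algebra.TensorProduct.map (AlgHom.id A B) U.val)).toRingHom from hmem)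
        (honly _ (hmaxU M hM) hne)
      rw [sub_add_cancel] at this
      exact (hmaxU M hM).ne_top ((Ideal.eq_top_iff_one _).2 this)
    · rw [← mul_assoc, ← map_mul, sub_mul, one_mul, (hei.idem i).eq, sub_self, map_zero, zero_mul]
  by_cases hM0 : ∃ M : Ideal (B ⊗[A] S), M.IsMaximal ∧ M.comap ((Algebra.TensorProduct.map (AlgHom.id A B) U.val)).toRingHom = 𝔲
  swap
  · refine ⟨ei i, 0, hi, ?_⟩
    rw [map_zero]
    push Not at hM0
    exact eq_zero_of_forall_maximal _ fun M hM => hother M hM (hM0 M hM) _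
  obtain ⟨M0, hM0, hM0u⟩ := hM0
  haveI := hM0
  choose pv hpv using hs
  -- the primes
  have hNmem : ∀ M : Ideal (B ⊗[A] S), M.IsMaximal → M.comap ((Algebra.TensorProduct.map (AlgHom.id A B) U.val)).toRingHom = 𝔲 → ∀ y,
      ψ y ∈ M ↔ pv y ∈ 𝔲 := fun M hM hu y => by
    rw [← hu]
    constructor
    · intro hy
      have := M.sub_mem hy (hpv y M hM)
      rwa [sub_sub_cancel] at this
    · intro hy
      have := M.add_mem (hpv y M hM) (show (Algebra.TensorProduct.map (AlgHom.id A B) U.val) (pv y) ∈ M from hy)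
      rwa [sub_add_cancel] at this
  set N := M0.comap (ψ).toRingHom with hNdef
  haveI : N.IsPrime := Ideal.IsPrime.comap _
  set n0 := M0.comap (algebraMap B (B ⊗[A] S)) with hn0def
  haveI : n0.IsPrime := Ideal.IsPrime.comap _
  have hiUl : ((Algebra.TensorProduct.map (AlgHom.id A B) U.val)).toRingHom.comp (algebraMap B (B ⊗[A] U)) = algebraMap B (B ⊗[A] S) :=
    RingHom.ext fun a => by
      show (Algebra.TensorProduct.map (AlgHom.id A B) U.val) (a ⊗ₜ 1) = a ⊗ₜ 1
      simp [iU]
  have hjl : (ψ).toRingHom.comp j.toRingHom = algebraMap B (B ⊗[A] S) :=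
    RingHom.ext fun a => hψj a
  have hn0u : n0 = 𝔲.comap (algebraMap B (B ⊗[A] U)) := by
    rw [← hM0u, Ideal.comap_comap, hiUl]
  have hn0N : n0 = N.comap j.toRingHom := by rw [hNdef, Ideal.comap_comap, hjl]
  have hN : ∀ M : Ideal (B ⊗[A] S), M.IsMaximal → M.comap ((Algebra.TensorProduct.map (AlgHom.id A B) U.val)).toRingHom = 𝔲 →
      N = M.comap (ψ).toRingHom := fun M hM hu => by
    ext y
    exact (hNmem M0 hM0 hM0u y).trans (hNmem M hM hu y).symm
  have hn0 : ∀ M : Ideal (B ⊗[A] S), M.IsMaximal → M.comap ((Algebra.TensorProduct.map (AlgHom.id A B) U.val)).toRingHom = 𝔲 →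
      n0 = M.comap (algebraMap B (B ⊗[A] S)) := fun M hM hu => by
    rw [hn0u, ← hu, Ideal.comap_comap, hiUl]
  -- normality
  obtain ⟨hR0d, hR0i⟩ := hBnorm n0
  haveI := hR0d
  haveI := hR0i
  obtain ⟨hXd, hXi⟩ : IsDomain (Localization.AtPrime N) ∧ IsIntegrallyClosed (Localization.AtPrime N) :=
    hCnorm N
  haveI := hXd
  haveI := hXi
  -- algebras
  letI aX : Algebra (Localization.AtPrime n0) (Localization.AtPrime N) :=
    (Localization.localRingHom n0 N j.toRingHom hn0N).toAlgebra
  letI aR : Algebra (Localization.AtPrime n0) (Localization.AtPrime 𝔲) :=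
    (Localization.localRingHom n0 𝔲 (algebraMap B (B ⊗[A] U)) hn0u).toAlgebra
  haveI : IsLocalHom (algebraMap (Localization.AtPrime n0) (Localization.AtPrime 𝔲)) :=
    Localization.isLocalHom_localRingHom _ _ _ hn0u
  letI aL : Algebra (Localization.AtPrime n0) (Localization.AtPrime M0) :=
    (Localization.localRingHom n0 M0 (algebraMap B (B ⊗[A] S)) rfl).toAlgebra
  haveI : IsLocalHom (algebraMap (Localization.AtPrime n0) (Localization.AtPrime M0)) :=
    Localization.isLocalHom_localRingHom _ _ _ rfl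
  haveI : IsScalarTower B (Localization.AtPrime n0) (Localization.AtPrime M0) :=
    IsScalarTower.of_algebraMap_eq fun b =>
      ((Localization.localRingHom_to_map _ _ _ rfl b).trans
        (IsScalarTower.algebraMap_apply B (B ⊗[A] S) (Localization.AtPrime M0) b).symm).symm
  have hL : IsEtLike (Localization.AtPrime n0) (Localization.AtPrime M0) :=
    Hens.isEtLike_localization_tensor h M0 (Localization.AtPrime M0)
  haveI : Algebra.IsSeparable (ResidueField (Localization.AtPrime n0)) (ResidueField (Localization.AtPrime M0)) :=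
    isSeparable_residue_tensor M0
  -- henselian
  have hsurj : Function.Surjective (algebraMap (B ⊗[A] U) (Localization.AtPrime 𝔲)) := fun z => by
    obtain ⟨a, s, rfl⟩ := IsLocalization.exists_mk'_eq 𝔲.primeCompl z
    have hu : IsUnit ((s : B ⊗[A] U) * ei i + (1 - ei i)) := by
      by_contra hnu
      obtain ⟨Q, hQ, hsQ⟩ := exists_max_ideal_of_mem_nonunits hnu
      by_cases hQu : Q = 𝔲
      · subst hQu
        refine (hQ.isPrime.mem_or_mem ?_ : (s : B ⊗[A] U) ∈ Q ∨ ei i ∈ Q).elim s.2 hi
        rw [show (s : B ⊗[A] U) * ei i = (s : B ⊗[A] U) * ei i + (1 - ei i) - (1 - ei i) by ring]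
        exact sub_mem hsQ he1
      · have := sub_mem hsQ (Ideal.mul_mem_left Q (s : B ⊗[A] U) (honly Q hQ hQu))
        rw [add_sub_cancel_left] at this
        have := add_mem this (honly Q hQ hQu)
        rw [sub_add_cancel] at this
        exact hQ.ne_top ((Ideal.eq_top_iff_one _).2 this)
    obtain ⟨v, hv⟩ := hu.exists_right_inv
    refine ⟨a * (ei i * v), ?_⟩
    rw [IsLocalization.eq_mk'_iff_mul_eq, ← map_mul,
      IsLocalization.eq_iff_exists 𝔲.primeCompl (Localization.AtPrime 𝔲)]
    refine ⟨⟨ei i, hi⟩, ?_⟩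
    show ei i * (a * (ei i * v) * s) = ei i * a
    linear_combination (ei i * a) * hv + (a * v) * (hei.idem i).eq
  letI : Algebra U (Localization.AtPrime 𝔲) :=
    ((algebraMap (B ⊗[A] U) (Localization.AtPrime 𝔲)).comp (algebraMap U (B ⊗[A] U))).toAlgebra
  haveI : Algebra.IsIntegral U (Localization.AtPrime 𝔲) := ⟨fun z => by
    obtain ⟨w, rfl⟩ := hsurj z
    obtain ⟨q, hq, hqw⟩ := Algebra.IsIntegral.isIntegral (R := U) w
    exact ⟨q, hq, by
      rw [RingHom.algebraMap_toAlgebra, ← Polynomial.hom_eval₂, hqw, map_zero]⟩⟩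
  haveI : HenselianLocalRing (Localization.AtPrime 𝔲) :=
    StrictHens.Basic.henselianLocalRing_of_integral (R := U)
  -- residues
  have hrv : ∀ v : Localization.AtPrime N, ∃ r : Localization.AtPrime 𝔲,
      ∀ (M : Ideal (B ⊗[A] S)) [M.IsPrime] (hM : M.IsMaximal) (hu : M.comap ((Algebra.TensorProduct.map (AlgHom.id A B) U.val)).toRingHom = 𝔲),
        Localization.localRingHom N M (ψ).toRingHom (hN M hM hu) v -
          Localization.localRingHom 𝔲 M ((Algebra.TensorProduct.map (AlgHom.id A B) U.val)).toRingHom hu.symm r ∈ maximalIdeal (Localization.AtPrime M) := by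
    intro v
    obtain ⟨y, s, rfl⟩ := IsLocalization.exists_mk'_eq N.primeCompl v
    refine ⟨IsLocalization.mk' _ (pv y) (⟨pv s, fun hm => s.2 ((hNmem M0 hM0 hM0u s).2 hm)⟩ : 𝔲.primeCompl),
      fun M _ hM hu => ?_⟩
    rw [← residue_eq_zero_iff, map_sub, sub_eq_zero]
    let π : B ⊗[A] S →+* ResidueField (Localization.AtPrime M) := (residue _).comp (algebraMap _ _)
    have hπ : ∀ y, π (ψ y) = π ((Algebra.TensorProduct.map (AlgHom.id A B) U.val) (pv y)) := fun y => by
      rw [← sub_eq_zero, ← map_sub]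
      exact (residue_eq_zero_iff _).2 ((IsLocalization.AtPrime.to_map_mem_maximal_iff _ M _).2 (hpv y M hM))
    have hne : π ((Algebra.TensorProduct.map (AlgHom.id A B) U.val) (pv s)) ≠ 0 := (residue_ne_zero_iff_isUnit _).2
      ((IsLocalization.AtPrime.isUnit_to_map_iff (Localization.AtPrime M) M _).2
        fun hm => s.2 ((hNmem M0 hM0 hM0u s).2 (show pv s ∈ 𝔲 by rw [← hu]; exact hm)))
    apply mul_right_cancel₀ hne
    refine Eq.trans ?_ (Eq.trans (hπ y) ?_)
    · rw [← hπ]
      show residue _ _ * residue _ (algebraMap _ _ ((ψ).toRingHom (s : _))) =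
        residue _ (algebraMap _ _ ((ψ).toRingHom y))
      rw [← map_mul, ← Localization.localRingHom_to_map N M (ψ).toRingHom (hN M hM hu), ← map_mul,
        IsLocalization.mk'_spec, Localization.localRingHom_to_map]
    · show residue _ (algebraMap _ _ (((Algebra.TensorProduct.map (AlgHom.id A B) U.val)).toRingHom (pv y))) =
        residue _ _ * residue _ (algebraMap _ _ (((Algebra.TensorProduct.map (AlgHom.id A B) U.val)).toRingHom (pv s)))
      rw [← map_mul, ← Localization.localRingHom_to_map 𝔲 M ((Algebra.TensorProduct.map (AlgHom.id A B) U.val)).toRingHom hu.symm (pv s), ← map_mul]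
      erw [IsLocalization.mk'_spec]
      rw [Localization.localRingHom_to_map]
  choose rv hrv using hrv
  let iX : Localization.AtPrime N →ₐ[Localization.AtPrime n0] Localization.AtPrime M0 :=
    { toRingHom := Localization.localRingHom N M0 (ψ).toRingHom (hN M0 hM0 hM0u)
      commutes' := fun z => localRingHom_tri n0 N M0 _ _ _ hn0N _ rfl hjl z }
  haveI : IsLocalHom iX.toRingHom := Localization.isLocalHom_localRingHom _ _ _ (hN M0 hM0 hM0u)
  let iR : Localization.AtPrime 𝔲 →ₐ[Localization.AtPrime n0] Localization.AtPrime M0 :=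
    { toRingHom := Localization.localRingHom 𝔲 M0 ((Algebra.TensorProduct.map (AlgHom.id A B) U.val)).toRingHom hM0u.symm
      commutes' := fun z => localRingHom_tri n0 𝔲 M0 _ _ _ hn0u _ rfl hiUl z }
  haveI : IsLocalHom iR.toRingHom := Localization.isLocalHom_localRingHom _ _ _ hM0u.symm
  have hiXinj : Function.Injective iX := by
    refine (injective_iff_map_eq_zero _).2 fun z hz => ?_
    obtain ⟨y, s, rfl⟩ := IsLocalization.exists_mk'_eq N.primeCompl z
    have h1 : algebraMap (B ⊗[A] S) (Localization.AtPrime M0) (ψ y) = 0 := by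
      rw [show ψ y = (ψ).toRingHom y from rfl,
        ← Localization.localRingHom_to_map N M0 (ψ).toRingHom (hN M0 hM0 hM0u),
        ← IsLocalization.mk'_spec (Localization.AtPrime N) y s, map_mul]
      show iX _ * _ = 0
      rw [hz, zero_mul]
    obtain ⟨⟨t, ht⟩, htz⟩ := (IsLocalization.map_eq_zero_iff M0.primeCompl _ _).1 h1
    obtain ⟨c, hc, hcy⟩ := hψ M0 hM0.isPrime t ht y htz
    rw [IsLocalization.mk'_eq_zero_iff]
    exact ⟨⟨c, hc⟩, hcy⟩
  obtain ⟨E, σ, hxE, hσ⟩ := exists_lift hL iX hiXinj iR rv (fun v => hrv v M0 hM0 hM0u)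
    (algebraMap _ (Localization.AtPrime N) x)
  obtain ⟨p, hp⟩ := hsurj (σ ⟨_, hxE⟩)
  refine ⟨ei i, ei i * p, hi, sub_eq_zero.1 (eq_zero_of_forall_maximal _ fun M hM => ?_)⟩
  rw [map_mul, ← mul_sub]
  by_cases hu : M.comap ((Algebra.TensorProduct.map (AlgHom.id A B) U.val)).toRingHom = 𝔲
  swap
  · exact hother M hM hu _
  haveI := hM.isPrime
  letI : Algebra (Localization.AtPrime n0) (Localization.AtPrime M) :=
    (Localization.localRingHom n0 M (algebraMap B (B ⊗[A] S)) (hn0 M hM hu)).toAlgebra
  let iX' : Localization.AtPrime N →ₐ[Localization.AtPrime n0] Localization.AtPrime M :=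
    { toRingHom := Localization.localRingHom N M (ψ).toRingHom (hN M hM hu)
      commutes' := fun z => localRingHom_tri n0 N M _ _ _ hn0N _ (hn0 M hM hu) hjl z }
  let iR' : Localization.AtPrime 𝔲 →ₐ[Localization.AtPrime n0] Localization.AtPrime M :=
    { toRingHom := Localization.localRingHom 𝔲 M ((Algebra.TensorProduct.map (AlgHom.id A B) U.val)).toRingHom hu.symm
      commutes' := fun z => localRingHom_tri n0 𝔲 M _ _ _ hn0u _ (hn0 M hM hu) hiUl z }
  haveI : IsLocalHom iR'.toRingHom := Localization.isLocalHom_localRingHom _ _ _ hu.symm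
  have key : algebraMap _ (Localization.AtPrime M) (ψ x - (Algebra.TensorProduct.map (AlgHom.id A B) U.val) p) = 0 := by
    rw [map_sub, sub_eq_zero]
    have h1 := hσ (Localization.AtPrime M) iX' iR' (fun v => hrv v M hM hu) ⟨_, hxE⟩
    rw [← hp] at h1
    exact ((Localization.localRingHom_to_map _ _ _ hu.symm p).symm.trans
      (h1.trans (Localization.localRingHom_to_map _ _ _ (hN M hM hu) x))).symm
  obtain ⟨⟨t, ht⟩, htz⟩ := (IsLocalization.map_eq_zero_iff M.primeCompl _ _).1 key
  exact ⟨t, ht, by rw [mul_left_comm, htz, mul_zero]⟩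

end near

/-- The kernel at a prime is killed outside of it. -/
theorem toP_separates (h : IsEtLike A S) (D : Subalgebra A S) (M : Ideal (A'' ⊗[A] S)) (hM : M.IsPrime)
    (t : A'' ⊗[A] S) (ht : t ∉ M) (y : (integralClosure D (FractionRing D)).restrictScalars A)
    (hty : t * toP h D y = 0) : ∃ s, toP h D s ∉ M ∧ s * y = 0 := by
  haveI := (finite_minimalPrimes_subalgebra D h).to_subtype
  haveI := isReduced_subalgebra D h
  obtain ⟨y', hy'⟩ : ∃ y' : FractionRing D, (y : FractionRing D) * y * y' = y := by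
    let e := RedNorm.piEquiv D
    refine ⟨e.symm fun q => (e (y : FractionRing D) q)⁻¹, e.injective ?_⟩
    rw [map_mul, map_mul, AlgEquiv.apply_symm_apply]
    funext q
    by_cases hq : e (y : FractionRing D) q = 0
    · simp [hq]
    · simp [hq]
  have hεi : IsIntegral D ((y : FractionRing D) * y') := ⟨Polynomial.X ^ 2 - Polynomial.X,
    Polynomial.monic_X_pow_sub (by rw [Polynomial.degree_X]; exact Nat.one_lt_cast.2 one_lt_two), by
    rw [Polynomial.eval₂_sub, Polynomial.eval₂_X_pow, Polynomial.eval₂_X]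
    linear_combination y' * hy'⟩
  let ε : (integralClosure D (FractionRing D)).restrictScalars A := ⟨(y : FractionRing D) * y', hεi⟩
  have hεM : toP h D ε ∈ M := by
    refine (hM.mem_or_mem (show t * toP h D ε ∈ M from ?_)).resolve_left ht
    rw [show t * toP h D ε = 0 from toFS_injective h (by
      have h2 := congrArg (toFS h) hty
      rw [map_mul, toFS_toP, map_zero] at h2
      rw [map_mul, toFS_toP, map_zero, show (ε : FractionRing D) = (y : FractionRing D) * y' from rfl, map_mul,
        ← mul_assoc, h2, zero_mul])]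
    exact zero_mem _
  refine ⟨1 - ε, fun hh => hM.ne_top ((Ideal.eq_top_iff_one _).2 ?_), Subtype.ext ?_⟩
  · have := M.add_mem hh hεM
    rwa [← map_add, sub_add_cancel, map_one] at this
  · show (1 - (y : FractionRing D) * y') * (y : FractionRing D) = 0
    linear_combination -hy'

/-- Residually trivial normalization forces a subring into the henselian ind-étale part. -/
theorem le_of_residue (h : IsEtLike A S) (hA'' : Module.Finite A A'') (D U : Subalgebra A S)
    [HenselianLocalRing U] [IsLocalHom (algebraMap U S)]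
    (hsat : ∀ a ∈ nonZeroDivisors A, ∀ x : S, algebraMap A S a * x ∈ U → x ∈ U)
    (hs : ∀ y, ∃ p : A'' ⊗[A] U, ∀ M : Ideal (A'' ⊗[A] S), M.IsMaximal → toP h D y - iU U p ∈ M) :
    D ≤ U := by
  classical
  intro d hd
  let y : (integralClosure D (FractionRing D)).restrictScalars A :=
    ⟨algebraMap D (FractionRing D) ⟨d, hd⟩, (integralClosure D (FractionRing D)).algebraMap_mem ⟨d, hd⟩⟩
  let J : Ideal (A'' ⊗[A] U) :=
    { carrier := {e | ∃ p, iU U e * toP h D y = iU U p}
      add_mem' := by
        rintro a b ⟨p, hp⟩ ⟨q, hq⟩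
        exact ⟨p + q, by rw [map_add, map_add, add_mul, hp, hq]⟩
      zero_mem' := ⟨0, by rw [map_zero, zero_mul]⟩
      smul_mem' := by
        rintro c a ⟨p, hp⟩
        exact ⟨c * p, by rw [smul_eq_mul, map_mul, map_mul, mul_assoc, hp]⟩ }
  have hJ : J = ⊤ := by
    by_contra hne
    obtain ⟨𝔲, h𝔲, hle⟩ := J.exists_le_maximal hne
    haveI := h𝔲
    haveI := hA''
    haveI := (minimalPrimes.finite_of_isNoetherianRing A).to_subtype
    haveI := (finite_minimalPrimes_subalgebra D h).to_subtype
    haveI := isReduced_subalgebra D h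
    obtain ⟨e, p, he, hep⟩ := exists_mem_near h U
      (fun n hn => @RedNorm.isDomain_isIntegrallyClosed_localization A _ _ _ n hn)
      (C := (integralClosure D (FractionRing D)).restrictScalars A)
      (fun n hn => @RedNorm.isDomain_isIntegrallyClosed_localization D _ _ _ n hn)
      (jD h D) (toP h D) (toP_jD h D) (toP_separates h D) hs y 𝔲
    exact he (hle ⟨p, hep⟩)
  obtain ⟨p, hp⟩ : (1 : A'' ⊗[A] U) ∈ J := by rw [hJ]; trivial
  rw [map_one, one_mul, toP_algebraMap] at hp
  obtain ⟨c, hc, hcy⟩ := RedNorm.exists_nonZeroDivisor_smul_mem A hA''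
  refine hsat c hc d ?_
  have key : ∀ p : A'' ⊗[A] U, ∃ u : U, algebraMap A (FractionRing S) c * toFS h (iU U p) =
      algebraMap S (FractionRing S) (u : S) := fun p => by
    induction p using TensorProduct.induction_on with
    | zero => exact ⟨0, by simp⟩
    | add p q hp hq =>
      obtain ⟨u, hu⟩ := hp
      obtain ⟨v, hv⟩ := hq
      exact ⟨u + v, by rw [map_add, map_add, mul_add, hu, hv, Subalgebra.coe_add, map_add]⟩
    | tmul a u =>
      obtain ⟨r, hr⟩ := hcy a
      refine ⟨r • u, ?_⟩
      rw [show toFS h (iU U (a ⊗ₜ u)) = ιK h a * algebraMap S (FractionRing S) (u : S) by simp [toFS, iU],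
        ← mul_assoc, show algebraMap A (FractionRing S) c * ιK h a = algebraMap A (FractionRing S) r by
          rw [← Algebra.smul_def, ← map_smul, ← (ιK h).commutes r]
          exact congrArg (ιK h) (congrArg Subtype.val hr).symm]
      rw [Subalgebra.coe_smul, Algebra.smul_def, map_mul, ← IsScalarTower.algebraMap_apply]
  obtain ⟨u, hu⟩ := key p
  rw [← hp, show toFS h ((1 : A'') ⊗ₜ[A] d) = algebraMap S (FractionRing S) d by simp [toFS],
    IsScalarTower.algebraMap_apply A S (FractionRing S), ← map_mul] at hu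
  rw [IsFractionRing.injective S (FractionRing S) hu]
  exact u.2

end Groth.Agent.Hensel.NormRes
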