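import Groth.Agent.Hensel.EssSubDesc
import Groth.Agent.Hensel.EtLikeNormal
import Mathlib.RingTheory.Algebraic.Integral

/-!
Normal local subrings of strict henselizations of normal local domains.
-/

set_option autoImplicit false
universe u

open IsLocalRing TensorProduct

namespace Groth.Agent.Hensel

/-- An element multiplying a unit-valued tensor into an extended ideal lies in the ideal up to a unit. -/
theorem exists_unit_mul_mem {A P C S : Type u} [CommRing A] [CommRing P] [CommRing C] [CommRing S]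
    [IsLocalRing S] [Algebra A P] [Algebra A C] [Algebra A S] [Module.Flat A C] (ι : P →ₐ[A] S)
    (θC : C →ₐ[A] S) (I : Ideal P) (y : P) (z : P ⊗[A] C)
    (hz : (y ⊗ₜ 1) * z ∈ I.map (Algebra.TensorProduct.includeLeft : P →ₐ[A] P ⊗[A] C))
    (hu : IsUnit (Algebra.TensorProduct.productMap ι θC z)) :
    ∃ w : P, IsUnit (ι w) ∧ y * w ∈ I := by
  let f : P →ₗ[A] P ⧸ I := (Ideal.Quotient.mkₐ A I).toLinearMap.comp (LinearMap.mulLeft A y)
  let Ann : Submodule A P := LinearMap.ker f
  let Q := Algebra.TensorProduct.map (Ideal.Quotient.mkₐ A I) (AlgHom.id A C)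
  have hQ : ∀ z, f.rTensor C z = Q ((y ⊗ₜ 1) * z) := fun z => by
    induction z using TensorProduct.induction_on with
    | zero => simp
    | add p q hp hq => simp only [mul_add, map_add, hp, hq]
    | tmul p q => simp [Q, f]
  have hex : Function.Exact (Ann.subtype.rTensor C) (f.rTensor C) :=
    Module.Flat.rTensor_exact C (LinearMap.exact_subtype_ker_map _)
  obtain ⟨z', hz'⟩ : z ∈ LinearMap.range (Ann.subtype.rTensor C) := by
    refine (hex _).1 ?_
    rw [hQ]
    exact (Algebra.TensorProduct.rTensor_ker (C := C) (Ideal.Quotient.mkₐ A I) Ideal.Quotient.mk_surjective).ge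
      (by rw [show RingHom.ker (Ideal.Quotient.mkₐ A I) = I from Ideal.mk_ker]; exact hz)
  by_contra hne
  have h1 : ∀ z, Algebra.TensorProduct.productMap ι θC (Ann.subtype.rTensor C z) ∈ maximalIdeal S := fun z => by
    induction z using TensorProduct.induction_on with
    | zero => rw [map_zero, map_zero]; exact zero_mem _
    | add p q hp hq => rw [map_add, map_add]; exact add_mem hp hq
    | tmul p q =>
      rw [LinearMap.rTensor_tmul, Algebra.TensorProduct.productMap_apply_tmul]
      refine Ideal.mul_mem_right _ _ fun hu => hne ⟨p, hu, ?_⟩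
      exact Ideal.Quotient.eq_zero_iff_mem.1 p.2
  have h2 := h1 z'
  rw [hz'] at h2
  exact (mem_maximalIdeal _).1 h2 hu

/-- Elements of a flat algebra with finite generic fibre are algebraic. -/
theorem isAlgebraic_of_finite_genericFibre {A B : Type u} [CommRing A] [IsDomain A] [CommRing B] [Algebra A B]
    [Module.Flat A B] [Module.Finite (FractionRing A) (FractionRing A ⊗[A] B)] (b : B) : IsAlgebraic A b := by
  have h1 : IsAlgebraic (FractionRing A) ((1 : FractionRing A) ⊗ₜ[A] b) := (IsIntegral.of_finite _ _).isAlgebraic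
  obtain ⟨p, hp0, hp⟩ := (IsFractionRing.isAlgebraic_iff A (FractionRing A) (FractionRing A ⊗[A] B)).2 h1
  refine ⟨p, hp0, ?_⟩
  have h2 : (Algebra.TensorProduct.includeRight : B →ₐ[A] FractionRing A ⊗[A] B) (Polynomial.aeval b p) = 0 := by
    rw [← Polynomial.aeval_algHom_apply]; exact hp
  exact Algebra.TensorProduct.includeRight_injective (A := FractionRing A)
    (IsFractionRing.injective A (FractionRing A)) (h2.trans (map_zero _).symm)

namespace IsEtLike

variable {A S : Type u} [CommRing A] [IsLocalRing A] [IsDomain A] [IsIntegrallyClosed A] [CommRing S]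
variable [IsLocalRing S] [Algebra A S] [IsLocalHom (algebraMap A S)]
variable [Algebra.IsSeparable (ResidueField A) (ResidueField S)]

/-- A normal local subring finitely generated up to torsion is essentially étale. -/
theorem isEssentiallyEtale_of_normal (h : IsEtLike A S) (D : Subalgebra A S) [IsLocalRing D]
    [IsLocalHom (algebraMap D S)] [IsDomain D] [IsIntegrallyClosed D] (s : Finset S) (hs : (s : Set S) ⊆ D)
    (hgen : ∀ x ∈ D, ∃ a : A, a ≠ 0 ∧ algebraMap A S a * x ∈ Algebra.adjoin A (s : Set S)) :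
    EGA4loc.IsEssentiallyEtale A D := by
  classical
  obtain ⟨hSdom, -⟩ := h.isDomain_and_isIntegrallyClosed
  haveI := hSdom
  have hreg : ∀ a : A, a ≠ 0 → algebraMap A S a ∈ nonZeroDivisors S := fun a ha =>
    h.algebraMap_mem_nonZeroDivisors (mem_nonZeroDivisors_of_ne_zero ha)
  obtain ⟨E, hE, hsE⟩ := h.exists_essSub s
  have hDE : D ≤ E := fun x hx => by
    obtain ⟨a, ha, hax⟩ := hgen x hx
    exact h.mem_of_mul_mem hE (E.algebraMap_mem a) (hreg a ha) (Algebra.adjoin_le hsE hax)
  haveI := hE.isLocalRing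
  haveI := hE.isLocalHom
  haveI := (isEtLike_of_isEssentiallyEtale hE.essEtale).flat
  haveI : IsLocalHom (algebraMap A D) := ⟨fun a ha => isUnit_of_map_unit (algebraMap A S) a (ha.map D.val)⟩
  obtain ⟨C, _, _, qC, _, hC, hqC, ⟨e⟩⟩ := hE.essEtale
  haveI := hC
  let θC : C →ₐ[A] S := E.val.comp (e.symm.toAlgHom.comp (IsScalarTower.toAlgHom A C _))
  have hsurjE : ∀ x ∈ E, ∃ c u : C, IsUnit (θC u) ∧ x * θC u = θC c := fun x hx => by
    obtain ⟨c, u, hcu⟩ := IsLocalization.exists_mk'_eq qC.primeCompl (e ⟨x, hx⟩)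
    refine ⟨c, u, ((IsLocalization.map_units (Localization.AtPrime qC) u).map e.symm).map E.val, ?_⟩
    have h1 := congrArg (E.val ∘ e.symm) (IsLocalization.mk'_spec (Localization.AtPrime qC) c u)
    simp only [Function.comp_apply, map_mul, hcu, e.symm_apply_apply] at h1
    exact h1
  let μ : D ⊗[A] C →ₐ[A] S := Algebra.TensorProduct.productMap D.val θC
  have hμD : ∀ d : D, μ (algebraMap D (D ⊗[A] C) d) = d := fun d => by
    show μ (d ⊗ₜ 1) = (d : S)
    rw [Algebra.TensorProduct.productMap_apply_tmul, map_one, mul_one]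
    rfl
  let q : Ideal (D ⊗[A] C) := (maximalIdeal S).comap μ.toRingHom
  let X := Localization.AtPrime q
  have hX : EGA4loc.IsEssentiallyEtale D X := by
    refine ⟨D ⊗[A] C, inferInstance, inferInstance, q, inferInstance, inferInstance, ?_, ⟨AlgEquiv.refl⟩⟩
    ext d
    show μ (algebraMap D (D ⊗[A] C) d) ∈ maximalIdeal S ↔ _
    rw [hμD, mem_maximalIdeal, mem_maximalIdeal, mem_nonunits_iff, mem_nonunits_iff]
    exact not_congr (isUnit_map_iff (algebraMap D S) d)
  have hXe := isEtLike_of_isEssentiallyEtale hX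
  obtain ⟨hXdom, -⟩ := hXe.isDomain_and_isIntegrallyClosed
  haveI := hXdom
  have hunit : ∀ z : q.primeCompl, IsUnit (μ z) := fun z => not_not.1 fun hne => z.2 hne
  -- algebraicity
  haveI hAD : IsArtinianRing (FractionRing A) := inferInstance
  haveI := finite_genericFibre hE.essEtale
  haveI : Algebra.QuasiFinite A E := by
    exact (Algebra.QuasiFinite.iff_of_algEquiv e).2 inferInstance
  haveI : Module.Finite (FractionRing A) (FractionRing A ⊗[A] C) := Module.Finite.of_quasiFinite
  have halgD : ∀ d : D, IsAlgebraic A d := fun d => by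
    obtain ⟨p, hp0, hp⟩ := isAlgebraic_of_finite_genericFibre (A := A) (Subalgebra.inclusion hDE d)
    refine ⟨p, hp0, Subalgebra.inclusion_injective hDE ?_⟩
    rw [map_zero, ← Polynomial.aeval_algHom_apply]; exact hp
  let toX : D ⊗[A] C →ₐ[A] X := IsScalarTower.toAlgHom A (D ⊗[A] C) X
  have hAX : Function.Injective (algebraMap A X) := by
    rw [IsScalarTower.algebraMap_eq A D X]
    exact hXe.algebraMap_injective.comp fun a b hab => by
      have h1 := congrArg Subtype.val hab
      exact (h.algebraMap_injective h1)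
  have halg : ∀ x, IsAlgebraic A (toX x) := fun x => by
    induction x using TensorProduct.induction_on with
    | zero => rw [map_zero]; exact isAlgebraic_zero
    | add a b ha hb => rw [map_add]; exact IsAlgebraic.add (R := A) (S := X) ha hb
    | tmul d c =>
      have h1 : IsAlgebraic A (toX (d ⊗ₜ 1)) := by
        obtain ⟨p, hp0, hp⟩ := halgD d
        refine ⟨p, hp0, ?_⟩
        rw [show toX (d ⊗ₜ 1) = (toX.comp (Algebra.TensorProduct.includeLeft : D →ₐ[A] D ⊗[A] C)) d from rfl,
          Polynomial.aeval_algHom_apply, hp, map_zero]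
      have h2 : IsAlgebraic A (toX (1 ⊗ₜ c)) := by
        obtain ⟨p, hp0, hp⟩ := isAlgebraic_of_finite_genericFibre (A := A) c
        refine ⟨p, hp0, ?_⟩
        rw [show toX (1 ⊗ₜ c) = (toX.comp (Algebra.TensorProduct.includeRight : C →ₐ[A] D ⊗[A] C)) c from rfl,
          Polynomial.aeval_algHom_apply, hp, map_zero]
      rw [show d ⊗ₜ[A] c = (d ⊗ₜ 1) * (1 ⊗ₜ c) by simp, map_mul]
      exact IsAlgebraic.mul (R := A) (S := X) h1 h2
  have hkill : ∀ x, μ x = 0 → ∃ v, IsUnit (μ v) ∧ v * x = 0 := fun x hx => by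
    have h0 : toX x = 0 := by
      by_contra hne
      obtain ⟨p, hp0, hp⟩ := (halg x).exists_nonzero_coeff_and_aeval_eq_zero (mem_nonZeroDivisors_of_ne_zero hne)
      refine hp0 ?_
      have hψ : ∀ z, IsUnit (μ z) → IsUnit (toX z) := fun z hz =>
        IsLocalization.map_units X (⟨z, fun hzq => (mem_maximalIdeal _).1 hzq hz⟩ : q.primeCompl)
      let ψ : X →+* S := IsLocalization.lift hunit
      have h3 : ψ (Polynomial.aeval (toX x) p) = algebraMap A S (p.coeff 0) := by
        rw [Polynomial.aeval_algHom_apply, show ψ (toX (Polynomial.aeval x p)) = μ (Polynomial.aeval x p) from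
          IsLocalization.lift_eq hunit _, ← Polynomial.aeval_algHom_apply, hx, Polynomial.coeff_zero_eq_aeval_zero']
      rw [hp, map_zero] at h3
      exact h.algebraMap_injective (h3.symm.trans (map_zero _).symm)
    obtain ⟨⟨v, hv⟩, hvx⟩ := (IsLocalization.map_eq_zero_iff q.primeCompl X x).1 h0
    exact ⟨v, hunit ⟨v, hv⟩, hvx⟩
  -- one element kills the kernel
  let K := FractionRing A
  haveI : Algebra.QuasiFinite E (E ⊗[A] C) := inferInstance
  haveI : Algebra.QuasiFinite A (E ⊗[A] C) := Algebra.QuasiFinite.trans A E (E ⊗[A] C)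
  haveI : Module.Finite K (K ⊗[A] (E ⊗[A] C)) :=
    Module.Finite.of_quasiFinite (R := FractionRing A) (S := FractionRing A ⊗[A] (E ⊗[A] C))
  haveI : Module.Finite K (K ⊗[A] (D ⊗[A] C)) := by
    let i : D ⊗[A] C →ₗ[A] E ⊗[A] C := (Subalgebra.inclusion hDE).toLinearMap.rTensor C
    have hi : Function.Injective i :=
      Module.Flat.rTensor_preserves_injective_linearMap _ (Subalgebra.inclusion_injective hDE)
    exact Module.Finite.of_injective (LinearMap.baseChange K i) (Module.Flat.lTensor_preserves_injective_linearMap i hi)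
  let J : Submodule A (D ⊗[A] C) := LinearMap.ker μ.toLinearMap
  let SJ : Set (K ⊗[A] (D ⊗[A] C)) := (fun z => (1 : K) ⊗ₜ[A] z) '' (J : Set (D ⊗[A] C))
  obtain ⟨G, hGsub, hG⟩ := (Submodule.fg_span_iff_fg_span_finset_subset (R := K) SJ).1
    (IsNoetherian.noetherian (Submodule.span K SJ))
  choose g hgJ hg using fun y : G => hGsub y.2
  choose v hv hvg using fun y : G => hkill (g y) (hgJ y)
  let v₀ := ∏ y, v y
  have hv₀ : IsUnit (μ v₀) := by
    rw [map_prod]
    exact IsUnit.prod_univ_iff.2 hv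
  have hinjK : Function.Injective fun z : D ⊗[A] C => (1 : K) ⊗ₜ[A] z := by
    intro z z' hzz
    have hDC : ∀ a : A, a ≠ 0 → ∀ w : D ⊗[A] C, a • w = 0 → w = 0 := fun a ha w hw => by
      have hi : Function.Injective (LinearMap.lsmul A D a) := fun y y' hyy => Subtype.ext (by
        have h1 := congrArg Subtype.val hyy
        simp only [LinearMap.lsmul_apply, SetLike.val_smul, Algebra.smul_def] at h1
        exact (mul_cancel_left_mem_nonZeroDivisors (hreg a ha)).1 h1)
      have h2 : ∀ w, (LinearMap.lsmul A D a).rTensor C w = a • w := fun w => by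
        induction w using TensorProduct.induction_on with
        | zero => simp
        | add p q hp hq => rw [map_add, hp, hq, smul_add]
        | tmul p q => rw [LinearMap.rTensor_tmul, LinearMap.lsmul_apply, TensorProduct.smul_tmul']
      exact Module.Flat.rTensor_preserves_injective_linearMap (M := C) _ hi (by rw [h2, hw, map_zero])
    have h3 : IsLocalizedModule (nonZeroDivisors A) (TensorProduct.mk A K (D ⊗[A] C) 1) :=
      (isLocalizedModule_iff_isBaseChange (nonZeroDivisors A) K _).2 (TensorProduct.isBaseChange A (D ⊗[A] C) K)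
    obtain ⟨c, hc⟩ := (IsLocalizedModule.eq_iff_exists (nonZeroDivisors A) (TensorProduct.mk A K (D ⊗[A] C) 1)).1 hzz
    exact sub_eq_zero.1 (hDC c (nonZeroDivisors.ne_zero c.2) _ (by rw [smul_sub]; exact sub_eq_zero.2 hc))
  have hv₀x : ∀ x, μ x = 0 → v₀ * x = 0 := by
    intro x hx
    apply hinjK
    let F : K ⊗[A] (D ⊗[A] C) →ₗ[K] K ⊗[A] (D ⊗[A] C) :=
      LinearMap.baseChange K (LinearMap.mulLeft A v₀)
    have hF : ∀ z, F ((1 : K) ⊗ₜ z) = (1 : K) ⊗ₜ (v₀ * z) := fun z => rfl
    show (1 : K) ⊗ₜ[A] (v₀ * x) = (1 : K) ⊗ₜ[A] (0 : D ⊗[A] C)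
    rw [TensorProduct.tmul_zero, ← hF]
    have hmem : (1 : K) ⊗ₜ[A] x ∈ Submodule.span K (G : Set (K ⊗[A] (D ⊗[A] C))) :=
      hG ▸ Submodule.subset_span ⟨x, hx, rfl⟩
    refine Submodule.span_induction (p := fun z _ => F z = 0) ?_ (map_zero _)
      (fun a b _ _ ha hb => by rw [map_add, ha, hb, add_zero])
      (fun r a _ ha => by rw [map_smul, ha, smul_zero]) hmem
    intro y hy
    rw [show y = (1 : K) ⊗ₜ[A] g ⟨y, hy⟩ from (hg ⟨y, hy⟩).symm]
    show F ((1 : K) ⊗ₜ g ⟨y, hy⟩) = 0
    rw [hF, show v₀ = v ⟨y, hy⟩ * ∏ y' ∈ Finset.univ.erase ⟨y, hy⟩, v y' from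
      (Finset.mul_prod_erase _ _ (Finset.mem_univ _)).symm, mul_right_comm, hvg, zero_mul, TensorProduct.tmul_zero]
  -- essentially of finite type
  obtain ⟨R₀, hR₀⟩ := TensorProduct.exists_finset v₀
  let sD : Finset D := R₀.image Prod.fst ∪ s.attach.image fun z => ⟨z.1, hs z.2⟩
  haveI : Algebra.EssFiniteType A D := by
    rw [Algebra.essFiniteType_iff]
    refine ⟨sD, fun x => ?_⟩
    let P₀ := Algebra.adjoin A (sD : Set D)
    obtain ⟨a, ha, hax⟩ := hgen x x.2
    have hmap : Algebra.adjoin A (s : Set S) ≤ P₀.map D.val := Algebra.adjoin_le fun z hz =>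
      ⟨⟨z, hs hz⟩, Algebra.subset_adjoin (Finset.mem_coe.2 (Finset.mem_union_right _
        (Finset.mem_image.2 ⟨⟨z, hz⟩, Finset.mem_attach _ _, rfl⟩))), rfl⟩
    obtain ⟨y, hy, hyx⟩ := hmap hax
    obtain ⟨c₁, u₁, hu₁, hcu₁⟩ := hsurjE (x : S) (hDE x.2)
    let ιP : P₀ ⊗[A] C →ₐ[A] D ⊗[A] C := Algebra.TensorProduct.map P₀.val (AlgHom.id A C)
    have hιP : Function.Injective ιP :=
      Module.Flat.rTensor_preserves_injective_linearMap (M := C) P₀.val.toLinearMap Subtype.val_injective
    obtain ⟨v₁, hv₁⟩ : ∃ v₁, ιP v₁ = v₀ := by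
      rw [hR₀]
      show _ ∈ ιP.range
      refine sum_mem fun p hp => ?_
      exact ⟨(⟨p.1, Algebra.subset_adjoin (Finset.mem_coe.2 (Finset.mem_union_left _
        (Finset.mem_image_of_mem _ hp)))⟩ : P₀) ⊗ₜ p.2, rfl⟩
    have hrel : v₁ * ((⟨y, hy⟩ : P₀) ⊗ₜ u₁ - algebraMap A P₀ a ⊗ₜ c₁) = 0 := by
      apply hιP
      rw [map_mul, hv₁, map_zero]
      refine hv₀x _ ?_
      rw [map_sub, map_sub]
      show μ (y ⊗ₜ u₁) - μ (algebraMap A D a ⊗ₜ c₁) = 0
      rw [Algebra.TensorProduct.productMap_apply_tmul, Algebra.TensorProduct.productMap_apply_tmul,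
        show D.val (algebraMap A D a) = algebraMap A S a from rfl, ← hcu₁]
      show (y : S) * θC u₁ - algebraMap A S a * ((x : S) * θC u₁) = 0
      rw [show (y : S) = algebraMap A S a * (x : S) from hyx, mul_assoc, sub_self]
    have hz : ((⟨y, hy⟩ : P₀) ⊗ₜ[A] (1 : C)) * (v₁ * ((1 : P₀) ⊗ₜ u₁)) ∈ (Ideal.span {algebraMap A P₀ a}).map
        (Algebra.TensorProduct.includeLeft : P₀ →ₐ[A] P₀ ⊗[A] C) := by
      have h1 : ((⟨y, hy⟩ : P₀) ⊗ₜ[A] (1 : C)) * (v₁ * ((1 : P₀) ⊗ₜ u₁)) = v₁ * (algebraMap A P₀ a ⊗ₜ c₁) := by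
        rw [mul_left_comm, Algebra.TensorProduct.tmul_mul_tmul, mul_one, one_mul]
        exact sub_eq_zero.1 ((mul_sub v₁ _ _).symm.trans hrel)
      rw [h1, show algebraMap A P₀ a ⊗ₜ[A] c₁ = (algebraMap A P₀ a ⊗ₜ 1) * (1 ⊗ₜ c₁) by simp]
      exact Ideal.mul_mem_left _ _ (Ideal.mul_mem_right _ _
        (Ideal.mem_map_of_mem (Algebra.TensorProduct.includeLeft : P₀ →ₐ[A] P₀ ⊗[A] C)
          (Ideal.mem_span_singleton_self (algebraMap A P₀ a))))
    have hu : IsUnit (Algebra.TensorProduct.productMap (D.val.comp P₀.val) θC (v₁ * ((1 : P₀) ⊗ₜ u₁))) := by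
      have hc : ∀ z, Algebra.TensorProduct.productMap (D.val.comp P₀.val) θC z = μ (ιP z) := fun z => by
        induction z using TensorProduct.induction_on with
        | zero => simp
        | add p q hp hq => simp only [map_add, hp, hq]
        | tmul p q => rfl
      rw [map_mul, hc, hc, hv₁]
      refine hv₀.mul ?_
      show IsUnit (μ ((1 : D) ⊗ₜ u₁))
      rw [Algebra.TensorProduct.productMap_apply_tmul, map_one, one_mul]
      exact hu₁
    obtain ⟨w, hw, hwy⟩ := exists_unit_mul_mem (D.val.comp P₀.val) θC (Ideal.span {algebraMap A P₀ a})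
      (⟨y, hy⟩ : P₀) (v₁ * ((1 : P₀) ⊗ₜ u₁)) hz hu
    obtain ⟨p, hp⟩ := Ideal.mem_span_singleton.1 hwy
    refine ⟨w, w.2, isUnit_of_map_unit (algebraMap D S) _ hw, ?_⟩
    have h1 : (y : S) * ((w : D) : S) = algebraMap A S a * ((p : D) : S) :=
      congrArg (fun z : P₀ => ((z : D) : S)) hp
    rw [show (y : S) = algebraMap A S a * (x : S) from hyx, mul_assoc] at h1
    have h2 : x * (w : D) = (p : D) := Subtype.ext ((mul_cancel_left_mem_nonZeroDivisors (hreg a ha)).1 h1)
    rw [h2]
    exact p.2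
  refine h.isEssentiallyEtale_of_essFiniteType D (le_antisymm
    (Ideal.map_le_iff_le_comap.2 fun a ha hu => (mem_maximalIdeal _).1 ha
      (isUnit_of_map_unit (algebraMap A S) a (hu.map D.val))) fun d hd => ?_)
  obtain ⟨c₁, u₁, hu₁, hcu₁⟩ := hsurjE (d : S) (hDE d.2)
  have hc₁ : θC c₁ ∈ (maximalIdeal A).map (algebraMap A S) := by
    rw [h.map_max, ← hcu₁]
    exact Ideal.mul_mem_right _ _ fun hu => (mem_maximalIdeal _).1 hd (isUnit_of_map_unit (algebraMap D S) _ hu)
  obtain ⟨v', hv', hv'c⟩ := h.exists_mul_mem_of_map_mem θC hc₁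
  have hz : (d ⊗ₜ[A] (1 : C)) * (v₀ * ((1 : D) ⊗ₜ (v' * u₁))) ∈ ((maximalIdeal A).map (algebraMap A D)).map
      (Algebra.TensorProduct.includeLeft : D →ₐ[A] D ⊗[A] C) := by
    have h1 : v₀ * (d ⊗ₜ (v' * u₁) - (1 : D) ⊗ₜ (v' * c₁)) = 0 := by
      refine hv₀x _ ?_
      rw [map_sub, Algebra.TensorProduct.productMap_apply_tmul, Algebra.TensorProduct.productMap_apply_tmul,
        map_one, one_mul, map_mul, map_mul]
      show (d : S) * (θC v' * θC u₁) - θC v' * θC c₁ = 0
      rw [← hcu₁, mul_left_comm, sub_self]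
    rw [mul_left_comm, Algebra.TensorProduct.tmul_mul_tmul, mul_one, one_mul,
      sub_eq_zero.1 ((mul_sub v₀ _ _).symm.trans h1)]
    refine Ideal.mul_mem_left _ _ ?_
    have h2 := Ideal.mem_map_of_mem (Algebra.TensorProduct.includeRight : C →ₐ[A] D ⊗[A] C).toRingHom hv'c
    rw [Ideal.map_map, show (Algebra.TensorProduct.includeRight : C →ₐ[A] D ⊗[A] C).toRingHom.comp (algebraMap A C) =
      algebraMap A (D ⊗[A] C) from (Algebra.TensorProduct.includeRight : C →ₐ[A] D ⊗[A] C).comp_algebraMap,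
      IsScalarTower.algebraMap_eq A D (D ⊗[A] C), ← Ideal.map_map] at h2
    exact h2
  have hu : IsUnit (μ (v₀ * ((1 : D) ⊗ₜ (v' * u₁)))) := by
    rw [map_mul]
    refine hv₀.mul ?_
    rw [Algebra.TensorProduct.productMap_apply_tmul, map_one, one_mul, map_mul]
    exact hv'.mul hu₁

  obtain ⟨w, hw, hwd⟩ := exists_unit_mul_mem D.val θC ((maximalIdeal A).map (algebraMap A D)) d
    (v₀ * ((1 : D) ⊗ₜ (v' * u₁))) hz hu
  obtain ⟨w', hw'⟩ := (isUnit_of_map_unit (algebraMap D S) w hw).exists_right_inv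
  have := Ideal.mul_mem_right w' _ hwd
  rwa [mul_assoc, hw', mul_one] at this

end IsEtLike

end Groth.Agent.Hensel

namespace Groth.Agent.Hensel.IsEtLike

variable {A S : Type u} [CommRing A] [IsLocalRing A] [IsDomain A] [IsIntegrallyClosed A] [CommRing S]
variable [IsLocalRing S] [Algebra A S]

/-- Fractions of elements of a subalgebra become integral combinations after scaling by the base. -/
theorem exists_algebraMap_mul_mem (h : IsEtLike A S) (P : Subalgebra A S) {p q x : S} (hp : p ∈ P) (hq : q ∈ P)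
    (hq0 : q ≠ 0) (hx : q * x = p) : ∃ a : A, a ≠ 0 ∧ algebraMap A S a * x ∈ P := by
  haveI := h.isDomain_and_isIntegrallyClosed.1
  have hmin : (minimalPrimes A).Finite := by
    rw [IsDomain.minimalPrimes_eq_singleton_bot]; exact Set.finite_singleton _
  obtain ⟨a, ha, q', hq'⟩ := h.exists_mul_eq_algebraMap hmin P (d := ⟨q, hq⟩)
    (mem_nonZeroDivisors_of_ne_zero fun h0 => hq0 (congrArg Subtype.val h0))
  refine ⟨a, nonZeroDivisors.ne_zero ha, ?_⟩
  rw [← show q * (q' : S) = algebraMap A S a from congrArg Subtype.val hq', mul_right_comm, hx]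
  exact P.mul_mem hp q'.2

variable [IsLocalHom (algebraMap A S)] [Algebra.IsSeparable (ResidueField A) (ResidueField S)]

/-- A normal local subring with finitely generated fraction field is essentially étale. -/
theorem isEssentiallyEtale_of_normal_fg (h : IsEtLike A S) (D : Subalgebra A S) [IsLocalRing D]
    [IsLocalHom (algebraMap D S)] [IsDomain D] [IsIntegrallyClosed D]
    (hfg : ∃ s : Finset D, Subfield.closure (Set.range (algebraMap A (FractionRing D)) ∪
        (algebraMap D (FractionRing D)) '' (s : Set D)) = ⊤) :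
    EGA4loc.IsEssentiallyEtale A D := by
  classical
  obtain ⟨s, hs⟩ := hfg
  refine h.isEssentiallyEtale_of_normal D (s.image Subtype.val)
    (fun z hz => by obtain ⟨w, -, rfl⟩ := Finset.mem_image.1 hz; exact w.2) fun x hx => ?_
  let φ := algebraMap D (FractionRing D)
  have hφ : Function.Injective φ := IsFractionRing.injective D (FractionRing D)
  let P := Algebra.adjoin A (s : Set D)
  have hx' : φ ⟨x, hx⟩ ∈ Subfield.closure (Set.range (algebraMap A (FractionRing D)) ∪ φ '' (s : Set D)) := by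
    rw [hs]; trivial
  obtain ⟨p, hp, q, hq, hpq⟩ := Subfield.mem_closure_iff.1 hx'
  have hsub : Subring.closure (Set.range (algebraMap A (FractionRing D)) ∪ φ '' (s : Set D)) ≤
      P.toSubring.map φ := Subring.closure_le.2 (by
    rintro _ (⟨a, rfl⟩ | ⟨w, hw, rfl⟩)
    · exact ⟨algebraMap A D a, P.algebraMap_mem a, (IsScalarTower.algebraMap_apply A D (FractionRing D) a).symm⟩
    · exact ⟨w, Algebra.subset_adjoin hw, rfl⟩)
  obtain ⟨p', hp', rfl⟩ := hsub hp
  obtain ⟨q', hq', rfl⟩ := hsub hq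
  have hPmap : ∀ w ∈ P, (w : S) ∈ Algebra.adjoin A ((s.image Subtype.val : Finset S) : Set S) := fun w hw => by
    have h1 : D.val w ∈ P.map D.val := ⟨w, hw, rfl⟩
    rw [AlgHom.map_adjoin] at h1
    rw [Finset.coe_image]
    exact h1
  by_cases hq0 : q' = 0
  · refine ⟨1, one_ne_zero, ?_⟩
    rw [hq0, map_zero, div_zero] at hpq
    rw [show x = 0 from congrArg Subtype.val (hφ (hpq.symm.trans (map_zero φ).symm)), mul_zero]
    exact zero_mem _
  refine h.exists_algebraMap_mul_mem _ (hPmap p' hp') (hPmap q' hq') (fun h0 => hq0 (Subtype.ext h0)) ?_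
  have h2 : q' * ⟨x, hx⟩ = p' := hφ (by
    rw [map_mul, ← hpq, mul_div_cancel₀ _ ((map_ne_zero_iff _ hφ).2 hq0)])
  exact congrArg Subtype.val h2

/-- A normal local subring is a directed union of essentially étale subrings. -/
theorem exists_essSub_le_of_normal (h : IsEtLike A S) (D : Subalgebra A S) [IsLocalRing D]
    [IsLocalHom (algebraMap D S)] [IsDomain D] [IsIntegrallyClosed D] (s : Finset S) (hs : (s : Set S) ⊆ D) :
    ∃ D' : Subalgebra A S, D' ≤ D ∧ (s : Set S) ⊆ D' ∧ IsEssSub D' := by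
  classical
  haveI := h.isDomain_and_isIntegrallyClosed.1
  let F := FractionRing S
  let φ : S →ₐ[A] F := IsScalarTower.toAlgHom A S F
  have hφ : Function.Injective φ := IsFractionRing.injective S F
  let L : Subfield F := Subfield.closure (Set.range (algebraMap A F) ∪ φ '' (s : Set S))
  have hAL : ∀ a, algebraMap A F a ∈ L := fun a => Subfield.subset_closure (Or.inl ⟨a, rfl⟩)
  let L' : Subalgebra A F := { L.toSubring with algebraMap_mem' := hAL }
  let D' : Subalgebra A S := D ⊓ L'.comap φ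
  have hD'D : D' ≤ D := inf_le_left
  have hsD' : (s : Set S) ⊆ D' := fun z hz => ⟨hs hz, Subfield.subset_closure (Or.inr ⟨z, hz, rfl⟩)⟩
  have hunit : ∀ d : D', IsUnit (d : S) → IsUnit d := fun d hd => by
    obtain ⟨u, hu⟩ := (isUnit_of_map_unit (algebraMap D S) ⟨(d : S), hD'D d.2⟩ hd).exists_right_inv
    have hu' : (d : S) * (u : S) = 1 := congrArg Subtype.val hu
    refine IsUnit.of_mul_eq_one ⟨(u : S), u.2, ?_⟩ (Subtype.ext hu')
    show φ (u : S) ∈ L
    rw [eq_inv_of_mul_eq_one_right (show φ (d : S) * φ (u : S) = 1 by rw [← map_mul, hu', map_one])]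
    exact inv_mem d.2.2
  haveI : IsLocalRing D' := IsLocalRing.of_isUnit_or_isUnit_one_sub_self fun d =>
    (IsLocalRing.isUnit_or_isUnit_one_sub_self (d : S)).imp (hunit d) (hunit (1 - d))
  haveI : IsLocalHom (algebraMap D' S) := ⟨fun d hd => hunit d hd⟩
  haveI : IsDomain D' := inferInstance
  haveI : IsIntegrallyClosed D' := by
    refine (isIntegrallyClosed_iff (FractionRing D')).2 fun {z} hz => ?_
    let ι : D' →+* D := (Subalgebra.inclusion hD'D).toRingHom
    have hιinj : Function.Injective ι := Subalgebra.inclusion_injective hD'D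
    let Φ : FractionRing D' →+* FractionRing D :=
      IsLocalization.map (FractionRing D) ι (nonZeroDivisors_le_comap_nonZeroDivisors_of_injective ι hιinj)
    obtain ⟨y, hy⟩ : ∃ y : D, algebraMap D (FractionRing D) y = Φ z := by
      refine IsIntegrallyClosed.isIntegral_iff.1 ?_
      obtain ⟨p, hp, hpz⟩ := hz
      refine ⟨p.map ι, hp.map _, ?_⟩
      rw [Polynomial.eval₂_map, show (algebraMap D (FractionRing D)).comp ι = Φ.comp (algebraMap D' (FractionRing D')) from
        (IsLocalization.map_comp _).symm, ← Polynomial.hom_eval₂, hpz, map_zero]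
    obtain ⟨a, b, rfl⟩ := IsLocalization.exists_mk'_eq (nonZeroDivisors D') z
    have h1 : ι (b : D') * y = ι a := by
      apply IsFractionRing.injective D (FractionRing D)
      rw [map_mul, hy, ← IsLocalization.map_eq (S := FractionRing D')
          (nonZeroDivisors_le_comap_nonZeroDivisors_of_injective ι hιinj) (b : D'), ← map_mul, IsLocalization.mk'_spec',
        IsLocalization.map_eq]
    have h2 : ((b : D') : S) * (y : S) = (a : S) := congrArg Subtype.val h1
    have hb0 : ((b : D') : S) ≠ 0 := fun h0 => nonZeroDivisors.ne_zero b.2 (Subtype.ext h0)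
    have hyL : φ (y : S) ∈ L := by
      rw [show φ (y : S) = φ (a : S) / φ ((b : D') : S) by
        rw [eq_div_iff ((map_ne_zero_iff _ hφ).2 hb0), ← map_mul, mul_comm, h2]]
      exact div_mem a.2.2 (b : D').2.2
    refine ⟨⟨(y : S), y.2, hyL⟩, ?_⟩
    rw [IsLocalization.eq_mk'_iff_mul_eq, ← map_mul]
    congr 1
    exact Subtype.ext (by rw [mul_comm] at h2; exact h2)
  refine ⟨D', hD'D, hsD', inferInstance, inferInstance, h.isEssentiallyEtale_of_normal D' s hsD' fun x hx => ?_⟩
  obtain ⟨p, hp, q, hq, hpq⟩ := Subfield.mem_closure_iff.1 hx.2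
  have hsub : Subring.closure (Set.range (algebraMap A F) ∪ φ '' (s : Set S)) ≤
      ((Algebra.adjoin A (s : Set S)).map φ).toSubring := Subring.closure_le.2 (by
    rintro _ (⟨a, rfl⟩ | ⟨w, hw, rfl⟩)
    · exact ((Algebra.adjoin A (s : Set S)).map φ).algebraMap_mem a
    · exact ⟨w, Algebra.subset_adjoin hw, rfl⟩)
  obtain ⟨p', hp', rfl⟩ := hsub hp
  obtain ⟨q', hq', rfl⟩ := hsub hq
  change φ p' / φ q' = φ x at hpq
  by_cases hq0 : q' = 0
  · refine ⟨1, one_ne_zero, ?_⟩
    rw [hq0, map_zero, div_zero] at hpq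
    rw [show x = 0 from hφ (hpq.symm.trans (map_zero φ).symm), mul_zero]
    exact zero_mem _
  refine h.exists_algebraMap_mul_mem _ hp' hq' hq0 (hφ ?_)
  rw [map_mul, ← hpq, mul_div_cancel₀ _ ((map_ne_zero_iff _ hφ).2 hq0)]

end Groth.Agent.Hensel.IsEtLike
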