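import Groth.Agent.Hensel.Basic
import Mathlib.LinearAlgebra.Matrix.Charpoly.LinearMap
import Mathlib.RingTheory.Flat.EquationalCriterion
import Mathlib.RingTheory.Nakayama

/-!
A rank one idempotent of a finite algebra modulo `I` lifts to a point, under Gabber's condition.
-/

namespace Groth.Agent.Hensel

open Polynomial

variable {A : Type*} [CommRing A] {I : Ideal A}
  {U : Type*} [CommRing U] [Algebra A U] [Module.Finite A U]

lemma exists_idempotent_of_rankOne (hG : GabberRoots A I) (hI : I ≤ Ideal.jacobson ⊥)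
    (e₀ : U) (σ : U →ₐ[A] A ⧸ I) (hσ : σ e₀ = 1)
    (hker : ∀ x, σ x = 0 → e₀ * x ∈ I.map (algebraMap A U)) :
    ∃ E : U, IsIdempotentElem E ∧ E - e₀ ∈ I.map (algebraMap A U) ∧ σ E = 1 ∧
      ∀ x : U, σ x = 0 → E * x ∈ I.map (algebraMap A U) := by
  classical
  set J := I.map (algebraMap A U) with hJdef
  have hσI : ∀ x ∈ J, σ x = 0 := fun x hx ↦ by
    have : J ≤ RingHom.ker σ.toRingHom := by
      rw [hJdef, Ideal.map_le_iff_le_comap]
      intro a ha; simp [Ideal.Quotient.eq_zero_iff_mem, ha]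
    exact this hx
  have hlift : ∀ x : U, ∃ w : A, Ideal.Quotient.mk I w = σ x :=
    fun x ↦ Ideal.Quotient.mk_surjective _
  choose w hw using hlift
  have hmul : ∀ x : U, e₀ * x - algebraMap A U (w x) * e₀ ∈ J := fun x ↦ by
    have := hker (x - algebraMap A U (w x)) (by simp [hw])
    simpa [mul_sub, mul_comm e₀ (algebraMap A U _)] using this
  have he₀ : e₀ * e₀ - e₀ ∈ J := by
    have h1 := hmul e₀
    have h2 : algebraMap A U (w e₀) - 1 ∈ J := by
      rw [← map_one (algebraMap A U), ← map_sub]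
      exact Ideal.mem_map_of_mem _ (Ideal.Quotient.eq.1 (by rw [hw, hσ, map_one]))
    have := J.add_mem h1 (J.mul_mem_right e₀ h2)
    convert this using 1; ring
  obtain ⟨N, g, hg⟩ := Module.Finite.exists_fin (R := A) (M := U)
  obtain ⟨v, hv⟩ := (Submodule.mem_span_range_iff_exists_fun A).1 (hg ▸ Submodule.mem_top : e₀ ∈ _)
  have hJmem : ∀ i, ∃ ε : Fin N → A, (∀ j, ε j ∈ I) ∧
      ∑ j, ε j • g j = e₀ * g i - algebraMap A U (w (g i)) * e₀ := by
    intro i
    have h : (e₀ * g i - algebraMap A U (w (g i)) * e₀) ∈ I • (⊤ : Submodule A U) := by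
      rw [Ideal.smul_top_eq_map]; exact hmul _
    rw [← hg, Submodule.mem_ideal_smul_span_iff_exists_sum] at h
    obtain ⟨a, ha, hsum⟩ := h
    refine ⟨a, ha, ?_⟩
    rw [← hsum, Finsupp.sum_fintype _ _ (fun _ ↦ by exact zero_smul _ _)]
  choose ε hε hεsum using hJmem
  let M : Matrix (Fin N) (Fin N) A := fun i j ↦ w (g i) * v j + ε i j
  let D : Matrix (Fin N) (Fin N) U := Matrix.scalar (Fin N) e₀ - M.map (algebraMap A U)
  have hD : D.mulVec g = 0 := by
    funext i
    have h1 : ∑ j, algebraMap A U (M i j) * g j = e₀ * g i := by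
      have : ∀ j, algebraMap A U (M i j) * g j =
          algebraMap A U (w (g i)) * (v j • g j) + ε i j • g j := fun j ↦ by
        simp only [M, map_add, map_mul, Algebra.smul_def]; ring
      simp only [this, Finset.sum_add_distrib, ← Finset.mul_sum, hv, hεsum]; ring
    simp only [D, Matrix.sub_mulVec, Pi.sub_apply, Matrix.scalar_apply, Matrix.mulVec_diagonal,
      Pi.zero_apply]
    rw [sub_eq_zero, ← h1]
    rfl
  have hdet : D.det = 0 := by
    have h2 : ∀ i, D.det * g i = 0 := fun i ↦ by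
      have := congrArg (fun F ↦ F i) (congrArg (Matrix.mulVec D.adjugate) hD)
      simpa [Matrix.mulVec_mulVec, Matrix.adjugate_mul, Matrix.smul_mulVec, Matrix.mulVec_zero]
        using this
    obtain ⟨c, hc⟩ := (Submodule.mem_span_range_iff_exists_fun A).1
      (hg ▸ Submodule.mem_top : (1 : U) ∈ _)
    calc D.det = D.det * ∑ i, c i • g i := by rw [hc, mul_one]
      _ = 0 := by simp [Finset.mul_sum, mul_smul_comm, h2]
  have hχ : aeval e₀ M.charpoly = 0 := by
    have : D.det = (M.map (algebraMap A U)).charpoly.eval e₀ := by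
      rw [Matrix.eval_charpoly]
    rw [hdet, Matrix.charpoly_map, eval_map] at this
    exact this.symm
  have hχmap : M.charpoly.map (Ideal.Quotient.mk I) * (X * X) = X ^ (N + 1) * (X - 1) := by
    rw [← Matrix.charpoly_map]
    have hM : M.map (Ideal.Quotient.mk I) = Matrix.vecMulVec (fun i ↦ σ (g i))
        (fun j ↦ Ideal.Quotient.mk I (v j)) := by
      ext i j
      simp [M, Matrix.vecMulVec, hw, Ideal.Quotient.eq_zero_iff_mem.2 (hε i j)]
    have hdot : (fun i ↦ σ (g i)) ⬝ᵥ (fun j ↦ Ideal.Quotient.mk I (v j)) = 1 := by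
      rw [← hσ, ← hv, map_sum]
      refine Finset.sum_congr rfl fun i _ ↦ ?_
      simp only [Algebra.smul_def, map_mul, AlgHom.commutes, Ideal.Quotient.algebraMap_eq]
      ring
    rw [hM, Matrix.charpoly_vecMulVec, hdot, one_smul, Fintype.card_fin]
    obtain _ | k := N
    · have : (0 : A ⧸ I) = 1 := by simpa [dotProduct] using hdot
      haveI : Subsingleton (A ⧸ I) := subsingleton_of_zero_eq_one this
      exact Subsingleton.elim _ _
    · simp only [add_tsub_cancel_right]; ring
  set P := M.charpoly * (X * X) with hP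
  let p := P - X ^ (N + 1) * (X - 1)
  have hp : ∀ i, p.coeff i ∈ I := by
    have h : p.map (Ideal.Quotient.mk I) = 0 := by
      simp [p, hP, Polynomial.map_sub, Polynomial.map_mul, ← hχmap]
    intro i
    rw [← Ideal.Quotient.eq_zero_iff_mem, ← coeff_map, h, coeff_zero]
  have hdeg : p.natDegree ≤ N + 1 := by
    obtain h | h := subsingleton_or_nontrivial A
    · simp [Subsingleton.elim p 0]
    refine natDegree_le_iff_coeff_eq_zero.2 fun i hi ↦ ?_
    have h1 : P.natDegree = N + 2 := by
      rw [hP, (M.charpoly_monic).natDegree_mul (monic_X.mul monic_X),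
        Matrix.charpoly_natDegree_eq_dim, Fintype.card_fin, monic_X.natDegree_mul monic_X]
      simp
    have h2 : (X ^ (N + 1) * (X - C (1 : A))).natDegree = N + 2 := by
      rw [(monic_X_pow _).natDegree_mul (monic_X_sub_C _), natDegree_X_pow, natDegree_X_sub_C]
    rw [coeff_sub, sub_eq_zero, ← map_one C]
    obtain rfl | hlt := (show N + 2 ≤ i by omega).eq_or_lt
    · conv_lhs => rw [← h1]
      conv_rhs => rw [← h2]
      rw [coeff_natDegree, coeff_natDegree, (M.charpoly_monic.mul (monic_X.mul monic_X)).leadingCoeff,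
        ((monic_X_pow _).mul (monic_X_sub_C (1 : A))).leadingCoeff]
    · rw [coeff_eq_zero_of_natDegree_lt (by omega), coeff_eq_zero_of_natDegree_lt (by omega)]
  obtain ⟨α, hα, hαroot⟩ := hG (N + 1) (by omega) p hdeg hp
  rw [show X ^ (N + 1) * (X - 1) + p = P by simp [p]] at hαroot
  obtain ⟨q, hq⟩ : (X - C α) ∣ P := dvd_iff_isRoot.2 hαroot
  have hqmap : q.map (Ideal.Quotient.mk I) = X ^ (N + 1) := by
    refine (monic_X_sub_C (1 : A ⧸ I)).isRegular.left ?_
    have := congr(Polynomial.map (Ideal.Quotient.mk I) $hq)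
    simp only [hP, Polynomial.map_mul, map_X, Polynomial.map_sub, map_C, hχmap,
      (Ideal.Quotient.eq.2 hα).trans (map_one _)] at this
    simpa [mul_comm] using this.symm
  have hqα : IsUnit (q.eval α) := by
    refine isUnit_of_mk hI ?_
    rw [← eval₂_at_apply, ← eval_map, hqmap]
    simp [(Ideal.Quotient.eq.2 hα).trans (map_one _)]
  obtain ⟨u, hu⟩ := hqα
  have hroot : (e₀ - algebraMap A U α) * aeval e₀ q = 0 := by
    have := congr(aeval e₀ $hq)
    simpa [hP, hχ] using this.symm
  let E := algebraMap A U (↑u⁻¹) * aeval e₀ q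
  have hE : IsIdempotentElem E := by
    obtain ⟨r, hr⟩ := sub_dvd_eval_sub e₀ (algebraMap A U α) (q.map (algebraMap A U))
    rw [eval_map, eval_map, eval₂_at_apply, ← hu] at hr
    change aeval e₀ q - algebraMap A U ↑u = _ at hr
    have h1 : aeval e₀ q * aeval e₀ q = algebraMap A U ↑u * aeval e₀ q := by
      linear_combination aeval e₀ q * hr + r * hroot
    have hone : algebraMap A U ↑u⁻¹ * algebraMap A U ↑u = 1 := by
      rw [← map_mul, Units.inv_mul, map_one]
    unfold IsIdempotentElem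
    simp only [E]
    linear_combination (algebraMap A U ↑u⁻¹ * algebraMap A U ↑u⁻¹) * h1 +
      (algebraMap A U ↑u⁻¹ * aeval e₀ q) * hone
  have hEe₀ : E - e₀ ∈ J := by
    rw [← Ideal.Quotient.eq]
    let π := Ideal.Quotient.mkₐ A J
    have hπI : ∀ a ∈ I, algebraMap A (U ⧸ J) a = 0 := fun a ha ↦ by
      rw [IsScalarTower.algebraMap_apply A U (U ⧸ J), Ideal.Quotient.algebraMap_eq,
        Ideal.Quotient.eq_zero_iff_mem]
      exact Ideal.mem_map_of_mem _ ha
    have hid : IsIdempotentElem (π e₀) := by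
      rw [IsIdempotentElem, ← map_mul]; exact Ideal.Quotient.eq.2 he₀
    let β : A ⧸ I →+* U ⧸ J := Ideal.Quotient.lift I (algebraMap A (U ⧸ J)) hπI
    have hβ : β.comp (Ideal.Quotient.mk I) = algebraMap A (U ⧸ J) := Ideal.Quotient.lift_comp_mk _ _ _
    have hπq : π (aeval e₀ q) = π e₀ := by
      rw [← aeval_algHom_apply, aeval_def, ← hβ, ← eval₂_map, hqmap, eval₂_X_pow, hid.pow_succ_eq]
    have huI : algebraMap A (U ⧸ J) ↑u⁻¹ = 1 := by
      have : Ideal.Quotient.mk I (↑u : A) = 1 := by
        rw [hu, ← eval₂_at_apply, ← eval_map, hqmap]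
        simp [(Ideal.Quotient.eq.2 hα).trans (map_one _)]
      have h2 : Ideal.Quotient.mk I (↑u⁻¹ : A) = 1 := by
        have h3 := congr(Ideal.Quotient.mk I $(u.inv_mul))
        rwa [map_mul, this, mul_one, map_one] at h3
      rw [← hβ, RingHom.comp_apply, h2, map_one]
    change π E = π e₀
    simp only [E, map_mul, hπq, AlgHom.commutes, huI, one_mul]
  have hσE : σ E = 1 := by
    have := hσI _ hEe₀
    rwa [map_sub, hσ, sub_eq_zero] at this
  refine ⟨E, hE, hEe₀, hσE, fun x hx ↦ ?_⟩
  have h2 := J.add_mem (J.mul_mem_right x hEe₀) (hker x hx)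
  convert! h2 using 1; ring

lemma exists_eq_algebraMap_mul_of_idempotent (hI : I ≤ Ideal.jacobson ⊥) {E : U}
    (hE : IsIdempotentElem E) (σ : U →ₐ[A] A ⧸ I)
    (hker : ∀ x, σ x = 0 → E * x ∈ I.map (algebraMap A U)) (x : U) :
    ∃ a : A, E * x = algebraMap A U a * E := by
  set J := I.map (algebraMap A U) with hJdef
  choose w hw using fun x : U ↦ Ideal.Quotient.mk_surjective (I := I) (σ x)
  have hle : LinearMap.range (LinearMap.mulLeft A E) ≤ Submodule.span A {E} := by
    refine Submodule.le_of_le_smul_of_le_jacobson_bot ?_ hI ?_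
    · rw [LinearMap.range_eq_map]; exact (Module.Finite.fg_top).map _
    rintro _ ⟨x, rfl⟩
    change E * x ∈ _
    have hmem : E * (x - algebraMap A U (w x)) ∈ J := hker _ (by simp [hw])
    have hsm : E * (E * (x - algebraMap A U (w x))) ∈
        I • LinearMap.range (LinearMap.mulLeft A E) := by
      rw [LinearMap.range_eq_map, ← Submodule.map_smul'']
      refine ⟨_, ?_, rfl⟩
      rw [Ideal.smul_top_eq_map]; exact hmem
    refine Submodule.mem_sup.2 ⟨algebraMap A U (w x) * E,
      Submodule.mem_span_singleton.2 ⟨w x, Algebra.smul_def _ _⟩, _, hsm, ?_⟩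
    linear_combination (x - algebraMap A U (w x)) * hE.eq
  obtain ⟨a, ha⟩ := Submodule.mem_span_singleton.1 (hle ⟨x, rfl⟩)
  exact ⟨a, by rw [← Algebra.smul_def]; exact ha.symm⟩

/-- An idempotent of rank one modulo `I` gives a point, as soon as the point extends to a flat
algebra under `U`. -/
lemma exists_algHom_of_idempotent (hI : I ≤ Ideal.jacobson ⊥)
    {U' : Type*} [CommRing U'] [Algebra A U'] [Module.Flat A U'] (ρ : U →ₐ[A] U')
    (σ' : U' →ₐ[A] A ⧸ I) {E : U} (hE : IsIdempotentElem E)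
    (σ : U →ₐ[A] A ⧸ I) (hρ : σ'.comp ρ = σ) (hσE : σ E = 1)
    (hker : ∀ x, σ x = 0 → E * x ∈ I.map (algebraMap A U)) :
    ∃ τ : U →ₐ[A] A, (Ideal.Quotient.mkₐ A I).comp τ = σ := by
  choose a ha using exists_eq_algebraMap_mul_of_idempotent hI hE σ hker
  have hinj : ∀ c : A, algebraMap A U c * E = 0 → c = 0 := by
    intro c hc
    have h0 : ∑ i : Fin 1, (fun _ ↦ c) i • (fun _ ↦ ρ E) i = 0 := by
      rw [Fin.sum_univ_one, ← map_smul, Algebra.smul_def, hc, map_zero]
    obtain ⟨κ, b, y, hy, hb⟩ := Module.Flat.isTrivialRelation_of_sum_smul_eq_zero h0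
    choose w hw using fun j ↦ Ideal.Quotient.mk_surjective (I := I) (σ' (y j))
    have h1 : IsUnit (∑ j, b 0 j * w j) := by
      refine isUnit_of_mk hI ?_
      have := congr(σ' $(hy 0))
      rw [← AlgHom.comp_apply, hρ, hσE, map_sum] at this
      simp only [Algebra.smul_def, map_mul, AlgHom.commutes, Ideal.Quotient.algebraMap_eq] at this
      simp only [map_sum, map_mul, hw, ← this, isUnit_one]
    have h2 : c * (∑ j, b 0 j * w j) = 0 := by
      simp only [Finset.mul_sum, ← mul_assoc]
      refine Finset.sum_eq_zero fun j _ ↦ ?_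
      have := hb j
      simp at this
      simp [this]
    exact h1.mul_left_eq_zero.1 h2
  have hext : ∀ x c, E * x = algebraMap A U c * E → a x = c := fun x c h ↦ by
    refine sub_eq_zero.1 (hinj _ ?_)
    rw [map_sub, sub_mul, ← ha, h, sub_self]
  let τ : U →ₐ[A] A :=
    { toFun := a
      map_one' := hext _ _ (by simp)
      map_mul' := fun x y ↦ hext _ _ (by
        rw [map_mul]
        calc E * (x * y) = (E * x) * (E * y) := by linear_combination (-(x * y)) * hE.eq
          _ = _ := by rw [ha, ha]; linear_combination algebraMap A U (a x) * algebraMap A U (a y) * hE.eq)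
      map_zero' := hext _ _ (by simp)
      map_add' := fun x y ↦ hext _ _ (by rw [mul_add, ha, ha, map_add, add_mul])
      commutes' := fun c ↦ hext _ _ (by simp [mul_comm]) }
  refine ⟨τ, AlgHom.ext fun x ↦ ?_⟩
  have := congr(σ $(ha x))
  simpa [hσE, τ] using this.symm

/-- A rank one idempotent modulo `I` of a finite algebra gives a point, as soon as the point
extends to a flat algebra under `U`. -/
lemma exists_algHom_of_rankOne (hG : GabberRoots A I) (hI : I ≤ Ideal.jacobson ⊥)
    {U' : Type*} [CommRing U'] [Algebra A U'] [Module.Flat A U'] (ρ : U →ₐ[A] U')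
    (σ' : U' →ₐ[A] A ⧸ I)
    (e₀ : U) (σ : U →ₐ[A] A ⧸ I) (hρ : σ'.comp ρ = σ) (hσ : σ e₀ = 1)
    (hker : ∀ x, σ x = 0 → e₀ * x ∈ I.map (algebraMap A U)) :
    ∃ τ : U →ₐ[A] A, (Ideal.Quotient.mkₐ A I).comp τ = σ := by
  obtain ⟨E, hE, -, hσE, hEx⟩ := exists_idempotent_of_rankOne hG hI e₀ σ hσ hker
  exact exists_algHom_of_idempotent hI ρ σ' hE σ hρ hσE hEx

end Groth.Agent.Hensel
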