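import Groth.Agent.Hensel.Local
import Mathlib.FieldTheory.IsSepClosed
import Mathlib.RingTheory.Unramified.Field

/-!
Points of etale algebras over local rings with separably closed residue field.
-/

namespace Groth.Agent.Hensel

open IsLocalRing TensorProduct

universe u v

/-- A point of an unramified algebra in an extension of a separably closed residue field takes
values in the residue field. -/
theorem mem_range_of_point_of_sepClosed {R : Type u} [CommRing R] [IsLocalRing R]
    [IsSepClosed (ResidueField R)] {E : Type u} [CommRing E] [Algebra R E] [Algebra.Unramified R E]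
    {L : Type u} [Field L] [Algebra (ResidueField R) L] [Algebra R L]
    [IsScalarTower R (ResidueField R) L] (σ : E →ₐ[R] L) (x : E) :
    σ x ∈ Set.range (algebraMap (ResidueField R) L) := by
  let φ : ResidueField R ⊗[R] E →ₐ[ResidueField R] L :=
    Algebra.TensorProduct.lift (Algebra.ofId (ResidueField R) L) σ fun _ _ ↦ .all _ _
  haveI : Algebra.Unramified (ResidueField R) (ResidueField R ⊗[R] E) := inferInstance
  let K := φ.range
  haveI : Algebra.FormallyUnramified (ResidueField R) K :=
    Algebra.FormallyUnramified.of_surjective φ.rangeRestrict φ.rangeRestrict_surjective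
  haveI : Algebra.FiniteType (ResidueField R) K :=
    Algebra.FiniteType.of_surjective φ.rangeRestrict φ.rangeRestrict_surjective
  haveI : Module.Finite (ResidueField R) K := Algebra.FormallyUnramified.finite_of_free _ _
  haveI : IsDomain K := inferInstance
  let _ : Field K :=
    (isField_of_isIntegral_of_isField' (R := ResidueField R) (Field.toIsField _)).toField
  haveI : Algebra.IsSeparable (ResidueField R) K := Algebra.FormallyUnramified.isSeparable _ _
  obtain ⟨a, ha⟩ := IsSepClosed.algebraMap_surjective (ResidueField R) K
    ⟨σ x, ⟨1 ⊗ₜ x, by simp [φ]⟩⟩
  exact ⟨a, congrArg Subtype.val ha⟩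

end Groth.Agent.Hensel
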